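import Cfsg.Agent.Lib.U3F.Defs
import Cfsg.Agent.Lib.Transfer.Thompson

/-!
# General group-theoretic lemmas
-/

set_option autoImplicit false

namespace Cfsg.Lib.U3F
open Subgroup Cfsg.Lib Cfsg.Lib.FT Cfsg.Lib.TwoL

variable {G : Type*} [Group G]

theorem Idx2.refl (X : Subgroup G) : Idx2 X X := ⟨le_rfl, fun _ h _ _ => .inl h⟩

theorem Idx2.inf {X' X Y : Subgroup G} (h : Idx2 X' X) (hY : Y ≤ X) : Idx2 (X' ⊓ Y) Y :=
  ⟨inf_le_right, fun x hx y hy => (h.2 x (hY hx) y (hY hy)).imp (⟨·, hx⟩) (·.imp (⟨·, hy⟩) (⟨·, mul_mem hx hy⟩))⟩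

theorem Idx2.mul {X' X : Subgroup G} (h : Idx2 X' X) {x y : G} (hx : x ∈ X) (hy : y ∈ X) (x1 : x ∉ X')
    (y1 : y ∉ X') : x * y ∈ X' := ((h.2 x hx y hy).resolve_left x1).resolve_left y1

theorem Idx2.relIndex_le {X' X : Subgroup G} (h : Idx2 X' X) : X'.relIndex X = 1 ∨ X'.relIndex X = 2 := by
  by_cases hle : X ≤ X'
  · exact .inl (relIndex_eq_one.2 hle)
  obtain ⟨a, ha, hn⟩ := SetLike.not_le_iff_exists.1 hle
  refine .inr (index_eq_two_iff.2 ⟨⟨a, ha⟩, fun b => ?_⟩)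
  by_cases hb : (b : G) ∈ X'
  · exact .inr ⟨hb, fun e => hn ((mul_mem_cancel_left hb).1 e)⟩
  · exact .inl ⟨h.mul b.2 ha hb hn, hb⟩

theorem idx2_of_relIndex {X' X : Subgroup G} (hle : X' ≤ X) (h : X'.relIndex X = 1 ∨ X'.relIndex X = 2) :
    Idx2 X' X := by
  refine ⟨hle, fun x hx y hy => ?_⟩
  rcases h with h | h
  · exact .inl (relIndex_eq_one.1 h hx)
  · have := mul_mem_iff_of_index_two (H := X'.subgroupOf X) h (a := ⟨x, hx⟩) (b := ⟨y, hy⟩)
    simp only [mem_subgroupOf, coe_mul] at this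
    tauto

theorem comm_mem_of_sq {X K : Subgroup G} (hsq : ∀ x ∈ X, x * x ∈ K) {x y : G} (hx : x ∈ X) (hy : y ∈ X) :
    x * y * x⁻¹ * y⁻¹ ∈ K := by
  have := mul_mem (mul_mem (hsq x hx) (hsq _ (mul_mem (inv_mem hx) hy))) (hsq _ (inv_mem hy))
  rwa [show x * x * (x⁻¹ * y * (x⁻¹ * y)) * (y⁻¹ * y⁻¹) = x * y * x⁻¹ * y⁻¹ by group] at this

theorem conj_mem_of_sq {X K : Subgroup G} (hle : K ≤ X) (hsq : ∀ x ∈ X, x * x ∈ K) {x y : G} (hx : x ∈ X)
    (hy : y ∈ K) : x * y * x⁻¹ ∈ K := by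
  simpa using mul_mem (comm_mem_of_sq hsq hx (hle hy)) hy

variable [Finite G]

theorem relIndex_eq_of_card {X Y K : Subgroup G} (h : Nat.card X = Nat.card Y) (hX : K ≤ X) (hY : K ≤ Y) :
    K.relIndex X = K.relIndex Y :=
  Nat.eq_of_mul_eq_mul_right Nat.card_pos ((relIndex_mul_card hX).trans (h.trans (relIndex_mul_card hY).symm))

theorem relIndex_lt' {X₀ X₁ X : Subgroup G} (h : X₀ < X₁) (h1 : X₁ ≤ X) : X₁.relIndex X < X₀.relIndex X := by
  have a := relIndex_mul_card h1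
  have b := relIndex_mul_card (h.le.trans h1)
  have c : Nat.card X₀ < Nat.card X₁ :=
    (card_le_of_le h.le).lt_of_ne fun e => h.ne (eq_of_le_of_card_ge h.le e.ge)
  have d : 0 < X₁.relIndex X := Nat.pos_of_ne_zero (index_ne_zero_of_finite (H := X₁.subgroupOf X))
  by_contra! e
  nlinarith

omit [Finite G] in
theorem orderOf_cj (g x : G) : orderOf (g * x * g⁻¹) = orderOf x := (MulAut.conj g).orderOf_eq x

omit [Finite G] in
/-- pigeonhole for a subgroup of index at most four containing all squares -/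
theorem ph4 [Finite G] {K X : Subgroup G} (h : K.relIndex X ≤ 4) (hsq : ∀ x ∈ X, x * x ∈ K) {a b c : G} (ha : a ∈ X)
    (hb : b ∈ X) (hc : c ∈ X) :
    a ∈ K ∨ b ∈ K ∨ a * b ∈ K ∨ c ∈ K ∨ a * c ∈ K ∨ b * c ∈ K ∨ a * b * c ∈ K := by
  by_contra! hn
  obtain ⟨n1, n2, n3, n4, n5, n6, n7⟩ := hn
  have hK : (K.subgroupOf X).Normal := ⟨fun y hy x => by
    simpa [mem_subgroupOf] using mul_mem (comm_mem_of_sq hsq x.2 y.2) hy⟩
  let π := QuotientGroup.mk' (K.subgroupOf X)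
  have e1 : ∀ x : X, π x = 1 ↔ (x : G) ∈ K := fun x => QuotientGroup.eq_one_iff x
  have sq : ∀ x : X, π x * π x = 1 := fun x => by rw [← map_mul, e1]; exact hsq x x.2
  have ne : ∀ x y : X, (x : G) * y ∉ K → π x ≠ π y := fun x y h e => h ((e1 (x * y)).1 (by rw [map_mul, e, sq]))
  have cm : ∀ x y : X, π x * π y = π y * π x := fun x y => by
    rw [← mul_inv_eq_one, mul_inv_rev, ← mul_assoc, ← map_inv, ← map_inv, ← map_mul, ← map_mul, ← map_mul, e1]
    exact comm_mem_of_sq hsq x.2 y.2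
  classical
  have := Fintype.ofFinite (X ⧸ K.subgroupOf X)
  let A : X := ⟨a, ha⟩
  let B : X := ⟨b, hb⟩
  let C : X := ⟨c, hc⟩
  have h5 : ({π 1, π A, π B, π (A * B), π C} : Finset _).card = 5 := by
    have t1 := ne 1 A (by simpa using n1)
    have t2 := ne 1 B (by simpa using n2)
    have t3 := ne 1 (A * B) (by simpa using n3)
    have t4 := ne 1 C (by simpa using n4)
    have t5 := ne A B n3
    have t6 : π A ≠ π (A * B) := fun e => t2 (by rw [map_mul, left_eq_mul] at e; rw [e, map_one])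
    have t7 := ne A C n5
    have t8 : π B ≠ π (A * B) := fun e => t1 (by rw [map_mul, right_eq_mul] at e; rw [e, map_one])
    have t9 := ne B C n6
    have t10 := ne (A * B) C n7
    rw [Finset.card_insert_of_notMem (by simp only [Finset.mem_insert, Finset.mem_singleton]; tauto),
      Finset.card_insert_of_notMem (by simp only [Finset.mem_insert, Finset.mem_singleton]; tauto),
      Finset.card_insert_of_notMem (by simp only [Finset.mem_insert, Finset.mem_singleton]; tauto),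
      Finset.card_pair t10]
  have := Finset.card_le_univ ({π 1, π A, π B, π (A * B), π C} : Finset _)
  rw [h5, ← Nat.card_eq_fintype_card] at this
  exact absurd (this.trans h) (by decide)

/-- extension of additive coordinates -/
theorem ext_hom0 {F : Type*} [Field F] (h2 : (2 : F) = 0) {X : Subgroup G} {V : AddSubgroup F} (n : ℕ) :
    ∀ {X₀ : Subgroup G} {f₀ : G → F}, X₀.relIndex X = n → X₀ ≤ X →
      (∀ x ∈ X₀, ∀ y ∈ X₀, f₀ (x * y) = f₀ x + f₀ y) → (∀ x ∈ X, x * x ∈ X₀ ∧ f₀ (x * x) = 0) →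
      (∀ x ∈ X₀, f₀ x ∈ V) →
      ∃ f : G → F, (∀ x ∈ X, ∀ y ∈ X, f (x * y) = f x + f y) ∧ (∀ x ∈ X₀, f x = f₀ x) ∧ ∀ x ∈ X, f x ∈ V := by
  induction n using Nat.strong_induction_on with
  | _ n ih =>
  intro X₀ f₀ hn hle h0 hsq hV
  by_cases h : X ≤ X₀
  · exact ⟨f₀, fun x hx y hy => h0 x (h hx) y (h hy), fun _ _ => rfl, fun x hx => hV x (h hx)⟩
  obtain ⟨a, ha, na⟩ := SetLike.not_le_iff_exists.1 h
  have cj : ∀ x ∈ X, ∀ y ∈ X₀, x * y * x⁻¹ ∈ X₀ := fun x hx y hy =>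
    conj_mem_of_sq hle (fun x hx => (hsq x hx).1) hx hy
  have f1 : f₀ 1 = 0 := by simpa using (hsq 1 (one_mem _)).2
  have fc : ∀ x ∈ X, ∀ y ∈ X₀, f₀ (x * y * x⁻¹) = f₀ y := fun x hx y hy => by
    have e1 := hsq x hx
    have e2 := hsq _ (mul_mem (inv_mem hx) (hle hy))
    have e3 := hsq _ (inv_mem (hle hy))
    rw [show x * y * x⁻¹ = x * x * (x⁻¹ * y * (x⁻¹ * y)) * (y⁻¹ * y⁻¹) * y by group,
      h0 _ (mul_mem (mul_mem e1.1 e2.1) e3.1) y hy, h0 _ (mul_mem e1.1 e2.1) _ e3.1, h0 _ e1.1 _ e2.1, e1.2, e2.2,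
      e3.2]
    simp
  have a2 := hsq a ha
  let X₁ : Subgroup G :=
    { carrier := {x | x ∈ X₀ ∨ a * x ∈ X₀}
      one_mem' := .inl (one_mem _)
      mul_mem' := by
        rintro x y (hx | hx) (hy | hy)
        · exact .inl (mul_mem hx hy)
        · exact .inr (by simpa [mul_assoc] using mul_mem (cj a ha x hx) hy)
        · exact .inr (by simpa [mul_assoc] using mul_mem hx hy)
        · exact .inl (by simpa [mul_assoc] using mul_mem (mul_mem (inv_mem a2.1) (cj a ha _ hx)) hy)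
      inv_mem' := by
        rintro x (hx | hx)
        · exact .inl (inv_mem hx)
        · exact .inr (by simpa [mul_assoc] using mul_mem (cj a ha _ (inv_mem hx)) a2.1) }
  have hle1 : X₁ ≤ X := by
    rintro x (hx | hx)
    · exact hle hx
    · exact (mul_mem_cancel_left ha).1 (hle hx)
  have lt : X₀ < X₁ := lt_of_le_not_ge (fun _ h => .inl h) fun e => na (e (.inr a2.1))
  classical
  obtain ⟨f, g1, g2, g3⟩ := ih (X₁.relIndex X) (hn ▸ relIndex_lt' lt hle1) (X₀ := X₁)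
    (f₀ := fun x => if x ∈ X₀ then f₀ x else f₀ (a * x)) rfl hle1 (fun x hx y hy => by
      by_cases x0 : x ∈ X₀ <;> by_cases y0 : y ∈ X₀
      · simp only [x0, y0, mul_mem x0 y0, if_true, h0 x x0 y y0]
      · simp only [x0, y0, mul_mem_cancel_left x0, if_true, if_false]
        rw [← fc a ha x x0, ← h0 _ (cj a ha x x0) _ (hy.resolve_left y0)]; congr 1; group
      · simp only [x0, y0, mul_mem_cancel_right y0, if_true, if_false]
        rw [← h0 _ (hx.resolve_left x0) y y0, mul_assoc]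
      · have x1 := hx.resolve_left x0
        have y1 := hy.resolve_left y0
        have e : x * y = (a * a)⁻¹ * (a * (a * x) * a⁻¹ * (a * y)) := by group
        have m1 := mul_mem (cj a ha _ x1) y1
        have i1 := h0 _ a2.1 _ (inv_mem a2.1)
        rw [mul_inv_cancel, f1, a2.2, zero_add] at i1
        simp only [x0, y0, if_false]
        rw [if_pos (e ▸ mul_mem (inv_mem a2.1) m1), e, h0 _ (inv_mem a2.1) _ m1, ← i1, zero_add,
          h0 _ (cj a ha _ x1) _ y1, fc a ha _ x1])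
    (fun x hx => ⟨.inl (hsq x hx).1, by simp only [(hsq x hx).1, if_true, (hsq x hx).2]⟩) fun x hx => by
      by_cases x0 : x ∈ X₀
      · simp only [x0, if_true, hV x x0]
      · simp only [x0, if_false, hV _ (hx.resolve_left x0)]
  exact ⟨f, g1, fun x hx => by rw [g2 x (.inl hx), if_pos hx], g3⟩

/-- equivariant extension of additive coordinates -/
theorem ext_hom {F : Type*} [Field F] (h2 : (2 : F) = 0) {X X₀ : Subgroup G} (hle : X₀ ≤ X) {f₀ : G → F}
    (h0 : ∀ x ∈ X₀, ∀ y ∈ X₀, f₀ (x * y) = f₀ x + f₀ y) (hsq : ∀ x ∈ X, x * x ∈ X₀ ∧ f₀ (x * x) = 0)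
    {V : AddSubgroup F} (hV : ∀ x ∈ X₀, f₀ x ∈ V) {ρ : G} (hρ : ρ ∈ N[X]) (hρ0 : ρ ∈ N[X₀])
    (ho : Odd (orderOf ρ)) {c : F} (hc : c ^ orderOf ρ = 1) (hcV : ∀ v ∈ V, c * v ∈ V)
    (he : ∀ x ∈ X₀, f₀ (ρ * x * ρ⁻¹) = c * f₀ x) :
    ∃ f : G → F, (∀ x ∈ X, ∀ y ∈ X, f (x * y) = f x + f y) ∧ (∀ x ∈ X₀, f x = f₀ x) ∧ (∀ x ∈ X, f x ∈ V) ∧
      ∀ x ∈ X, f (ρ * x * ρ⁻¹) = c * f x := by
  obtain ⟨f, f1, f2, f3⟩ := ext_hom0 h2 _ rfl hle h0 hsq hV
  have hp : ∀ (i : ℕ), ∀ v ∈ V, c ^ i * v ∈ V := fun i v hv => by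
    induction i with
    | zero => simpa
    | succ i ih => rw [pow_succ', mul_assoc]; exact hcV _ ih
  have hm : ∀ (i : ℕ), ∀ x ∈ X, (ρ ^ i)⁻¹ * x * ρ ^ i ∈ X := fun i x hx => cj' (pow_mem hρ i) hx
  refine ⟨fun x => ∑ i ∈ Finset.range (orderOf ρ), c ^ i * f ((ρ ^ i)⁻¹ * x * ρ ^ i), fun x hx y hy => ?_,
    fun x hx => ?_, fun x hx => sum_mem fun i _ => hp i _ (f3 _ (hm i x hx)), fun x hx => ?_⟩
  · rw [← Finset.sum_add_distrib]
    refine Finset.sum_congr rfl fun i _ => ?_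
    rw [← mul_add, ← f1 _ (hm i x hx) _ (hm i y hy)]; congr 2; group
  · have : ∀ i : ℕ, c ^ i * f ((ρ ^ i)⁻¹ * x * ρ ^ i) = f₀ x := fun i => by
      rw [f2 _ (cj' (pow_mem hρ0 i) hx)]
      induction i with
      | zero => simp
      | succ i ih =>
        rw [← ih, pow_succ c, mul_assoc, ← he _ (cj' (pow_mem hρ0 _) hx)]; congr 2; group
    obtain ⟨m, hm⟩ := ho
    simp only [this, Finset.sum_const, Finset.card_range, hm, nsmul_eq_mul]
    push_cast; rw [h2]; ring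
  · have e := (Finset.sum_range_succ' (fun i => c ^ i * f ((ρ ^ i)⁻¹ * (ρ * x * ρ⁻¹) * ρ ^ i)) (orderOf ρ)).symm.trans
      (Finset.sum_range_succ _ _)
    rw [hc, pow_orderOf_eq_one, pow_zero, pow_zero, add_left_inj] at e
    beta_reduce
    rw [← e, Finset.mul_sum]
    refine Finset.sum_congr rfl fun i _ => ?_
    rw [pow_succ' c, mul_assoc c]; congr 3; group

omit [Finite G] in
/-- the map induced on coordinates by a homomorphism `φ` on `X` -/
theorem ind {F : Type*} [Field F] {X : Subgroup G} {f φ : G → F} (hf : ∀ x ∈ X, ∀ y ∈ X, f (x * y) = f x + f y)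
    (hφ : ∀ x ∈ X, ∀ y ∈ X, φ (x * y) = φ x + φ y) (hk : ∀ x ∈ X, f x = 0 → φ x = 0) :
    ∃ θ : F → F, (∀ x ∈ X, φ x = θ (f x)) ∧ ∀ x ∈ X, ∀ y ∈ X, θ (f x + f y) = θ (f x) + θ (f y) := by
  classical
  have key : ∀ x ∈ X, ∀ y ∈ X, f x = f y → φ x = φ y := fun x hx y hy e => by
    have h1 := hf _ (mul_mem hx (inv_mem hy)) y hy
    have h3 := hφ _ (mul_mem hx (inv_mem hy)) y hy
    rw [inv_mul_cancel_right] at h1 h3
    rw [h3, hk _ (mul_mem hx (inv_mem hy)) (by linear_combination e - h1), zero_add]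
  obtain ⟨θ, h1⟩ : ∃ θ : F → F, ∀ x ∈ X, φ x = θ (f x) :=
    ⟨fun a => if h : ∃ x ∈ X, f x = a then φ h.choose else 0, fun x hx => by
      have h : ∃ y ∈ X, f y = f x := ⟨x, hx, rfl⟩
      simp only [dif_pos h]
      exact key _ hx _ h.choose_spec.1 h.choose_spec.2.symm⟩
  exact ⟨θ, h1, fun x hx y hy => by rw [← hf x hx y hy, ← h1 _ (mul_mem hx hy), ← h1 x hx, ← h1 y hy, hφ x hx y hy]⟩

omit [Finite G] in
theorem odd_order_of_mem {O : Subgroup G} (ho : Odd (Nat.card O)) {o : G} (h : o ∈ O) : Odd (orderOf o) :=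
  ho.of_dvd_nat (O.orderOf_dvd_natCard h)

omit [Finite G] in
theorem P2.eq_one_of_mul {k o : G} (hk : P2 k) (h : P2 (k * o)) (c : k * o = o * k) (ho : Odd (orderOf o)) :
    o = 1 := by
  refine P2.eq_one ?_ ho
  obtain ⟨n, hn⟩ := hk
  have := P2.mul (x := k⁻¹) ⟨n, by rw [inv_pow, hn, inv_one]⟩ h (by rw [inv_mul_cancel_left, c, mul_inv_cancel_right])
  simpa using this

omit [Finite G] in
/-- elements of odd order of `K × O`, `K` a 2-group, lie in `O` -/
theorem eq_one_of_odd_mul {k o : G} (hk : P2 k) (c : k * o = o * k) (ho : Odd (orderOf o))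
    (h : Odd (orderOf (k * o))) : k = 1 := by
  refine hk.eq_one (Odd.of_dvd_nat (h.mul ho) (orderOf_dvd_of_pow_eq_one ?_))
  have e := (Commute.mul_pow c (orderOf (k * o) * orderOf o)).symm
  rwa [pow_mul (k * o), pow_orderOf_eq_one, one_pow, mul_comm _ (orderOf o), pow_mul o, pow_orderOf_eq_one, one_pow,
    mul_one, mul_comm] at e

/-- the 2-elements of a "stability group" form a subgroup -/
theorem stab {F : Type*} [Field F] (h2 : (2 : F) = 0) {H K O : Subgroup G} {ρ : G} (hK : IsPGroup 2 K)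
    (hKH : K ≤ H) (hOH : O ≤ H) (ho : Odd (Nat.card O)) (hOK : O ≤ C[K]) (hOO : O ≤ C[O]) (hρO : ρ ∈ C[O])
    (hρ : ρ ∈ N[H]) {f : G → F} (hf : ∀ x ∈ H, ∀ y ∈ H, f (x * y) = f x + f y) (fO : ∀ o ∈ O, f o = 0)
    (hker : ∀ g ∈ H, f g = 0 → ∃ k ∈ K, ∃ o ∈ O, g = k * o)
    (hdiv : ∀ g ∈ H, ∃ g' ∈ H, f (ρ * g' * ρ⁻¹ * g'⁻¹) = f g) :
    ∃ M : Subgroup G, IsPGroup 2 M ∧ (∀ x, x ∈ M ↔ x ∈ H ∧ P2 x) ∧ O ≤ C[H] ∧
      ∀ h ∈ H, ∃ m ∈ M, ∃ o ∈ O, h = m * o := by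
  have fi : ∀ x ∈ H, f x⁻¹ = f x := fun x hx => by
    have := hf x hx _ (inv_mem hx)
    rw [mul_inv_cancel, fO 1 (one_mem _)] at this
    linear_combination -this - f x * h2
  have ko : ∀ k ∈ K, ∀ o ∈ O, k * o = o * k := fun k hk o h => mem_centralizer_iff.1 (hOK h) k hk
  have nO : ∀ g ∈ H, ∀ o ∈ O, g * o * g⁻¹ ∈ O := fun g hg o h => by
    obtain ⟨k, hk, o', h', e⟩ := hker _ (mul_mem (mul_mem hg (hOH h)) (inv_mem hg)) (by
      rw [hf _ (mul_mem hg (hOH h)) _ (inv_mem hg), hf g hg o (hOH h), fi g hg, fO o h]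
      linear_combination f g * h2)
    have := eq_one_of_odd_mul (p2_of_mem hK hk) (ko k hk o' h') (odd_order_of_mem ho h') (by
      rw [← e, orderOf_cj]; exact odd_order_of_mem ho h)
    rwa [e, this, one_mul]
  have cO : O ≤ C[H] := fun o h => mem_centralizer_iff.2 fun g hg => by
    obtain ⟨g', hg', e⟩ := hdiv g hg
    have m1 := mul_mem (cj hρ hg') (inv_mem hg')
    obtain ⟨k, hk, o', h', e'⟩ := hker _ (mul_mem (inv_mem m1) hg) (by
      rw [hf _ (inv_mem m1) g hg, fi _ m1, e]; linear_combination f g * h2)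
    have c1 : ρ * g' * ρ⁻¹ * g'⁻¹ ∈ C[O] := mem_c fun x hx => by
      have a1 := cc hρO (show g'⁻¹ * x * g' ∈ O by simpa using nO _ (inv_mem hg') x hx)
      have a2 := cc hρO hx
      calc _ = ρ * g' * (ρ⁻¹ * (g'⁻¹ * x * g') * ρ) * g'⁻¹ * ρ⁻¹ := by group
        _ = ρ * g' * (ρ⁻¹ * (ρ * (g'⁻¹ * x * g') * ρ⁻¹) * ρ) * g'⁻¹ * ρ⁻¹ := by rw [a1]
        _ = ρ * x * ρ⁻¹ := by group
        _ = x := a2
    have c2 : g ∈ C[O] := by
      rw [← mul_inv_cancel_left (ρ * g' * ρ⁻¹ * g'⁻¹) g, e']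
      exact mul_mem c1 (mul_mem (le_centralizer_iff.1 hOK hk) (hOO h'))
    exact (mem_centralizer_iff.1 c2 o h).symm
  have pw : ∀ g ∈ H, ∃ n : ℕ, g ^ 2 ^ n ∈ O := fun g hg => by
    obtain ⟨k, hk, o, h, e⟩ := hker _ (mul_mem hg hg) (by rw [hf g hg g hg]; linear_combination f g * h2)
    obtain ⟨n, hn⟩ := p2_of_mem hK hk
    refine ⟨n + 1, ?_⟩
    rw [pow_succ', pow_mul, sq, e, Commute.mul_pow (ko k hk o h), hn, one_mul]
    exact pow_mem h _
  obtain ⟨M, hM⟩ := exists_isSylowIn 2 H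
  have dec : ∀ h ∈ H, ∃ m ∈ M, ∃ o ∈ O, h = m * o := fun h hh => by
    obtain ⟨c, hc, e⟩ := hM.exists_mul_of_pow_mem (K := O) (fun g hg => mem_n (nO g hg)) pw h hh
    exact ⟨_, e, c, hc, by rw [mul_assoc, mem_centralizer_iff.1 (cO hc) h hh]; group⟩
  refine ⟨M, hM.isPGroup, fun x => ⟨fun hx => ⟨hM.le hx, p2_of_mem hM.isPGroup hx⟩, fun hx => ?_⟩, cO, dec⟩
  obtain ⟨m, hm, o, h, rfl⟩ := dec x hx.1
  rwa [P2.eq_one_of_mul (p2_of_mem hM.isPGroup hm) hx.2 (mem_centralizer_iff.1 (cO h) m (hM.le hm))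
    (odd_order_of_mem ho h), mul_one]

/-- extremal conjugation of a 2-central element -/
theorem extremal {S : Subgroup G} (hS : IsSylowIn 2 S ⊤) {z a g : G} (hz : z ∈ C[S]) (e : g * z * g⁻¹ = a) :
    ∃ h : G, h * a * h⁻¹ = z ∧ ∀ x ∈ S, x * a = a * x → h * x * h⁻¹ ∈ S := by
  have h1 : IsSylowIn 2 S C1[z] := ⟨fun x hx => mem_C1.2 (mem_centralizer_iff.1 hz x hx), hS.isPGroup,
    fun R h1 _ h3 => hS.maximal R h1 le_top h3⟩
  obtain ⟨k, hk, h⟩ := h1.exists_conj_le (U := (S ⊓ C1[a]).map (MulAut.conj g⁻¹).toMonoidHom)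
    (hS.isPGroup.to_inf_left.map _) (by
      rintro _ ⟨x, hx, rfl⟩
      have := mem_C1.1 hx.2
      rw [← e] at this
      refine mem_C1.2 ?_
      calc _ = g⁻¹ * (x * (g * z * g⁻¹)) * g := by simp [mul_assoc]
        _ = _ := by rw [this]; simp [mul_assoc])
  refine ⟨k * g⁻¹, ?_, fun x hx c => ?_⟩
  · rw [← e, show k * g⁻¹ * (g * z * g⁻¹) * (k * g⁻¹)⁻¹ = k * z * k⁻¹ by group, mem_C1.1 hk, mul_inv_cancel_right]
  · simpa [mul_assoc] using h ⟨_, ⟨x, ⟨hx, mem_C1.2 c⟩, rfl⟩, rfl⟩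

/-- Sylow criterion -/
theorem syl_of_norm {S : Subgroup G} (hS : IsPGroup 2 S)
    (h : ∀ P : Subgroup G, IsPGroup 2 P → S ≤ P → ∀ g ∈ P, g ∈ N[S] → g ∈ S) : IsSylowIn 2 S ⊤ :=
  ⟨le_top, hS, fun P hP _ hle => by
    by_contra hne
    have := lt_inf_normalizer hP.isNilpotent (lt_of_le_of_ne hle (Ne.symm hne))
    exact this.not_ge fun g hg => h P hP hle g hg.1 hg.2⟩

/-- Thompson transfer, extremal form -/
theorem thompson2 {S M T : Subgroup G} (hS : IsSylowIn 2 S ⊤) (hM : Idx2 M S) {t : G} (ht : t * t = 1)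
    (htS : t ∈ S) (htM : t ∉ M) (hT : IsSylowIn 2 T C1[t]) (hG : ∀ φ : G →* ℤˣ, φ t = 1) :
    ∃ h : G, h * t * h⁻¹ ∈ M ∧ ∀ x ∈ T, h * x * h⁻¹ ∈ S := by
  classical
  obtain ⟨S, rfl⟩ := hS.exists_sylow_top
  have hMS := hM.1
  have h := hM.relIndex_le.resolve_left fun e => htM (relIndex_eq_one.1 e htS)
  have := Fintype.ofFinite (G ⧸ M)
  have hn : (S : Subgroup G) ≤ normalizer (M : Set G) :=
    (normal_subgroupOf_iff_le_normalizer hMS).mp (normal_of_index_eq_two h)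
  have c1 := card_setOf_conj_mem (H := M) (M := M) t (fun a ha x hx => by
    simpa [mul_assoc] using mul_mem (mul_mem (inv_mem ha) hx) ha)
  have c2 := card_setOf_conj_mem (H := S) (M := M) t (fun a ha x hx => by
    simpa [mul_assoc] using pg_conj_inv_mem_of_mem_normalizer (hn ha) hx)
  have c3 := relIndex_mul_card hMS
  rw [h] at c3
  have c4 := relIndex_mul_index hMS
  rw [h] at c4
  set X := {q : G ⧸ (S : Subgroup G) // q.out⁻¹ * t * q.out ∈ M} with hX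
  have c5 : Nat.card {q : G ⧸ M // q.out⁻¹ * t * q.out ∈ M} = 2 * Nat.card X := by
    rw [c1, ← c3] at c2
    have hpos : 0 < Nat.card M := Nat.card_pos
    nlinarith
  have h3 := hG ((Equiv.Perm.sign).comp (MulAction.toPermHom G (G ⧸ M)))
  rw [MonoidHom.comp_apply, Equiv.Perm.sign_of_pow_two_eq_one (by rw [← map_pow, sq, ht, map_one])] at h3
  have c6 : Fintype.card (Function.fixedPoints (MulAction.toPermHom G (G ⧸ M) t)) =
      2 * Nat.card X := by
    rw [← c5, Fintype.card_eq_nat_card]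
    refine Nat.card_congr (Equiv.subtypeEquivRight fun q => ?_)
    change t • q = q ↔ _
    conv_lhs => rw [← q.out_eq', MulAction.Quotient.smul_mk, eq_comm, QuotientGroup.eq]
    simp [mul_assoc]
  have c7 : 2 * Nat.card X ≤ Fintype.card (G ⧸ M) := c6 ▸ Fintype.card_subtype_le _
  have c8 : Fintype.card (G ⧸ M) = 2 * (S : Subgroup G).index := by
    rw [c4, Fintype.card_eq_nat_card]; rfl
  rw [c6, c8, ← Nat.mul_sub, Nat.mul_div_cancel_left _ two_pos, neg_one_pow_eq_one_iff_even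
    (by decide)] at h3
  have hodd : ¬ 2 ∣ Nat.card X := by
    have := sylow_two_index_odd S
    rw [c8] at c7
    rw [Nat.even_sub (by omega)] at h3
    rw [← even_iff_two_dvd, ← h3]
    exact Nat.not_even_iff_odd.mpr this
  have key : ∀ (c : T) (q : G ⧸ (S : Subgroup G)), q.out⁻¹ * t * q.out ∈ M →
      ((c : G) • q).out⁻¹ * t * ((c : G) • q).out ∈ M := by
    intro c q hq
    obtain ⟨s, e⟩ := QuotientGroup.mk_out_eq_mul (S : Subgroup G) (c * q.out)
    have e2 : (c : G) • q = ((c * q.out : G) : G ⧸ (S : Subgroup G)) := by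
      conv_lhs => rw [← q.out_eq', MulAction.Quotient.smul_mk]
      rfl
    rw [e2, e]
    have hc := mem_centralizer_singleton_iff.mp (hT.le c.2)
    have := pg_conj_inv_mem_of_mem_normalizer (hn s.2) hq
    refine mem_of_mem_of_eq this ?_
    calc _ = (s : G)⁻¹ * q.out⁻¹ * ((c : G)⁻¹ * (c * t)) * q.out * s := by group
      _ = _ := by rw [hc]; group
  let act : MulAction T X :=
    { smul := fun c q => ⟨(c : G) • q.1, key c q.1 q.2⟩
      one_smul := fun q => Subtype.ext (one_smul G q.1)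
      mul_smul := fun a b q => Subtype.ext (mul_smul (a : G) (b : G) q.1) }
  obtain ⟨q, hq⟩ := hT.isPGroup.nonempty_fixed_point_of_prime_not_dvd_card X hodd
  refine ⟨q.1.out⁻¹, by simpa using q.2, fun c hc => ?_⟩
  have h1 : c • q.1 = q.1 := congrArg Subtype.val (hq ⟨c, hc⟩)
  rw [← q.1.out_eq', MulAction.Quotient.smul_mk, eq_comm, QuotientGroup.eq] at h1
  simpa [mul_assoc] using h1

/-- a subgroup of index two avoiding `t` and containing `K`, when `K` contains all squares -/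
theorem exists_half {S K : Subgroup G} (hK : K ≤ S) (hsq : ∀ x ∈ S, x * x ∈ K) {t : G} (ht : t ∈ S) (htK : t ∉ K) :
    ∃ M : Subgroup G, K ≤ M ∧ Idx2 M S ∧ t ∉ M := by
  obtain ⟨M, ⟨h1, h2, h3⟩, hm⟩ := (Set.toFinite {M : Subgroup G | K ≤ M ∧ M ≤ S ∧ t ∉ M}).exists_maximal
    ⟨K, le_rfl, hK, htK⟩
  have key : ∀ x ∈ S, x ∉ M → t * x ∈ M := fun x hx hn => by
    have sq := h1 (hsq x hx)
    have cj : ∀ y ∈ M, x * y * x⁻¹ ∈ M := fun y hy => conj_mem_of_sq h2 (fun x hx => h1 (hsq x hx)) hx hy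
    let X₁ : Subgroup G :=
      { carrier := {y | y ∈ M ∨ x * y ∈ M}
        one_mem' := .inl (one_mem _)
        mul_mem' := by
          rintro a b (ha | ha) (hb | hb)
          · exact .inl (mul_mem ha hb)
          · exact .inr (by simpa [mul_assoc] using mul_mem (cj a ha) hb)
          · exact .inr (by simpa [mul_assoc] using mul_mem ha hb)
          · exact .inl (by simpa [mul_assoc] using mul_mem (mul_mem (inv_mem sq) (cj _ ha)) hb)
        inv_mem' := by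
          rintro a (ha | ha)
          · exact .inl (inv_mem ha)
          · exact .inr (by simpa [mul_assoc] using mul_mem (cj _ (inv_mem ha)) sq) }
    by_contra hc
    refine hn (hm (show X₁ ∈ {M : Subgroup G | K ≤ M ∧ M ≤ S ∧ t ∉ M} from ⟨fun y hy => .inl (h1 hy), ?_, ?_⟩)
      (fun _ h => .inl h) (.inr sq))
    · rintro y (hy | hy)
      · exact h2 hy
      · exact (mul_mem_cancel_left hx).1 (h2 hy)
    · rintro (e | e)
      · exact h3 e
      · exact hc (by simpa [mul_assoc] using mul_mem (h1 (comm_mem_of_sq hsq ht hx)) e)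
  refine ⟨M, h1, ⟨h2, fun x hx y hy => ?_⟩, h3⟩
  by_contra! hn
  have := mul_mem (inv_mem (key _ (inv_mem hx) fun e => hn.1 (inv_mem_iff.1 e))) (key y hy hn.2.1)
  exact hn.2.2 (by simpa [mul_assoc] using this)

/-- an involution acting on an abelian group -/
theorem card_le_sq {V : Subgroup G} (hV : V ≤ C[V]) {a : G} (ha : a ∈ N[V]) (h2 : a * a ∈ C[V])
    (hsq : ∀ v ∈ V, v * v = 1) : Nat.card V ≤ Nat.card ↥(V ⊓ C1[a]) ^ 2 := by
  have c : ∀ x ∈ V, ∀ y ∈ V, x * y = y * x := fun x hx y hy => mem_centralizer_iff.1 (hV hy) x hx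
  let f : V →* G := MonoidHom.mk' (fun v => v * (a * v * a⁻¹)) fun x y => by
    have := c _ (cj ha x.2) y y.2
    simp only [coe_mul]
    calc _ = x * (y * (a * x * a⁻¹)) * (a * y * a⁻¹) := by group
      _ = _ := by rw [← this]; group
  have h1 : f.range ≤ V ⊓ C1[a] := by
    rintro _ ⟨v, rfl⟩
    refine ⟨mul_mem v.2 (cj ha v.2), mem_C1.2 ?_⟩
    change v * (a * v * a⁻¹) * a = a * (v * (a * v * a⁻¹))
    have e := cc h2 v.2
    calc _ = a * a * v * (a * a)⁻¹ * (a * v * a⁻¹) * a := by rw [e]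
      _ = a * (a * v * a⁻¹ * v) := by group
      _ = _ := by rw [c v v.2 _ (cj ha v.2)]
  have h3 : f.ker ≤ (V ⊓ C1[a]).subgroupOf V := fun v hv => ⟨v.2, mem_C1.2 (by
    have e : (v : G) * (a * v * a⁻¹) = 1 := hv
    have := mul_left_cancel (e.trans (hsq v v.2).symm)
    exact (mul_inv_eq_iff_eq_mul.1 this).symm)⟩
  rw [← f.ker.card_mul_index, index_ker, sq]
  exact Nat.mul_le_mul ((card_le_of_le h3).trans (Nat.card_congr (subgroupOfEquivOfLe inf_le_left).toEquiv).le)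
    (card_le_of_le h1)

end Cfsg.Lib.U3F
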