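import Cfsg.Agent.Lib.U3F.Fld
import Cfsg.Agent.Lib.U3F.Grp

/-!
# Basic consequences of the set-up `Su`
-/

set_option autoImplicit false

namespace Cfsg.Lib.U3F.Su
open Subgroup Cfsg.Lib Cfsg.Lib.FT Cfsg.Lib.TwoL Cfsg.Lib.U3S
open scoped commutatorElement

variable {G : Type*} [Group G] {F : Type*} [Field F] {τ : F ≃+* F} [Fact (Function.Involutive τ)] (s : Su G τ)

/-! ### coordinates on `Q` and `Z` -/

theorem ι_mem (x : U3S τ) : s.ι x ∈ s.Q := ⟨x, rfl⟩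

include s in
theorem exists_a (a : F) : ∃ x : U3S τ, x.a = a := U3S.exists_a s.om s.two a

theorem ZQ : s.Z ≤ s.Q := by rintro _ ⟨x, -, rfl⟩; exact ⟨x, rfl⟩

theorem ι_mem_Z {x : U3S τ} : s.ι x ∈ s.Z ↔ x.a = 0 := ⟨fun ⟨_, h, e⟩ => s.inj e ▸ h, fun h => ⟨x, h, rfl⟩⟩

theorem zc_mem (b : F) : s.zc b ∈ s.Z := by
  unfold zc; split_ifs
  exacts [⟨_, rfl, rfl⟩, one_mem _]

theorem ι_eq_zc {x : U3S τ} (h : x.a = 0) : τ x.b = x.b ∧ s.ι x = s.zc x.b := by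
  have h1 := fix_of_a s.two h
  refine ⟨h1, ?_⟩
  rw [zc, dif_pos h1]; congr 1; exact U3S.ext h rfl

theorem mem_Z {g : G} : g ∈ s.Z ↔ ∃ b, τ b = b ∧ s.zc b = g := ⟨fun ⟨x, h, e⟩ => ⟨x.b, (s.ι_eq_zc h).1, (s.ι_eq_zc h).2.symm.trans e⟩, fun ⟨b, _, e⟩ => e ▸ s.zc_mem b⟩

theorem zc_eq {b : F} (hb : τ b = b) : ∃ x : U3S τ, x.a = 0 ∧ x.b = b ∧ s.zc b = s.ι x :=
  ⟨_, rfl, rfl, by rw [zc, dif_pos hb]⟩

theorem zc_add {a b : F} (ha : τ a = a) (hb : τ b = b) : s.zc (a + b) = s.zc a * s.zc b := by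
  obtain ⟨x, x1, x2, e⟩ := s.zc_eq ha
  obtain ⟨y, y1, y2, e'⟩ := s.zc_eq hb
  rw [e, e', ← map_mul, (s.ι_eq_zc (x := x * y) (by simp [x1, y1])).2]; simp [x1, x2, y2]

@[simp] theorem zc_zero : s.zc 0 = 1 := by simpa using ((s.ι_eq_zc (x := 1) rfl).2).symm

theorem zc_inj {a b : F} (ha : τ a = a) (hb : τ b = b) (h : s.zc a = s.zc b) : a = b := by
  obtain ⟨x, x1, x2, e⟩ := s.zc_eq ha
  obtain ⟨y, y1, y2, e'⟩ := s.zc_eq hb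
  rw [← x2, ← y2, s.inj (e.symm.trans (h.trans e'))]

theorem zc_eq_one {a : F} (ha : τ a = a) : s.zc a = 1 ↔ a = 0 := ⟨fun h => s.zc_inj ha (map_zero τ) (h.trans s.zc_zero.symm), fun h => h ▸ s.zc_zero⟩

theorem sqZ {z : G} (h : z ∈ s.Z) : z * z = 1 := by
  obtain ⟨b, hb, rfl⟩ := s.mem_Z.1 h
  rw [← s.zc_add hb hb, s.add_self, zc_zero]

theorem QcZ : s.Q ≤ C[s.Z] := by
  rintro _ ⟨x, rfl⟩
  refine mem_centralizer_iff.2 ?_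
  rintro _ ⟨y, hy, rfl⟩
  rw [← map_mul, ← map_mul, (comm_iff y x).2 (by simp [hy])]

theorem ι_sq (x : U3S τ) : s.ι x * s.ι x = s.zc (x.a * τ x.a) := by
  rw [← map_mul, (s.ι_eq_zc (sq_a s.two x)).2, sq_b s.two]

theorem ι_comm (x y : U3S τ) : s.ι x * s.ι y * (s.ι x)⁻¹ * (s.ι y)⁻¹ = s.zc (x.a * τ y.a + τ x.a * y.a) := by
  rw [← map_inv, ← map_inv, ← map_mul, ← map_mul, ← map_mul, (s.ι_eq_zc (by simp)).2]
  congr 1
  simp only [mul_a, mul_b, inv_a, inv_b, map_add, map_neg]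
  linear_combination x.h + y.h + (- τ y.a * x.a - τ y.a * y.a + y.a * τ y.a) * s.two

theorem pQ : IsPGroup 2 s.Q := (U3S.isPGroup s.two).of_surjective s.ι.rangeRestrict s.ι.rangeRestrict_surjective

/-- involutions of `Q` are central -/
theorem mem_Z_of_sq {g : G} (h : g ∈ s.Q) (h2 : g * g = 1) : g ∈ s.Z := by
  obtain ⟨x, rfl⟩ := h
  rw [s.ι_sq, s.zc_eq_one (nu_k _), mul_eq_zero, map_eq_zero, or_self] at h2
  exact s.ι_mem_Z.2 h2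

theorem Ln_le (a : F) : s.Ln a ≤ s.Q := by rintro _ ⟨x, -, rfl⟩; exact ⟨x, rfl⟩

theorem Z_le_Ln (a : F) : s.Z ≤ s.Ln a := by
  rintro _ ⟨x, h, rfl⟩; exact ⟨x, ⟨0, by simp, by simp [h]⟩, rfl⟩

theorem Ln_comm (a : F) : s.Ln a ≤ C[s.Ln a] := by
  rintro _ ⟨x, ⟨c, c1, c2⟩, rfl⟩
  refine mem_centralizer_iff.2 ?_
  rintro _ ⟨y, ⟨d, d1, d2⟩, rfl⟩
  rw [← map_mul, ← map_mul, (comm_iff y x).2 (by simp only [c2, d2, map_mul, c1, d1]; ring)]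

/-! ### `C`, `A`, `B₀`, `ρ` -/

theorem mem_C {g : G} : g ∈ s.C ↔ ∃ e ∈ s.E, ∃ u ∈ s.U, e * u = g := mem_sup_of_le_normalizer' (s.EU.trans (c_le_n _))

theorem QleU : s.Q ≤ s.U := by rintro _ ⟨x, rfl⟩; exact s.QU x

theorem EcQ' : s.E ≤ C[s.Q] := fun _ h => mem_c fun _ hx => cc (s.EU h) (s.QleU hx)

theorem EcZ : s.E ≤ C[s.Z] := fun _ h => mem_c fun _ hx => cc (s.EcQ' h) (s.ZQ hx)

theorem EE {e e' : G} (h : e ∈ s.E) (h' : e' ∈ s.E) : e * e' = e' * e := by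
  rw [← inv_of_sq (s.sqE _ (mul_mem h h')), mul_inv_rev, inv_of_sq (s.sqE _ h), inv_of_sq (s.sqE _ h')]

theorem mem_A {g : G} : g ∈ s.A ↔ ∃ e ∈ s.E, ∃ z ∈ s.Z, e * z = g := mem_sup_of_le_normalizer' (s.EcZ.trans (c_le_n _))

theorem mem_B0 {g : G} : g ∈ s.B0 ↔ ∃ e ∈ s.E, ∃ x, e * s.ι x = g := (mem_sup_of_le_normalizer' (s.EcQ'.trans (c_le_n _))).trans
    ⟨by rintro ⟨e, he, _, ⟨x, rfl⟩, h⟩; exact ⟨e, he, x, h⟩, fun ⟨e, he, x, h⟩ => ⟨e, he, _, ⟨x, rfl⟩, h⟩⟩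

theorem CcE : s.C ≤ C[s.E] := sup_le (fun _ h => mem_centralizer_iff.2 fun _ h' => s.EE h' h) (le_centralizer_iff.1 s.EU)

theorem EcQ : s.E ≤ C[s.Q] := s.EcQ'

theorem AcQ : s.A ≤ C[s.Q] := sup_le s.EcQ (le_centralizer_iff.1 s.QcZ)

theorem sqA {a : G} (h : a ∈ s.A) : a * a = 1 := by
  obtain ⟨e, he, z, hz, rfl⟩ := s.mem_A.1 h
  exact sq_mul (mem_centralizer_iff.1 (s.EcZ he) z hz).symm (s.sqE e he) (s.sqZ hz)

theorem B0T : s.B0 ≤ s.T := sup_le s.ET s.QT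

theorem TC : s.T ≤ s.C := s.syl.le

theorem TB : s.T ≤ s.B := le_inf s.TC s.TN

theorem sq_EU {e u : G} (he : e ∈ s.E) (hu : u ∈ s.U) : e * u * (e * u) = u * u := by
  rw [← mul_assoc, ← mem_centralizer_iff.1 (s.EU he) u hu, mul_assoc u, s.sqE e he, mul_one]

/-- involutions of `B₀` lie in `A` -/
theorem mem_A_of_sq {g : G} (h : g ∈ s.B0) (h2 : g * g = 1) : g ∈ s.A := by
  obtain ⟨e, he, x, rfl⟩ := s.mem_B0.1 h
  rw [s.sq_EU he (s.QU x)] at h2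
  exact mul_mem_sup he (s.mem_Z_of_sq (s.ι_mem x) h2)

theorem mem_Q_of_U {g : G} (h : g ∈ s.B0) (hU : g ∈ s.U) : g ∈ s.Q := by
  obtain ⟨e, he, x, rfl⟩ := s.mem_B0.1 h
  rw [s.disj e he ((mul_mem_cancel_right (s.QU x)).1 hU), one_mul]; exact ⟨x, rfl⟩

theorem sq_mem_U {g : G} (h : g ∈ s.C) : g * g ∈ s.U := by
  obtain ⟨e, he, u, hu, rfl⟩ := s.mem_C.1 h
  rw [s.sq_EU he hu]; exact mul_mem hu hu

theorem comm_mem_U {g g' : G} (h : g ∈ s.C) (h' : g' ∈ s.C) : g * g' * g⁻¹ * g'⁻¹ ∈ s.U := comm_mem_of_sq (fun _ h => s.sq_mem_U h) h h'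

theorem ρC : s.ρ ∈ s.C := mem_sup_right s.ρU

theorem ρ_zc {b : F} (hb : τ b = b) : s.ρ * s.zc b * s.ρ⁻¹ = s.zc (s.l * τ s.l * b) := by
  obtain ⟨x, x1, x2, e⟩ := s.zc_eq hb
  obtain ⟨y, e', y1, y2⟩ := s.ρι x
  rw [e, e', (s.ι_eq_zc (by rw [y1, x1, mul_zero])).2, y2, x2]

theorem ρ_pow_ι (j : ℕ) (x : U3S τ) : ∃ y, s.ρ ^ j * s.ι x * (s.ρ ^ j)⁻¹ = s.ι y ∧ y.a = s.l ^ j * x.a ∧
    y.b = (s.l * τ s.l) ^ j * x.b := by
  induction j with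
  | zero => exact ⟨x, by simp, by simp, by simp⟩
  | succ j ih =>
    obtain ⟨y, e, y1, y2⟩ := ih
    obtain ⟨z, e', z1, z2⟩ := s.ρι y
    exact ⟨z, by rw [← e', ← e]; group, by rw [z1, y1]; ring, by rw [z2, y2]; ring⟩

theorem ρ_pow_zc (j : ℕ) {b : F} (hb : τ b = b) :
    s.ρ ^ j * s.zc b * (s.ρ ^ j)⁻¹ = s.zc ((s.l * τ s.l) ^ j * b) := by
  obtain ⟨x, x1, x2, e⟩ := s.zc_eq hb
  obtain ⟨y, e', y1, y2⟩ := s.ρ_pow_ι j x
  rw [e, e', (s.ι_eq_zc (by rw [y1, x1, mul_zero])).2, y2, x2]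

theorem l_pow : s.l ^ orderOf s.ρ = 1 := by
  obtain ⟨x, hx⟩ := s.exists_a 1
  obtain ⟨y, e, y1, -⟩ := s.ρ_pow_ι (orderOf s.ρ) x
  rw [pow_orderOf_eq_one, one_mul, inv_one, mul_one] at e
  rw [← s.inj e, hx, mul_one] at y1
  exact y1.symm

/-- conjugates of involutions of `E` are not squares -/
theorem Ty.not_sq {x y : G} (h : s.Ty x) : y * y ≠ x := by
  obtain ⟨g, e, he, h1, rfl⟩ := h
  intro h
  have e1 : g⁻¹ * y * g * (g⁻¹ * y * g) = e := by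
    calc _ = g⁻¹ * (y * y) * g := by group
      _ = e := by rw [h]; group
  refine h1 (s.disj e he (e1 ▸ s.sq_mem_U ?_))
  rw [Su.C, ← s.cE e he h1, mem_C1, ← e1]; group

theorem Ty.conj {x : G} (h : s.Ty x) (g : G) : s.Ty (g * x * g⁻¹) := by
  obtain ⟨g', e, he, h1, rfl⟩ := h
  exact ⟨g * g', e, he, h1, by group⟩

theorem Ty.sq {x : G} (h : s.Ty x) : x * x = 1 := by
  obtain ⟨g, e, he, -, rfl⟩ := h
  calc _ = g * (e * e) * g⁻¹ := by group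
    _ = 1 := by rw [s.sqE e he]; group

theorem Ty.ne {x : G} (h : s.Ty x) : x ≠ 1 := by
  obtain ⟨g, e, -, h1, rfl⟩ := h
  simpa using h1

theorem mem_C_iff {g e x : G} (he : e ∈ s.E) (h1 : e ≠ 1) : g⁻¹ * x * g ∈ s.C ↔ x ∈ C1[g * e * g⁻¹] := by
  rw [Su.C, ← s.cE e he h1, mem_C1, mem_C1]
  constructor <;> intro h
  · calc _ = g * (g⁻¹ * x * g * e) * g⁻¹ := by group
      _ = _ := by rw [h]; group
  · calc _ = g⁻¹ * (x * (g * e * g⁻¹)) * g := by group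
      _ = _ := by rw [h]; group

/-- the centralizer of `e^g` centralizes `E^g` -/
theorem c_ty {g e e' x : G} (he : e ∈ s.E) (h1 : e ≠ 1) (he' : e' ∈ s.E) (hx : x ∈ C1[g * e * g⁻¹]) :
    x ∈ C1[g * e' * g⁻¹] := by
  by_cases h : e' = 1
  · simp [h, mem_C1]
  · exact (s.mem_C_iff he' h).1 ((s.mem_C_iff he h1).2 hx)

variable [Finite G] [Finite F]

theorem ρQ : s.ρ ∈ N[s.Q] := mem_n (by rintro _ ⟨x, rfl⟩; obtain ⟨y, e, -⟩ := s.ρι x; exact ⟨y, e.symm⟩)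

theorem ρB : s.ρ ∈ s.B := ⟨s.ρC, s.ρQ⟩

theorem Ty.not_mem_Z {x : G} (h : s.Ty x) : x ∉ s.Z := fun hz => by
  obtain ⟨b, hb, rfl⟩ := s.mem_Z.1 hz
  obtain ⟨c, -, hc⟩ := s.exists_norm one_ne_zero hb
  obtain ⟨x, hx⟩ := s.exists_a (c * 1)
  exact h.not_sq s (y := s.ι x) (by rw [s.ι_sq, hx, hc])

omit [Finite G] [Finite F] in
theorem pE : IsPGroup 2 s.E := pg_of_forall fun e h => p2_of_sq (s.sqE e h)

omit [Finite G] [Finite F] in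
theorem OcE : s.O ≤ C[s.E] := fun _ h => s.CcE (mem_sup_right (s.OU h))

omit [Finite G] [Finite F] in
theorem OcB0 : s.O ≤ C[s.B0] := fun o h => mem_c fun b hb => by
  obtain ⟨e, he, x, rfl⟩ := s.mem_B0.1 hb
  rw [← conj_mul, cc (s.OcE h) he, cc (s.OQ h) (s.ι_mem x)]

omit [Finite G] [Finite F] in
theorem p2_B0 {g : G} (h : g ∈ s.B0) : P2 g := p2_of_mem s.syl.isPGroup (s.B0T h)

omit [Finite G] [Finite F] in
theorem AB0 : s.A ≤ s.B0 := sup_le_sup_left s.ZQ _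

omit [Finite G] [Finite F] in
theorem mem_A_of_p2' {g : G} (hg : g ∈ C[s.Q]) (hC : g ∈ s.C) (h2 : P2 g) : g ∈ s.A := by
  obtain ⟨e, he, u, hu, rfl⟩ := s.mem_C.1 hC
  obtain ⟨x, hx, o, ho, rfl⟩ := s.cQ u hu ((mul_mem_cancel_left (s.EcQ he)).1 hg)
  have m : e * s.ι x ∈ s.A := mul_mem_sup he (s.ι_mem_Z.2 hx)
  rw [← mul_assoc] at h2 ⊢
  rwa [P2.eq_one_of_mul (s.p2_B0 (s.AB0 m)) h2 (mem_centralizer_iff.1 (s.OcB0 ho) _ (s.AB0 m))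
    (odd_order_of_mem s.Oodd ho), mul_one]

omit [Finite G] [Finite F] in
/-- `C_A(ρ) = E` -/
theorem mem_E_of_ρ {a : G} (h : a ∈ s.A) (c : s.ρ * a * s.ρ⁻¹ = a) : a ∈ s.E := by
  obtain ⟨e, he, z, hz, rfl⟩ := s.mem_A.1 h
  obtain ⟨b, hb, rfl⟩ := s.mem_Z.1 hz
  rw [← conj_mul, cc (s.CcE s.ρC) he, s.ρ_zc hb, mul_right_inj] at c
  have := s.zc_inj (by rw [map_mul, nu_k, hb]) hb c
  have h0 : b = 0 := by
    by_contra h0; exact s.nu_ne (mul_right_cancel₀ h0 (by rw [this, one_mul]))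
  simpa [h0] using he

omit [Finite G] [Finite F] in
theorem exists_e : ∃ e ∈ s.E, e ≠ 1 := (s.E.bot_or_exists_ne_one).resolve_left s.neE

/-- `E` is a TI-subgroup -/
theorem ti {g e : G} (he : e ∈ s.E) (h1 : e ≠ 1) (h : g * e * g⁻¹ ∈ s.E) : g ∈ N[s.E] := mem_n fun e' he' => by
  have h1' : g * e * g⁻¹ ≠ 1 := by simpa using h1
  have k : ∀ x ∈ s.C, x * (g * e' * g⁻¹) = g * e' * g⁻¹ * x := fun x hx =>
    mem_C1.1 (s.c_ty he h1 he' (by rwa [s.cE _ h h1']))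
  refine s.mem_E_of_ρ (s.mem_A_of_p2' (mem_centralizer_iff.2 fun x hx => k x (mem_sup_right (s.QleU hx))) ?_
    ((p2_of_sq (s.sqE e' he')).conj g)) (by rw [k _ s.ρC, mul_inv_cancel_right])
  rw [Su.C, ← s.cE _ h h1', mem_C1, k _ (mem_sup_left h)]

/-- `N(E)/C` has odd order -/
theorem mem_C_of_p2 {g : G} (h : g ∈ N[s.E]) (h2 : P2 g) : g ∈ s.C := by
  obtain ⟨e, he, o, c⟩ := pg_exists_fixed_of_order_p s.pE h2.pg (zpowers_le.2 h) s.neE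
  rw [Su.C, ← s.cE e he (by rintro rfl; simp at o), mem_C1]
  exact mem_centralizer_iff.1 c g (mem_zpowers g)

theorem nE_nC {g : G} (h : g ∈ N[s.E]) : g ∈ N[s.C] := mem_n fun x hx => by
  obtain ⟨e, he, h1⟩ := s.exists_e
  simpa using (s.mem_C_iff (g := g⁻¹) he h1).2 (by
    rw [inv_inv, s.cE _ (cj' h he) (by simpa using (show s.Ty (g⁻¹ * e * g⁻¹⁻¹) from ⟨_, e, he, h1, rfl⟩).ne s)]; exact hx)

/-! ### action of `N(Q)` -/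

omit [Finite G] [Finite F] in
theorem cι {g : G} (hg : g ∈ N[s.Q]) (x : U3S τ) : ∃ y, g * s.ι x * g⁻¹ = s.ι y :=
  (cj hg (s.ι_mem x)).imp fun _ => Eq.symm

omit [Finite G] [Finite F] in
theorem act_Z {g : G} (hg : g ∈ N[s.Q]) {φ : F → F} (h : ∀ x y, g * s.ι x * g⁻¹ = s.ι y → y.a = φ x.a) (a : F) :
    g * s.zc (a * τ a) * g⁻¹ = s.zc (φ a * τ (φ a)) := by
  obtain ⟨x, rfl⟩ := s.exists_a a
  obtain ⟨y, e⟩ := s.cι hg x
  rw [← s.ι_sq, ← conj_mul, e, s.ι_sq, h x y e]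

omit [Finite G] in
include s in
theorem exists_N {b : F} (hb : τ b = b) : ∃ a, a * τ a = b := by
  obtain ⟨c, -, hc⟩ := s.exists_norm one_ne_zero hb
  exact ⟨_, hc⟩

theorem act {g : G} (hg : g ∈ N[s.Q]) : ∃ m : F, m ≠ 0 ∧ ∃ σ : F ≃+* F, (∀ x, τ (σ x) = σ (τ x)) ∧
    (∀ x y, g * s.ι x * g⁻¹ = s.ι y → y.a = m * σ x.a) ∧
      ∀ b, τ b = b → g * s.zc b * g⁻¹ = s.zc (m * τ m * σ b) := by
  let φ := MonoidHom.ofInjective s.inj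
  let θ : MulAut (U3S τ) := (φ.trans (s.Q.normalizerMonoidHom ⟨g, hg⟩)).trans φ.symm
  obtain ⟨m, hm, σ, h1, h2⟩ := aut_struct s.om s.two θ
  have k : ∀ x y, g * s.ι x * g⁻¹ = s.ι y → y.a = m * σ x.a := fun x y e => by
    rw [← h2 x]; congr 1
    exact ((MulEquiv.symm_apply_eq φ).2 (Subtype.ext e)).symm
  refine ⟨m, hm, σ, h1, k, fun b hb => ?_⟩
  obtain ⟨a, rfl⟩ := s.exists_N hb
  rw [s.act_Z hg (φ := fun a => m * σ a) k]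
  congr 1; simp only [map_mul, h1]; ring

theorem nQ_nZ : N[s.Q] ≤ N[s.Z] := fun g hg => mem_n fun z hz => s.mem_Z_of_sq (cj hg (s.ZQ hz)) (by rw [conj_mul, s.sqZ hz]; simp)

omit [Finite G] [Finite F] in
theorem N0_le : s.N0 ≤ N[s.Q] := fun _ h => h.1

theorem N0_cZ : s.N0 ≤ C[s.Z] := fun g hg => mem_c fun z hz => by
  obtain ⟨b, hb, rfl⟩ := s.mem_Z.1 hz
  obtain ⟨a, rfl⟩ := s.exists_N hb
  exact s.act_Z hg.1 (φ := id) hg.2 a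

omit [Finite G] [Finite F] in
theorem mem_N0 {g : G} : g ∈ s.N0 ↔ g ∈ N[s.Q] ∧ ∀ x ∈ s.Q, g * x * g⁻¹ * x⁻¹ ∈ s.Z := by
  refine and_congr_right fun hg => ⟨?_, fun h x y e => ?_⟩
  · rintro h _ ⟨x, rfl⟩
    obtain ⟨y, e⟩ := s.cι hg x
    rw [e, ← map_inv, ← map_mul, s.ι_mem_Z]; simp [h x y e]
  · have := h _ (s.ι_mem x)
    rw [e, ← map_inv, ← map_mul, s.ι_mem_Z] at this
    simpa [add_neg_eq_zero] using this

theorem nQ_nN0 : N[s.Q] ≤ N[s.N0] := fun g hg => mem_n fun n hn => s.mem_N0.2 ⟨mul_mem (mul_mem hg hn.1) (inv_mem hg), fun x hx => by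
  have := cj (s.nQ_nZ hg) ((s.mem_N0.1 hn).2 _ (cj' hg hx))
  rwa [show g * (n * (g⁻¹ * x * g) * n⁻¹ * (g⁻¹ * x * g)⁻¹) * g⁻¹ = g * n * g⁻¹ * x * (g * n * g⁻¹)⁻¹ * x⁻¹ by group]
    at this⟩

theorem Q_le_N0 : s.Q ≤ s.N0 := fun g hg => s.mem_N0.2 ⟨le_normalizer hg, fun x hx => by
  obtain ⟨a, rfl⟩ := hg
  obtain ⟨b, rfl⟩ := hx
  rw [s.ι_comm]; exact s.zc_mem _⟩

theorem cQ_le_N0 : C[s.Q] ≤ s.N0 := fun g hg => s.mem_N0.2 ⟨c_le_n _ hg, fun x hx => by rw [cc hg hx, mul_inv_cancel]; exact one_mem _⟩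

theorem B0_le_N0 : s.B0 ≤ s.N0 := sup_le (s.EcQ.trans s.cQ_le_N0) s.Q_le_N0

omit [Finite G] [Finite F] in
theorem mem_QC {g : G} : g ∈ s.Q ⊔ C[s.Q] ↔ ∃ x, ∃ m ∈ C[s.Q], s.ι x * m = g := (mem_sup_of_le_normalizer (c_le_n _)).trans
    ⟨by rintro ⟨_, ⟨x, rfl⟩, h⟩; exact ⟨x, h⟩, fun ⟨x, h⟩ => ⟨_, ⟨x, rfl⟩, h⟩⟩

theorem Out.cZ {g : G} (h : s.Out g) : g ∈ C[s.Z] := mem_c fun z hz => by
  obtain ⟨hg, m, hm, h⟩ := h
  obtain ⟨b, hb, rfl⟩ := s.mem_Z.1 hz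
  obtain ⟨a, rfl⟩ := s.exists_N hb
  rw [s.act_Z hg (φ := fun a => m * τ a) h a]
  congr 1; simp only [map_mul, ττ]; linear_combination a * τ a * hm

theorem Out.not_mem {g : G} (h : s.Out g) : g ∉ s.N0 := fun hn => by
  obtain ⟨hg, m, hm, h⟩ := h
  have k : ∀ a, a = m * τ a := fun a => by
    obtain ⟨x, rfl⟩ := s.exists_a a
    obtain ⟨y, e⟩ := s.cι hg x
    rw [← h x y e, hn.2 x y e]
  have h1 := k 1
  rw [map_one, mul_one] at h1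
  exact s.lτ (by simpa [← h1] using (k s.l).symm)

theorem Out.mul_N0 {g n : G} (h : s.Out g) (hn : n ∈ s.N0) : s.Out (g * n) := by
  obtain ⟨hg, m, hm, h⟩ := h
  refine ⟨mul_mem hg hn.1, m, hm, fun x y e => ?_⟩
  obtain ⟨z, e'⟩ := s.cι hn.1 x
  rw [h z y (by rw [← e', ← e]; group), hn.2 x z e']

theorem Out.N0_mul {g n : G} (h : s.Out g) (hn : n ∈ s.N0) : s.Out (n * g) := by
  obtain ⟨hg, m, hm, h⟩ := h
  refine ⟨mul_mem hn.1 hg, m, hm, fun x y e => ?_⟩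
  obtain ⟨z, e'⟩ := s.cι hg x
  rw [hn.2 z y (by rw [← e', ← e]; group), h x z e']

omit [Finite G] [Finite F] in
include s in
theorem eq_one_of_pow {c : F} {n : ℕ} (h : c ^ 2 ^ n = 1) : c = 1 := by
  induction n with
  | zero => simpa using h
  | succ n ih => exact ih (s.sq_inj (by rw [← pow_mul, ← pow_succ, h, one_pow]))

omit [Finite G] [Finite F] in
theorem scal {g : G} (hg : g ∈ N[s.Q]) {c : F} (h : ∀ x y, g * s.ι x * g⁻¹ = s.ι y → y.a = c * x.a) (h2 : P2 g) :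
    g ∈ s.N0 := by
  have k : ∀ n : ℕ, ∀ x y, g ^ n * s.ι x * (g ^ n)⁻¹ = s.ι y → y.a = c ^ n * x.a := fun n => by
    induction n with
    | zero => exact fun x y e => by rw [s.inj (by simpa using e : s.ι x = s.ι y)]; simp
    | succ n ih =>
      intro x y e
      obtain ⟨z, e'⟩ := s.cι (pow_mem hg n) x
      rw [h z y (by rw [← e', ← e]; group), ih x z e']; ring
  obtain ⟨n, hn⟩ := h2
  obtain ⟨x, hx⟩ := s.exists_a 1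
  have := k (2 ^ n) x x (by simp [hn])
  rw [hx, mul_one] at this
  exact ⟨hg, fun x y e => by rw [h x y e, s.eq_one_of_pow this.symm, one_mul]⟩

theorem Out.mul {g g' : G} (h : s.Out g) (h' : s.Out g') (h2 : P2 (g * g')) : g * g' ∈ s.N0 := by
  obtain ⟨hg, m, -, h⟩ := h
  obtain ⟨hg', m', -, h'⟩ := h'
  refine s.scal (mul_mem hg hg') (c := m * τ m') (fun x y e => ?_) h2
  obtain ⟨z, e'⟩ := s.cι hg' x
  rw [h z y (by rw [← e', ← e]; group), h' x z e']; simp [mul_assoc]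

theorem comm_mem_N0 {g g' : G} (h : g ∈ N[s.Q]) (h' : g' ∈ N[s.Q]) (h2 : P2 (g * g' * g⁻¹ * g'⁻¹)) :
    g * g' * g⁻¹ * g'⁻¹ ∈ s.N0 := by
  have hk := mul_mem (mul_mem (mul_mem h h') (inv_mem h)) (inv_mem h')
  obtain ⟨m, hm, σ, -, a, -⟩ := s.act h
  obtain ⟨m', hm', σ', -, a', -⟩ := s.act h'
  obtain ⟨n, -, θ, -, b, -⟩ := s.act hk
  have k : ∀ u, n * θ (m' * σ' m) * θ (σ' (σ u)) = m * σ m' * σ' (σ u) := fun u => by
    obtain ⟨x, rfl⟩ := s.exists_a u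
    obtain ⟨x1, e1⟩ := s.cι h x
    obtain ⟨x2, e2⟩ := s.cι h' x1
    obtain ⟨y1, f1⟩ := s.cι h' x
    obtain ⟨y2, f2⟩ := s.cι h y1
    have := b x2 y2 (by rw [← e2, ← e1, ← f2, ← f1]; group)
    rw [a y1 y2 f2, a' x y1 f1, a' x1 x2 e2, a x x1 e1] at this
    obtain ⟨i, hi⟩ := s.frob σ
    simp only [map_mul] at this ⊢
    rw [hi (σ' x.a), ← map_pow, ← hi] at this
    linear_combination -this
  have k1 := k 1
  simp only [map_one, mul_one] at k1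
  refine s.scal hk (c := n) (fun x y e => ?_) h2
  have := k (σ.symm (σ'.symm x.a))
  rw [k1, σ.apply_symm_apply, σ'.apply_symm_apply] at this
  rw [b x y e, mul_left_cancel₀ (mul_ne_zero hm (by simpa using hm')) this]

theorem commutator_le_N0 {S : Subgroup G} (hS : IsPGroup 2 S) (h : S ≤ N[s.Q]) : ⁅S, S⁆ ≤ s.N0 := commutator_le.2 fun g hg g' hg' => s.comm_mem_N0 (h hg) (h hg')
    (p2_of_mem hS (mul_mem (mul_mem (mul_mem hg hg') (inv_mem hg)) (inv_mem hg')))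

theorem N0_or_Out {g : G} (h : g ∈ N[s.Q]) (h2 : g * g ∈ s.N0) : g ∈ s.N0 ∨ s.Out g := by
  obtain ⟨m, hm, σ, -, a, -⟩ := s.act h
  have k : ∀ u, m * σ m * σ (σ u) = u := fun u => by
    obtain ⟨x, rfl⟩ := s.exists_a u
    obtain ⟨x1, e1⟩ := s.cι h x
    obtain ⟨x2, e2⟩ := s.cι h x1
    have := h2.2 x x2 (by rw [← e2, ← e1]; group)
    rwa [a x1 x2 e2, a x x1 e1, map_mul, ← mul_assoc] at this
  have k1 := k 1
  simp only [map_one, mul_one] at k1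
  rcases s.gal σ (fun u => by simpa [k1] using k u) with e | e
  · refine .inl ⟨h, fun x y e' => ?_⟩
    rw [a x y e', e, s.sq_inj (a := m) (b := 1) (by rw [sq, one_pow, ← k1, e]), one_mul]
  · exact .inr ⟨h, m, by rw [← e, k1], fun x y e' => by rw [a x y e', e]⟩

theorem idx2_N0 {X : Subgroup G} (hX : IsPGroup 2 X) (h : X ≤ N[s.Q]) (h2 : ∀ x ∈ X, x * x ∈ s.N0) :
    Idx2 (X ⊓ s.N0) X := ⟨inf_le_left, fun x hx y hy => by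
  rcases s.N0_or_Out (h hx) (h2 x hx) with a | a
  · exact .inl ⟨hx, a⟩
  rcases s.N0_or_Out (h hy) (h2 y hy) with b | b
  · exact .inr (.inl ⟨hy, b⟩)
  exact .inr (.inr ⟨mul_mem hx hy, a.mul s b (p2_of_mem hX (mul_mem hx hy))⟩)⟩

/-- the fixed line of an outer element -/
theorem Out.line {g : G} (h : s.Out g) : ∃ a₀ : F, a₀ ≠ 0 ∧
    (∀ x : U3S τ, g * s.ι x * g⁻¹ * (s.ι x)⁻¹ ∈ s.Z ↔ s.ι x ∈ s.Ln a₀) ∧
    (∀ x ∈ s.Q, g * x * g⁻¹ * x⁻¹ ∈ s.Ln a₀) ∧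
    (∀ v ∈ s.Ln a₀, ∃ x ∈ s.Q, ∃ z ∈ s.Z, v = x * (g * x * g⁻¹) * z) ∧
    (g * g ∈ C[s.Q] → ∀ v ∈ s.Ln a₀, g * v * g⁻¹ = v⁻¹) := by
  have cZ := h.cZ s
  obtain ⟨hg, m, hm, h⟩ := h
  obtain ⟨x0, h0⟩ : ∃ x0, x0 + m * τ x0 ≠ 0 := by
    by_contra! k
    have k1 := k 1
    rw [map_one, mul_one] at k1
    exact s.tr_l (by linear_combination k s.l - τ s.l * k1 + τ s.l * s.two)
  have f0 : m * τ (x0 + m * τ x0) = x0 + m * τ x0 := by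
    simp only [map_add, map_mul, ττ]; linear_combination x0 * hm
  generalize ha : x0 + m * τ x0 = a0 at h0 f0
  have L : ∀ x : U3S τ, s.ι x ∈ s.Ln a0 ↔ m * τ x.a = x.a := fun x => by
    refine ⟨fun ⟨y, ⟨c, c1, c2⟩, e⟩ => ?_, fun e => ⟨x, ⟨x.a / a0, ?_, by field_simp⟩, rfl⟩⟩
    · rw [← s.inj e, c2, map_mul, c1]; linear_combination c * f0
    · rw [map_div₀, div_eq_div_iff (by simpa using h0) h0]; linear_combination x.a * f0 - a0 * e * 0 - τ x.a * f0 - x.a * f0 + τ a0 * e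
  have L3 : ∀ v ∈ s.Ln a0, ∃ x ∈ s.Q, ∃ z ∈ s.Z, v = x * (g * x * g⁻¹) * z := by
    rintro _ ⟨v, ⟨c, c1, c2⟩, rfl⟩
    obtain ⟨x, hx⟩ := s.exists_a (c * x0)
    obtain ⟨y, e⟩ := s.cι hg x
    refine ⟨_, s.ι_mem x, s.ι ((x * y)⁻¹ * v), s.ι_mem_Z.2 ?_, by rw [e]; simp [mul_assoc]⟩
    simp only [mul_a, inv_a, h x y e, hx, c2, map_mul, c1]; linear_combination -c * ha
  refine ⟨a0, h0, fun x => ?_, ?_, L3, fun h2 v hv => ?_⟩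
  · obtain ⟨y, e⟩ := s.cι hg x
    rw [e, ← map_inv, ← map_mul, s.ι_mem_Z, L]; simp [h x y e, add_neg_eq_zero]
  · rintro _ ⟨x, rfl⟩
    obtain ⟨y, e⟩ := s.cι hg x
    rw [e, ← map_inv, ← map_mul, L]
    simp only [mul_a, inv_a, h x y e, map_add, map_neg, map_mul, ττ]
    linear_combination x.a * hm + (x.a - m * τ x.a) * s.two
  · obtain ⟨x, hx, z, hz, rfl⟩ := L3 v hv
    obtain ⟨u, rfl⟩ := hx
    have x2 : s.ι u * s.ι u ∈ s.Z := by rw [s.ι_sq]; exact s.zc_mem _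
    have c1 := cc (s.QcZ (cj hg (s.ι_mem u))) hz
    have c2 := cc (s.QcZ (s.ι_mem u)) hz
    refine eq_inv_of_mul_eq_one_right ?_
    calc _ = s.ι u * (g * s.ι u * g⁻¹ * z * (g * s.ι u * g⁻¹)⁻¹) * (g * (s.ι u * s.ι u) * g⁻¹) *
          (g * g * s.ι u * (g * g)⁻¹) * (g * z * g⁻¹) := by group
      _ = s.ι u * z * (s.ι u)⁻¹ * (s.ι u * s.ι u * (s.ι u * s.ι u)) * z := by
          rw [c1, cc cZ x2, cc h2 (s.ι_mem u), cc cZ hz]; group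
      _ = 1 := by rw [c2, s.sqZ x2, mul_one, s.sqZ hz]

/-- for `g ∈ N(Q)`, `ρ^g` acts on `Q/Z` like a power of `ρ` -/
theorem exists_conj_pow {g : G} (hg : g ∈ N[s.Q]) :
    ∃ j : ℕ, s.l ^ j ≠ 1 ∧ (s.l * τ s.l) ^ j ≠ 1 ∧ g * s.ρ * g⁻¹ * (s.ρ ^ j)⁻¹ ∈ s.N0 := by
  obtain ⟨m, hm, σ, -, a, -⟩ := s.act hg
  obtain ⟨i, hi⟩ := s.frob σ
  refine ⟨2 ^ i, fun e => s.lτ (by rw [s.eq_one_of_pow e, map_one]), fun e => s.nu_ne (s.eq_one_of_pow e),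
    mul_mem (mul_mem (mul_mem hg s.ρQ) (inv_mem hg)) (inv_mem (pow_mem s.ρQ _)), fun x y e => ?_⟩
  obtain ⟨x1, e1⟩ := s.cι (inv_mem (pow_mem s.ρQ (2 ^ i))) x
  obtain ⟨x2, e2⟩ := s.cι (inv_mem hg) x1
  obtain ⟨x3, e3, h3, -⟩ := s.ρι x2
  obtain ⟨x', e4, h4, -⟩ := s.ρ_pow_ι (2 ^ i) x1
  rw [a x3 y (by rw [← e3, ← e2, ← e1, ← e]; group), h3, s.inj (show s.ι x = s.ι x' by rw [← e4, ← e1]; group), h4,
    a x2 x1 (by rw [← e2]; group), map_mul, hi s.l]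
  ring

omit [Finite F] in
theorem nQ_nQC {g : G} (hg : g ∈ N[s.Q]) : g ∈ N[s.Q ⊔ C[s.Q]] := mem_n fun x hx => by
  obtain ⟨u, m, hm, rfl⟩ := s.mem_QC.1 hx
  rw [← conj_mul]
  exact mul_mem_sup (cj hg (s.ι_mem u)) (mem_c fun y hy => by
    calc _ = g * (m * (g⁻¹ * y * g) * m⁻¹) * g⁻¹ := by group
      _ = y := by rw [cc hm (cj' hg hy)]; group)

/-- central automorphisms centralized by an element of norm one are inner -/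
theorem ca {g : G} (hg : g ∈ s.N0) {j : ℕ} (h1 : s.l ^ j * τ (s.l ^ j) = 1) (h2 : s.l ^ j ≠ 1)
    (h : s.ρ ^ j * g * (s.ρ ^ j)⁻¹ * g⁻¹ ∈ s.Q ⊔ C[s.Q]) : g ∈ s.Q ⊔ C[s.Q] := by
  choose γ hγ using s.cι hg.1
  have γa : ∀ x, (γ x).a = x.a := fun x => hg.2 x _ (hγ x)
  have γm : ∀ x y, γ (x * y) = γ x * γ y := fun x y => s.inj (by rw [← hγ, map_mul, map_mul, ← hγ, ← hγ, conj_mul])
  have γz : ∀ x, x.a = 0 → γ x = x := fun x hx => s.inj (by rw [← hγ, cc (s.N0_cZ hg) (s.ι_mem_Z.2 hx)])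
  obtain ⟨u, m, hm, e⟩ := s.mem_QC.1 h
  have hν : (s.l * τ s.l) ^ j = 1 := by rw [mul_pow, ← map_pow, h1]
  generalize hw : s.l ^ j = w at h1 h2
  have w1 : w - 1 ≠ 0 := sub_ne_zero.2 h2
  obtain ⟨v, hv⟩ := s.exists_a (u.a * τ (w / (w - 1)))
  refine s.mem_QC.2 ⟨v, (s.ι v)⁻¹ * g, mem_c ?_, by group⟩
  rintro _ ⟨x, rfl⟩
  obtain ⟨y, hy⟩ := s.exists_a (x.a / (w - 1))
  obtain ⟨y', e', hy', hb'⟩ := s.ρ_pow_ι j y
  obtain ⟨y'', e'', -, hb''⟩ := s.ρ_pow_ι j (γ y)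
  rw [hw] at hy'
  rw [hν, one_mul] at hb' hb''
  have t1 : y'' = u * γ y' * u⁻¹ := s.inj (by
    rw [← e'', map_mul, map_mul, map_inv, ← cc hm (s.ι_mem (γ y')), ← hγ, ← hγ, ← e']
    calc _ = s.ρ ^ j * g * (s.ρ ^ j)⁻¹ * g⁻¹ * (g * (s.ρ ^ j * s.ι y * (s.ρ ^ j)⁻¹) * g⁻¹) *
        (s.ρ ^ j * g * (s.ρ ^ j)⁻¹ * g⁻¹)⁻¹ := by group
      _ = _ := by rw [← e]; group)
  have t2 : γ (x * y * y'⁻¹) = x * y * y'⁻¹ := γz _ (by simp only [mul_a, inv_a, hy', hy]; field_simp; ring)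
  have t3 : γ x * γ y = x * y * y'⁻¹ * γ y' := by rw [← t2, ← γm, ← γm, inv_mul_cancel_right]
  have t4 : γ x = v * x * v⁻¹ := by
    have b1 := congrArg U3S.b t1
    have b3 := congrArg U3S.b t3
    have xa : x.a = (w - 1) * y.a := by rw [hy]; field_simp
    have va : v.a * (τ w - 1) = u.a * τ w := by
      have : τ w - 1 ≠ 0 := by simpa using (map_ne_zero τ).2 w1
      rw [hv, map_div₀, map_sub, map_one]; field_simp
    have va' := congrArg τ va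
    have hy'' := y'.h
    refine U3S.ext (by simp [γa]) ?_
    simp only [mul_a, mul_b, inv_a, inv_b, γa, hb'', hb', hy', map_add, map_mul, map_neg, xa, map_sub, map_one,
      ττ] at b1 b3 va' hy'' ⊢
    linear_combination b3 - b1 - u.h + hy'' - v.h - y.a * va' + τ y.a * va +
      (τ w * τ y.a * u.a - y.a * w * τ u.a) * s.two
  calc _ = (s.ι v)⁻¹ * (g * s.ι x * g⁻¹) * s.ι v := by group
    _ = _ := by rw [hγ, t4]; simp [mul_assoc]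

theorem c2 {g : G} (hg : g ∈ s.N0) (hC : g ∈ s.C) : ∃ b ∈ s.B0, ∃ o ∈ s.O, g = b * o := by
  obtain ⟨e, he, u, hu, rfl⟩ := s.mem_C.1 hC
  have hu0 : u ∈ s.N0 := (mul_mem_cancel_left (s.B0_le_N0 (mem_sup_left he))).1 hg
  obtain ⟨x, i, o, ho, h⟩ := s.bor u hu hu0.1
  obtain ⟨j, j1, j2⟩ := s.exists_w
  have hi : s.l ^ i = s.l := by
    obtain ⟨y, hy⟩ := s.exists_a 1
    obtain ⟨y1, e1, h1, -⟩ := s.ρι y
    obtain ⟨y2, e2, h2, -⟩ := s.ρ_pow_ι i y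
    have n : (s.ι x)⁻¹ * (u * (s.ρ * u⁻¹ * s.ρ⁻¹)) ∈ s.N0 :=
      mul_mem (inv_mem (s.Q_le_N0 (s.ι_mem x))) (mul_mem hu0 (cj (s.nQ_nN0 s.ρQ) (inv_mem hu0)))
    have := n.2 y1 y2 (by
      rw [← e1, ← e2]
      calc _ = (s.ι x)⁻¹ * (u * s.ρ * u⁻¹) * s.ι y * ((s.ι x)⁻¹ * (u * s.ρ * u⁻¹))⁻¹ := by group
        _ = s.ρ ^ i * (o * s.ι y * o⁻¹) * (s.ρ ^ i)⁻¹ := by rw [h]; group
        _ = _ := by rw [cc (s.OQ ho) (s.ι_mem y)])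
    simpa [h1, h2, hy] using this
  have c1 : s.ρ ^ i * o * s.ρ⁻¹ ∈ C[s.Q] := mem_c (by
    rintro _ ⟨y, rfl⟩
    obtain ⟨y0, e0⟩ := s.cι (inv_mem s.ρQ) y
    obtain ⟨y1, e1, h1, h1'⟩ := s.ρι y0
    obtain ⟨y2, e2, h2, h2'⟩ := s.ρ_pow_ι i y0
    rw [mul_pow, ← map_pow, hi] at h2'
    rw [hi] at h2
    calc _ = s.ρ ^ i * (o * (s.ρ⁻¹ * s.ι y * s.ρ⁻¹⁻¹) * o⁻¹) * (s.ρ ^ i)⁻¹ := by group
      _ = s.ι y1 := by rw [e0, cc (s.OQ ho) (s.ι_mem y0), e2, U3S.ext (h2.trans h1.symm) (h2'.trans h1'.symm)]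
      _ = _ := by rw [← e1, ← e0]; group)
  have c2 : s.ρ * u * s.ρ⁻¹ * u⁻¹ ∈ s.Q ⊔ C[s.Q] := by
    rw [← inv_mem_iff, show (s.ρ * u * s.ρ⁻¹ * u⁻¹)⁻¹ = u * s.ρ * u⁻¹ * s.ρ⁻¹ by group, h, mul_assoc, mul_assoc,
      ← mul_assoc _ o]
    exact mul_mem_sup (s.ι_mem x) c1
  have c3 : ∀ n : ℕ, s.ρ ^ n * u * (s.ρ ^ n)⁻¹ * u⁻¹ ∈ s.Q ⊔ C[s.Q] := fun n => by
    induction n with
    | zero => simp
    | succ n ih => convert mul_mem (cj (s.nQ_nQC s.ρQ) ih) c2 using 1; group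
  obtain ⟨y, m, hm, rfl⟩ := s.mem_QC.1 (s.ca hu0 j1 j2 (c3 j))
  obtain ⟨z, -, o', ho', rfl⟩ := s.cQ m ((mul_mem_cancel_left (s.QU y)).1 hu) hm
  exact ⟨e * s.ι (y * z), mul_mem_sup he (s.ι_mem _), o', ho', by simp [mul_assoc]⟩

theorem c2' {g : G} (hg : g ∈ s.N0) (hE : g ∈ N[s.E]) : g ∈ s.Q ⊔ C[s.Q] := by
  obtain ⟨j, j1, j2⟩ := s.exists_w
  refine s.ca hg j1 j2 ?_
  obtain ⟨b, hb, o, ho, e⟩ := s.c2 (g := s.ρ ^ j * g * (s.ρ ^ j)⁻¹ * g⁻¹)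
    (mul_mem (cj (s.nQ_nN0 (pow_mem s.ρQ j)) hg) (inv_mem hg)) (by
      simpa [mul_assoc] using mul_mem (pow_mem s.ρC j) (cj (s.nE_nC hE) (inv_mem (pow_mem s.ρC j))))
  rw [e]
  exact mul_mem ((sup_le (s.EcQ.trans le_sup_right) le_sup_left : s.B0 ≤ _) hb) (mem_sup_right (s.OQ ho))

theorem mem_B0_of_p2 {g : G} (hg : g ∈ s.N0) (hC : g ∈ s.C) (h2 : P2 g) : g ∈ s.B0 := by
  obtain ⟨b, hb, o, ho, rfl⟩ := s.c2 hg hC
  rwa [P2.eq_one_of_mul (s.p2_B0 hb) h2 (mem_centralizer_iff.1 (s.OcB0 ho) _ hb) (odd_order_of_mem s.Oodd ho), mul_one]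

theorem mem_A_of_p2 {g : G} (hg : g ∈ C[s.Q]) (hC : g ∈ s.C) (h2 : P2 g) : g ∈ s.A := s.mem_A_of_p2' hg hC h2

/-- `B` acts on subgroups centralized by `Q` and `O` through a group normalizing `⟨ρ⟩` -/
theorem bor' {g : G} (hg : g ∈ s.B) : ∃ i : ℕ, ∀ x ∈ C[s.Q], x ∈ C[s.O] →
    g * s.ρ * g⁻¹ * x * (g * s.ρ * g⁻¹)⁻¹ = s.ρ ^ i * x * (s.ρ ^ i)⁻¹ := by
  obtain ⟨e, he, u, hu, rfl⟩ := s.mem_C.1 hg.1
  obtain ⟨y, i, o, ho, h⟩ := s.bor u hu ((mul_mem_cancel_left (c_le_n _ (s.EcQ he))).1 hg.2)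
  refine ⟨i, fun x hx hx' => ?_⟩
  have e1 : e * u * s.ρ * (e * u)⁻¹ = s.ι y * s.ρ ^ i * o := by
    rw [← h, ← cc (s.EU he) (mul_mem (mul_mem hu s.ρU) (inv_mem hu))]; group
  have c1 : o * x * o⁻¹ = x := by rw [mem_centralizer_iff.1 hx' o ho, mul_inv_cancel_right]
  have c2 := mem_centralizer_iff.1 (cj (normalizer_le_normalizer_centralizer _ (pow_mem s.ρQ i)) hx) _ (s.ι_mem y)
  rw [e1]
  calc _ = s.ι y * (s.ρ ^ i * (o * x * o⁻¹) * (s.ρ ^ i)⁻¹) * (s.ι y)⁻¹ := by group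
    _ = _ := by rw [c1, c2, mul_inv_cancel_right]

/-- Thompson's `A × B` lemma for 2-subgroups normalized by an involution of `E` -/
theorem ab {X : Subgroup G} (hX : IsPGroup 2 X) {e c : G} (he : e ∈ s.E) (h1 : e ≠ 1) (heX : e ∈ N[X])
    (hc : c ∈ s.C) (hcX : c ∈ N[X]) (ho : Odd (orderOf c)) (h : ∀ x ∈ X, x ∈ s.C → c * x * c⁻¹ = x) :
    c ∈ C[X] := by
  have := thompson_AxB (p := 2) (A := zpowers e) (B := zpowers c) (p2_of_sq (s.sqE e he)).pg hX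
    (by rw [Nat.card_zpowers]; exact ho.not_two_dvd_nat) (zpowers_le.2 heX) (zpowers_le.2 hcX)
    (zpowers_le.2 (le_centralizer_iff.1 (zpowers_le.2 (centralizer_le (by simpa using he) (s.CcE hc))) (mem_zpowers e)))
    fun x hx => le_centralizer_iff.1 (zpowers_le.2 (mem_c (X := zpowers x) (by
      rintro _ ⟨n, rfl⟩
      rw [← conj_zpow, h x hx.1 (by
        rw [Su.C, ← s.cE e he h1, mem_C1]; exact (mem_centralizer_iff.1 hx.2 e (mem_zpowers e)).symm)])))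
      (mem_zpowers x)
  exact le_centralizer_iff.1 this (mem_zpowers c)

/-- elements of odd order of `C` centralizing `Z` centralize the 2-subgroups of `C(Q)` they normalize -/
theorem ab' {X : Subgroup G} (hX : IsPGroup 2 X) (hQ : X ≤ C[s.Q]) {e c : G} (he : e ∈ s.E) (h1 : e ≠ 1)
    (heX : e ∈ N[X]) (hc : c ∈ s.C) (hcX : c ∈ N[X]) (ho : Odd (orderOf c)) (h : c ∈ C[s.Z]) : c ∈ C[X] := s.ab hX he h1 heX hc hcX ho fun x hx hC => by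
  obtain ⟨e', he', z, hz, rfl⟩ := s.mem_A.1 (s.mem_A_of_p2 (hQ hx) hC (p2_of_mem hX hx))
  rw [← conj_mul, cc (s.CcE hc) he', cc h hz]

/-! ### weak closure -/

omit [Finite G] [Finite F] in
include s in
theorem tr_idx2 {V : F → Prop} (h : ∀ a b, V a ∨ V b ∨ V (a + b)) {c : F} (hc : τ c = c) :
    ∃ a b, V a ∧ V b ∧ a * τ b + τ a * b = c := by
  obtain ⟨a, ha, h0⟩ : ∃ a, V a ∧ a ≠ 0 := by
    rcases h 1 s.l with e | e | e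
    exacts [⟨_, e, one_ne_zero⟩, ⟨_, e, s.l_ne⟩, ⟨_, e, fun e' => s.lτ (by
      rw [show s.l = 1 by linear_combination e' - s.two, map_one])⟩]
  obtain ⟨x, hx⟩ := s.exists_tr h0 hc
  by_cases h1 : ∀ d, τ d = d → V (d * a)
  · obtain ⟨d, d1, d2, d3⟩ := s.four
    obtain ⟨y, hy⟩ := s.exists_tr h0 (map_one τ)
    have k : ∀ e, τ e = e → e ≠ 0 → V (e * y) → ∃ a b, V a ∧ V b ∧ a * τ b + τ a * b = c := fun e e1 e2 hV =>
      ⟨_, _, hV, h1 (c / e) (by rw [map_div₀, hc, e1]), by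
        simp only [map_mul, map_div₀, hc, e1]; field_simp; linear_combination c * hy⟩
    rcases h (1 * y) (d * y) with e | e | e
    exacts [k 1 (map_one τ) one_ne_zero e, k d d1 d2 e, k (1 + d) (by simp [d1])
      (fun e' => d3 (by linear_combination e' - s.two)) (by rwa [add_mul])]
  · obtain ⟨d, d1, d2⟩ : ∃ d, τ d = d ∧ ¬ V (d * a) := by simpa using h1
    rcases h x (d * a) with e | e | e
    exacts [⟨_, _, e, ha, hx⟩, (d2 e).elim, ⟨_, _, e, ha, by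
      simp only [map_add, map_mul, d1]; linear_combination hx + d * a * τ a * s.two⟩]

omit [Finite G] [Finite F] in
theorem rob_qlike' {X Y : Subgroup G} (hY : Y ≤ C[s.Q]) (hc : Y ≤ C[Y]) (hsq : ∀ y ∈ Y, y * y ∈ s.Z)
    (hX : ∀ g ∈ X, ∃ x, ∃ y ∈ Y, g = s.ι x * y) (on : ∀ a, ∃ x : U3S τ, x.a = a ∧ ∃ y ∈ Y, s.ι x * y ∈ X) :
    s.Rob X := by
  have c : ∀ x, ∀ y ∈ Y, s.ι x * y = y * s.ι x := fun x y hy => mem_centralizer_iff.1 (hY hy) _ (s.ι_mem x)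
  refine ⟨fun g hg => ?_, fun X' hX' z hz => ?_⟩
  · obtain ⟨x, y, hy, rfl⟩ := hX g hg
    rw [mul_assoc, ← mul_assoc y, ← c x y hy, mul_assoc, ← mul_assoc, s.ι_sq]
    exact mul_mem (s.zc_mem _) (hsq y hy)
  obtain ⟨b, hb, rfl⟩ := s.mem_Z.1 hz
  obtain ⟨_, _, ⟨x, rfl, y, hy, h1⟩, ⟨x', rfl, y', hy', h2⟩, rfl⟩ := s.tr_idx2
    (V := fun a => ∃ x : U3S τ, x.a = a ∧ ∃ y ∈ Y, s.ι x * y ∈ X') (fun a b => by
      obtain ⟨x, rfl, y, hy, h1⟩ := on a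
      obtain ⟨x', rfl, y', hy', h2⟩ := on b
      refine (hX'.2 _ h1 _ h2).imp (⟨x, rfl, y, hy, ·⟩) (·.imp (⟨x', rfl, y', hy', ·⟩) fun e =>
        ⟨x * x', rfl, y * y', mul_mem hy hy', ?_⟩)
      rwa [map_mul, mul_assoc, ← mul_assoc _ y, c x' y hy, mul_assoc, ← mul_assoc]) hb
  have := commutator_mem_commutator h1 h2
  rw [← s.ι_comm]
  convert this using 1
  have yy := mem_centralizer_iff.1 (hc hy) y' hy'
  rw [commutatorElement_def]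
  calc _ = s.ι x * (y * (s.ι x' * (y' * y⁻¹ * y'⁻¹ * y)) * y⁻¹) * (s.ι x)⁻¹ * (s.ι x')⁻¹ := by
        rw [show y' * y⁻¹ * y'⁻¹ * y = 1 by rw [mul_assoc y', ← mul_inv_rev, yy]; group, mul_one,
          cc (hY hy) (s.ι_mem x')]
    _ = s.ι x * y * (s.ι x' * y') * y⁻¹ * (y'⁻¹ * (s.ι x⁻¹ * s.ι x'⁻¹)) := by simp only [map_inv]; group
    _ = _ := by
        rw [← mul_assoc y'⁻¹, ← c _ _ (inv_mem hy')]; simp only [map_inv]; group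

theorem rob_Q : s.Rob s.Q := s.rob_qlike' (Y := ⊥) bot_le bot_le (by simp [one_mem])
    (by rintro _ ⟨x, rfl⟩; exact ⟨x, 1, one_mem _, by simp⟩) fun a => by
      obtain ⟨x, hx⟩ := s.exists_a a; exact ⟨x, hx, 1, one_mem _, by simp⟩

/-- subgroups of `Q Y`, `Y` abelian, that cover `Q/Z` -/
theorem rob_qlike {X Y : Subgroup G} (hY : Y ≤ C[s.Q]) (hc : Y ≤ C[Y]) (hsq : ∀ y ∈ Y, y * y ∈ s.Z)
    (hX : ∀ g ∈ X, ∃ x, ∃ y ∈ Y, g = s.ι x * y) (on : ∀ a, ∃ x : U3S τ, x.a = a ∧ ∃ y ∈ Y, s.ι x * y ∈ X) :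
    s.Rob X := s.rob_qlike' hY hc hsq hX on

theorem Rob.p2 {X : Subgroup G} (h : s.Rob X) : IsPGroup 2 X := pg_of_forall fun x hx => ⟨2, by rw [← s.sqZ (h.1 x hx)]; simp [pow_succ, mul_assoc]⟩

theorem Rob.comm_mem {X : Subgroup G} (h : s.Rob X) {x y : G} (hx : x ∈ X) (hy : y ∈ X) :
    x * y * x⁻¹ * y⁻¹ ∈ s.Z := comm_mem_of_sq h.1 hx hy

omit [Finite G] [Finite F] in
theorem conj_commutator_le {X K : Subgroup G} {h : G}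
    (hh : ∀ x ∈ X, ∀ y ∈ X, h * x * h⁻¹ * (h * y * h⁻¹) * (h * x * h⁻¹)⁻¹ * (h * y * h⁻¹)⁻¹ ∈ K) {z : G}
    (hz : z ∈ ⁅X, X⁆) : h * z * h⁻¹ ∈ K :=
  (commutator_le.2 fun x hx y hy => by simpa [commutatorElement_def, mul_assoc] using hh x hx y hy :
    ⁅X, X⁆ ≤ K.comap (MulAut.conj h).toMonoidHom) hz

omit [Finite G] [Finite F] in
theorem idx2_comap {X S M : Subgroup G} {h : G} (hh : ∀ x ∈ X, h * x * h⁻¹ ∈ S) (hM : Idx2 M S) :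
    Idx2 (X ⊓ M.comap (MulAut.conj h).toMonoidHom) X :=
  ⟨inf_le_left, fun x hx y hy => (hM.2 _ (hh x hx) _ (hh y hy)).imp (⟨hx, ·⟩)
    (·.imp (⟨hy, ·⟩) fun e => ⟨mul_mem hx hy, by simpa using e⟩)⟩

omit [Finite G] [Finite F] in
theorem idx2_conj {X : Subgroup G} {h : G} (hh : ∀ x ∈ X, s.Out (h * x * h⁻¹) ∨ h * x * h⁻¹ ∈ s.N0)
    (h2 : IsPGroup 2 X) [Finite G] [Finite F] : Idx2 (X ⊓ s.N0.comap (MulAut.conj h).toMonoidHom) X :=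
  ⟨inf_le_left, fun x hx y hy => by
    rcases hh x hx with a | a
    · rcases hh y hy with b | b
      · exact .inr (.inr ⟨mul_mem hx hy, by
          simpa using a.mul s b (by rw [conj_mul]; exact (p2_of_mem h2 (mul_mem hx hy)).conj h)⟩)
      · exact .inr (.inl ⟨hy, b⟩)
    · exact .inl ⟨hx, a⟩⟩

/-- the `Φ`-trick -/
theorem phi {S X : Subgroup G} (hS : IsPGroup 2 S) (hN : S ≤ N[s.Q])
    (hsq : ∀ r ∈ S, r ∈ s.N0 → r * r * (r * r) = 1 → r * r ∈ s.Z) (hX : s.Rob X) {h : G}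
    (hh : ∀ x ∈ X, h * x * h⁻¹ ∈ S) : h ∈ N[s.Z] ∧ ∀ x ∈ X, h * x * h⁻¹ ∈ s.N0 ∨ s.Out (h * x * h⁻¹) := by
  have h1 : ∀ x ∈ X, h * x * h⁻¹ ∈ s.N0 ∨ s.Out (h * x * h⁻¹) := fun x hx => s.N0_or_Out (hN (hh x hx)) (by
    rw [conj_mul]
    exact s.commutator_le_N0 hS hN (conj_commutator_le
      (fun x hx y hy => commutator_mem_commutator (hh x hx) (hh y hy)) (hX.2 X (.refl X) (hX.1 x hx))))
  refine ⟨mem_n fun z hz => conj_commutator_le (fun x hx y hy => ?_)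
    (hX.2 _ (s.idx2_conj (fun x hx => (h1 x hx).symm) (hX.p2 s)) hz), h1⟩
  refine comm_mem_of_sq (X := (X ⊓ s.N0.comap (MulAut.conj h).toMonoidHom).map (MulAut.conj h).toMonoidHom) ?_
    ⟨x, hx, rfl⟩ ⟨y, hy, rfl⟩
  rintro _ ⟨x, hx, rfl⟩
  refine hsq _ (hh x hx.1) hx.2 ?_
  simp only [← map_mul, s.sqZ (hX.1 x hx.1), map_one]

omit [Finite G] [Finite F] in
theorem sq_B0 {r : G} (h : r ∈ s.B0) : r * r ∈ s.Z := by
  obtain ⟨e, he, x, rfl⟩ := s.mem_B0.1 h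
  rw [s.sq_EU he (s.QU x), s.ι_sq]; exact s.zc_mem _

theorem TN0 {r : G} (h : r ∈ s.T) (h0 : r ∈ s.N0) : r ∈ s.B0 := s.mem_B0_of_p2 h0 (s.TC h) (p2_of_mem s.syl.isPGroup h)

omit [Finite G] [Finite F] in
theorem zc_one_ne : s.zc 1 ≠ 1 := by simp [s.zc_eq_one]

/-- weak closure of `B₀` in `T` -/
theorem wcT {X : Subgroup G} (hX : s.Rob X) {h : G} (hh : ∀ x ∈ X, h * x * h⁻¹ ∈ s.T) :
    h ∈ N[s.Z] ∧ ∀ x ∈ X, h * x * h⁻¹ ∈ s.B0 := by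
  obtain ⟨hZ, h1⟩ := s.phi s.syl.isPGroup s.TN (fun r h h0 _ => s.sq_B0 (s.TN0 h h0)) hX hh
  refine ⟨hZ, fun x hx => s.TN0 (hh x hx) ((h1 x hx).resolve_right fun o => ?_)⟩
  obtain ⟨a, -, h2, -⟩ := o.line s
  have k : ∀ y ∈ X ⊓ s.N0.comap (MulAut.conj h).toMonoidHom, ∃ e ∈ s.E, ∃ v ∈ s.Ln a, e * v = h * y * h⁻¹ := by
    intro y hy
    obtain ⟨e, he, u, e'⟩ := s.mem_B0.1 (s.TN0 (hh y hy.1) hy.2)
    refine ⟨e, he, _, (h2 u).1 ?_, e'⟩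
    have := cj hZ (hX.comm_mem s hx hy.1)
    rw [show h * (x * y * x⁻¹ * y⁻¹) * h⁻¹ = h * x * h⁻¹ * (h * y * h⁻¹) * (h * x * h⁻¹)⁻¹ * (h * y * h⁻¹)⁻¹ by group,
      ← e', ← conj_mul, cc (s.CcE (s.TC (hh x hx))) he] at this
    simpa [mul_assoc] using cj (c_le_n _ (s.EcZ (inv_mem he))) this
  have := conj_commutator_le (K := ⊥) (h := h) (fun y hy y' hy' => by
    obtain ⟨e, he, v, hv, e1⟩ := k y hy
    obtain ⟨e', he', v', hv', e2⟩ := k y' hy'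
    have c : e * v ∈ C[s.E ⊔ s.Ln a] := mul_mem (le_centralizer_iff.1 (sup_le (fun _ h => s.CcE (mem_sup_left h))
        fun _ h => s.CcE (mem_sup_right (s.QleU (s.Ln_le a h)))) he)
      (le_centralizer_iff.1 (sup_le (fun _ h => centralizer_le (s.Ln_le a) (s.EcQ h)) (s.Ln_comm a)) hv)
    rw [← e1, ← e2, cc c (mul_mem_sup he' hv'), mul_inv_cancel]; exact one_mem _)
    (hX.2 _ (s.idx2_conj (fun x hx => (h1 x hx).symm) (hX.p2 s)) (s.zc_mem 1))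
  exact s.zc_one_ne (by simpa using this)

omit [Finite F] in
theorem conj_T {X : Subgroup G} (hX : IsPGroup 2 X) {g e : G} (he : e ∈ s.E) (h1 : e ≠ 1) (hc : X ≤ C1[g * e * g⁻¹]) :
    ∃ c ∈ s.C, ∀ x ∈ X, (g * c)⁻¹ * x * (g * c)⁻¹⁻¹ ∈ s.T := by
  obtain ⟨k, hk, h⟩ := s.syl.exists_conj_le (U := X.map (MulAut.conj g⁻¹).toMonoidHom) (hX.map _) (by
    rintro _ ⟨x, hx, rfl⟩; simpa using (s.mem_C_iff he h1).2 (hc hx))
  exact ⟨k⁻¹, inv_mem hk, fun x hx => by simpa [mul_assoc] using h ⟨_, ⟨x, hx, rfl⟩, rfl⟩⟩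

theorem wc {X : Subgroup G} (hX : s.Rob X) {g e : G} (he : e ∈ s.E) (h1 : e ≠ 1) (hc : X ≤ C1[g * e * g⁻¹]) :
    ∃ c ∈ s.C, g * c ∈ N[s.Z] ∧ ∀ x ∈ X, (g * c)⁻¹ * x * (g * c) ∈ s.B0 := by
  obtain ⟨c, hc, h⟩ := s.conj_T (hX.p2 s) he h1 hc
  obtain ⟨a, b⟩ := s.wcT hX h
  exact ⟨c, hc, inv_mem_iff.1 a, by simpa only [inv_inv] using b⟩

omit [Finite G] [Finite F] in
theorem dec_A {g c b : G} (hc : c ∈ s.C) (hZ : g * c ∈ N[s.Z]) (h : (g * c)⁻¹ * b * (g * c) ∈ s.A) :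
    ∃ e' ∈ s.E, ∃ z ∈ s.Z, b = g * e' * g⁻¹ * z := by
  obtain ⟨e, he, z, hz, e'⟩ := s.mem_A.1 h
  refine ⟨e, he, _, cj hZ hz, ?_⟩
  calc _ = g * c * (e * z) * (g * c)⁻¹ := by rw [e']; group
    _ = g * (c * e * c⁻¹) * g⁻¹ * (g * c * z * (g * c)⁻¹) := by group
    _ = _ := by rw [cc (s.CcE hc) he]

/-- involutions of robust subgroups of `C(e^g)` lie in `E^g Z` -/
theorem wc_inv {X : Subgroup G} (hX : s.Rob X) {g e : G} (he : e ∈ s.E) (h1 : e ≠ 1) (hc : X ≤ C1[g * e * g⁻¹])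
    {b : G} (hb : b ∈ X) (h2 : b * b = 1) : ∃ e' ∈ s.E, ∃ z ∈ s.Z, b = g * e' * g⁻¹ * z := by
  obtain ⟨c, hc, a, h⟩ := s.wc hX he h1 hc
  exact s.dec_A hc a (s.mem_A_of_sq (h b hb) (by
    calc _ = (g * c)⁻¹ * (b * b) * (g * c) := by group
      _ = 1 := by rw [h2]; group))

theorem nq {g : G} (h : ∀ x ∈ s.Q, g⁻¹ * x * g ∈ s.B0)
    (hκ : ∀ j : ℕ, s.l ^ j * τ (s.l ^ j) = 1 → g⁻¹ * s.ρ ^ j * g ∈ s.C) : g ∈ N[s.Q] := by
  obtain ⟨j, j1, j2⟩ := s.exists_w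
  refine inv_mem_iff.1 (mem_n ?_)
  rintro _ ⟨x, rfl⟩
  rw [inv_inv]
  refine s.mem_Q_of_U (h _ (s.ι_mem x)) ?_
  have w1 : s.l ^ j - 1 ≠ 0 := sub_ne_zero.2 j2
  obtain ⟨y, hy⟩ := s.exists_a (x.a / (s.l ^ j - 1))
  obtain ⟨y', e', hy', -⟩ := s.ρ_pow_ι j y
  obtain ⟨b, hb, e⟩ := s.mem_Z.1 (s.ι_mem_Z.2 (show (x * y * y'⁻¹).a = 0 by
    simp only [mul_a, inv_a, hy', hy]; field_simp; ring))
  obtain ⟨a, rfl⟩ := s.exists_N hb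
  obtain ⟨u, rfl⟩ := s.exists_a a
  rw [← s.ι_sq, map_mul, map_mul, map_inv, ← e'] at e
  have hB : ∀ x, g⁻¹ * s.ι x * g ∈ s.C := fun x => s.TC (s.B0T (h _ (s.ι_mem x)))
  convert mul_mem (s.sq_mem_U (hB u)) (s.comm_mem_U (hκ j j1) (hB y)) using 1
  rw [show g⁻¹ * s.ι u * g * (g⁻¹ * s.ι u * g) = g⁻¹ * (s.ι u * s.ι u) * g by group, e]; group

theorem out_inv {y r : G} (o : s.Out y) (hy : y ∈ s.T) (h2 : y * y = 1) (hr : r ∈ s.T) (h0 : r ∈ s.N0)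
    (c : y * r * y⁻¹ = r) : r * r = 1 := by
  obtain ⟨e, he, u, rfl⟩ := s.mem_B0.1 (s.TN0 hr h0)
  obtain ⟨a, -, h1, -, -, h3⟩ := o.line s
  rw [← conj_mul, cc (s.CcE (s.TC hy)) he, mul_right_inj] at c
  have := h3 (by rw [h2]; exact one_mem _) _ ((h1 u).1 (by rw [c, mul_inv_cancel]; exact one_mem _))
  rw [s.sq_EU he (s.QU u), mul_eq_one_iff_eq_inv, ← this, c]

theorem no_out {h y : G} {a : F} (h0 : a ≠ 0) (hL : ∀ x ∈ s.Ln a, h * x * h⁻¹ ∈ s.T) (hy : y ∈ s.T) (h2 : y * y = 1)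
    (c : ∀ x ∈ s.Ln a, y * (h * x * h⁻¹) * y⁻¹ = h * x * h⁻¹) : y ∈ s.A := by
  refine s.mem_A_of_sq (s.TN0 hy ((s.N0_or_Out (s.TN hy) (h2 ▸ one_mem _)).resolve_right fun o => ?_)) h2
  have k : ∀ x : U3S τ, s.ι x ∈ s.Ln a → x.a ≠ 0 → h * (s.ι x * s.ι x) * h⁻¹ ∉ s.N0 := fun x hx x0 n => by
    have n1 : h * s.ι x * h⁻¹ * (h * s.ι x * h⁻¹) ≠ 1 := fun e =>
      x0 (s.ι_mem_Z.1 (s.mem_Z_of_sq (s.ι_mem x) (by simpa [conj_mul] using e)))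
    rcases s.N0_or_Out (s.TN (hL _ hx)) (by rwa [conj_mul]) with b | b
    · exact n1 (s.out_inv o hy h2 (hL _ hx) b (c _ hx))
    · have m := mul_mem hy (hL _ hx)
      have := s.out_inv o hy h2 m (o.mul s b (p2_of_mem s.syl.isPGroup m)) (by rw [← conj_mul, c _ hx]; group)
      refine n1 ?_
      have c' := mul_inv_eq_iff_eq_mul.1 (c _ hx)
      generalize h * s.ι x * h⁻¹ = r at *
      rw [← this, mul_assoc y, ← mul_assoc r, ← c', ← mul_assoc, ← mul_assoc, h2, one_mul]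
  obtain ⟨d, d1, d2, d3⟩ := s.four
  obtain ⟨x, hx⟩ := s.exists_a (1 * a)
  obtain ⟨x', hx'⟩ := s.exists_a (d * a)
  have m : s.ι x ∈ s.Ln a := ⟨x, ⟨1, map_one τ, hx⟩, rfl⟩
  have m' : s.ι x' ∈ s.Ln a := ⟨x', ⟨d, d1, hx'⟩, rfl⟩
  have q : ∀ x ∈ s.Ln a, h * (x * x) * h⁻¹ * (h * (x * x) * h⁻¹) = 1 := fun x hx => by
    rw [conj_mul, s.sqZ (s.sq_B0 (mem_sup_right (s.Ln_le a hx)))]; simp
  have o1 := (s.N0_or_Out (s.TN (hL _ (mul_mem m m))) (q _ m ▸ one_mem _)).resolve_left (k x m (by simpa [hx]))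
  have o2 := (s.N0_or_Out (s.TN (hL _ (mul_mem m' m'))) (q _ m' ▸ one_mem _)).resolve_left (k x' m' (by simp [hx', d2, h0]))
  refine k (x * x') (by rw [map_mul]; exact mul_mem m m') (by
    rw [mul_a, hx, hx', ← add_mul]; exact mul_ne_zero (fun e => d3 (by linear_combination e - s.two)) h0) ?_
  convert o1.mul s o2 (p2_of_mem s.syl.isPGroup (mul_mem (hL _ (mul_mem m m)) (hL _ (mul_mem m' m')))) using 1
  rw [conj_mul, map_mul, mul_assoc (s.ι x), ← mul_assoc (s.ι x'), mem_centralizer_iff.1 (s.Ln_comm a m) _ m']; group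

/-- involutions commuting with `e^g` and with a line subgroup centralizing `e^g` -/
theorem ar {g e b : G} (he : e ∈ s.E) (h1 : e ≠ 1) {a₀ : F} (h0 : a₀ ≠ 0) (hc : s.Ln a₀ ≤ C1[g * e * g⁻¹])
    (h2 : b * b = 1) (hb : b ∈ C1[g * e * g⁻¹]) (hb' : b ∈ C[s.Ln a₀]) :
    ∃ e' ∈ s.E, ∃ z ∈ s.Z, b = g * e' * g⁻¹ * z := by
  have cL : s.Ln a₀ ⊔ zpowers b ≤ C[s.Ln a₀] := sup_le (s.Ln_comm a₀) (zpowers_le.2 hb')
  obtain ⟨c, hc, h⟩ := s.conj_T (X := s.Ln a₀ ⊔ zpowers b) (IsPGroup.to_sup_of_normal_left'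
    (s.pQ.to_le (s.Ln_le a₀)) (p2_of_sq h2).pg (zpowers_le.2 (c_le_n _ hb'))) he h1
    (sup_le hc (zpowers_le.2 hb))
  · have k : ∀ y ∈ s.Ln a₀ ⊔ zpowers b, y * y = 1 → (g * c)⁻¹ * y * (g * c)⁻¹⁻¹ ∈ s.A := fun y hy y2 =>
      s.no_out h0 (fun x hx => h x (mem_sup_left hx)) (h y hy) (by rw [conj_mul, y2]; simp) fun x hx => by
        rw [conj_mul, conj_inv, conj_mul, cc (cL hy) hx]
    refine s.dec_A hc (inv_mem_iff.1 (mem_n fun z hz => ?_))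
      (by simpa only [inv_inv] using k b (mem_sup_right (mem_zpowers b)) h2)
    have z2 := s.sqZ hz
    refine s.mem_Z_of_sq (s.mem_Q_of_U (s.AB0 (k z (mem_sup_left (s.Z_le_Ln a₀ hz)) z2)) ?_) (by
      rw [conj_mul, z2]; simp)
    obtain ⟨β, hβ, rfl⟩ := s.mem_Z.1 hz
    obtain ⟨d, d1, d2⟩ := s.exists_norm h0 hβ
    obtain ⟨x, hx⟩ := s.exists_a (d * a₀)
    rw [← d2, ← hx, ← s.ι_sq, ← conj_mul]
    exact s.sq_mem_U (s.TC (h _ (mem_sup_left ⟨x, ⟨d, d1, hx⟩, rfl⟩)))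

omit [Finite F] in
theorem two_card_le {V W : Subgroup G} (h : V < W) : 2 * Nat.card V ≤ Nat.card W := by
  rw [← relIndex_mul_card h.le]
  have a : V.relIndex W ≠ 0 := index_ne_zero_of_finite
  have b : V.relIndex W ≠ 1 := fun e => h.not_ge (relIndex_eq_one.1 e)
  exact Nat.mul_le_mul_right _ (by omega)

omit [Finite F] in
theorem card_A_le : Nat.card s.A ≤ Nat.card s.E * Nat.card s.Z := by
  rw [← Nat.card_prod]
  refine Nat.card_le_card_of_surjective (fun p : s.E × s.Z => (⟨p.1 * p.2, mul_mem_sup p.1.2 p.2.2⟩ : s.A)) fun a => ?_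
  obtain ⟨e, he, z, hz, h⟩ := s.mem_A.1 a.2
  exact ⟨(⟨e, he⟩, ⟨z, hz⟩), Subtype.ext h⟩

theorem rk0 {V : Subgroup G} (hV : ∀ v ∈ V, v * v = 1) {x : G} (hx : s.Ty x) (hc : V ≤ C1[x]) :
    Nat.card V ≤ 2 * Nat.card s.E * Nat.card s.Z := by
  obtain ⟨g, e, he, h1, rfl⟩ := hx
  have pV : IsPGroup 2 V := pg_of_forall fun v hv => p2_of_sq (hV v hv)
  obtain ⟨c, -, h⟩ := s.conj_T pV he h1 hc
  generalize (g * c)⁻¹ = k at h
  have q : ∀ v ∈ V, k * v * k⁻¹ * (k * v * k⁻¹) = 1 := fun v hv => by rw [conj_mul, hV v hv]; simp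
  have i := s.idx2_conj (fun v hv => (s.N0_or_Out (s.TN (h v hv)) (q v hv ▸ one_mem _)).symm) pV
  have j : Nat.card ↥(V ⊓ s.N0.comap (MulAut.conj k).toMonoidHom) ≤ Nat.card s.A :=
    Nat.card_le_card_of_injective (fun v => ⟨k * v * k⁻¹, s.mem_A_of_sq (s.TN0 (h v v.2.1) v.2.2) (q v v.2.1)⟩)
      fun v w e => Subtype.ext (by simpa using e)
  rw [← relIndex_mul_card i.1, mul_assoc]
  exact Nat.mul_le_mul (by rcases i.relIndex_le with e | e <;> omega) (j.trans s.card_A_le)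

omit [Finite G] [Finite F] in
theorem E2.card' {t : G} (h : s.E2 t) : Nat.card s.E = 2 :=
  Nat.card_eq_two_iff.2 ⟨1, ⟨t, h.mem⟩, fun e => h.ne (congrArg Subtype.val e).symm, Set.eq_univ_of_forall fun e =>
    (h.eq e e.2).imp Subtype.ext Subtype.ext⟩

/-- the 2-rank of `C` -/
theorem rk {V : Subgroup G} (hV : ∀ v ∈ V, v * v = 1) {x : G} (hx : s.Ty x) (hc : V ≤ C1[x]) :
    Nat.card V ≤ 2 * Nat.card s.E * Nat.card s.Z ∧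
      (∀ t, s.E2 t → x ∉ V → Nat.card V ≤ 2 * Nat.card s.Z) := ⟨s.rk0 hV hx hc, fun t ht hn => by
  have c : ∀ v ∈ V, v * x = x * v := fun v hv => mem_C1.1 (hc hv)
  have a := s.rk0 (V := V ⊔ zpowers x) (fun y hy => by
    obtain ⟨v, hv, _, ⟨n, rfl⟩, rfl⟩ := (mem_sup_of_le_normalizer (zpowers_le.2 (mem_n fun v hv => by
      rwa [← c v hv, mul_inv_cancel_right]))).1 hy
    exact sq_mul ((show Commute v x from c v hv).zpow_right n) (hV v hv) 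
      (by rw [← (Commute.refl x).mul_zpow, hx.sq s, one_zpow])) hx
    (sup_le hc (zpowers_le.2 (mem_C1_self x)))
  have b := two_card_le (lt_of_le_not_ge le_sup_left fun e => hn (e (mem_sup_right (mem_zpowers x))) :
    V < V ⊔ zpowers x)
  rw [ht.card' s] at a
  omega⟩

theorem four_le_card_Z : 4 ≤ Nat.card s.Z := by
  obtain ⟨d, d1, d2, d3⟩ := s.four
  have a := two_card_le (lt_of_le_not_ge (zpowers_le.2 (s.zc_mem 1)) fun e => by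
    obtain ⟨n, hn⟩ := e (s.zc_mem d)
    rcases Int.even_or_odd' n with ⟨k, rfl | rfl⟩
    · exact d2 ((s.zc_eq_one d1).1 (by rw [← hn]; simp [zpow_mul, sq, s.sqZ (s.zc_mem 1)]))
    · exact d3 (s.zc_inj d1 (map_one τ) (by rw [← hn]; simp [zpow_add, zpow_mul, sq, s.sqZ (s.zc_mem 1)])))
  have b := two_card_le (bot_lt_iff_ne_bot.2 (zpowers_ne_bot.2 s.zc_one_ne))
  rw [card_bot] at b
  omega

theorem E2.card {t : G} (h : s.E2 t) : Nat.card s.E = 2 := h.card' s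

omit [Finite G] [Finite F] in
theorem E2.cen {t : G} (h : s.E2 t) : C1[t] = s.C := s.cE t h.mem h.ne

/-- `P ∩ C = T` for 2-subgroups `P ≥ T` -/
theorem mem_T {P : Subgroup G} (hP : IsPGroup 2 P) (h : s.T ≤ P) {g : G} (hg : g ∈ P) (hC : g ∈ s.C) : g ∈ s.T := by
  rw [← s.syl.maximal (P ⊓ s.C) hP.to_inf_left inf_le_right (le_inf h s.TC)]; exact ⟨hg, hC⟩

/-- Thompson transfer in the case `|E| = 2` -/
theorem E2.transfer {t : G} (h : s.E2 t) (hG : In2 t) {S M : Subgroup G} (hS : IsSylowIn 2 S ⊤) (hM : Idx2 M S)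
    (htS : t ∈ S) (htM : t ∉ M) : ∃ g : G, g * t * g⁻¹ ∈ M ∧ ∀ x ∈ s.T, g * x * g⁻¹ ∈ S := thompson2 hS hM (s.sqE t h.mem) htS htM (h.cen s ▸ s.syl) hG

end Cfsg.Lib.U3F.Su
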