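import Cfsg.Agent.Lib.TwoL.Hua
import Cfsg.Agent.Lib.Misc.U3Model

/-!
# Involution centralizers `E × U` with a unitary component in characteristic two: the set-up
(see `notes/S3151_PLAN.md`)
-/

set_option autoImplicit false

namespace Cfsg.Lib.U3F
open Subgroup Cfsg.Lib Cfsg.Lib.FT Cfsg.Lib.TwoL
open scoped commutatorElement

/-- `X'` has index at most two in `X` -/
def Idx2 {G : Type*} [Group G] (X' X : Subgroup G) : Prop :=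
  X' ≤ X ∧ ∀ x ∈ X, ∀ y ∈ X, x ∈ X' ∨ y ∈ X' ∨ x * y ∈ X'

/-- The abstract set-up: `C = E × U` is the centralizer of each involution of `E`; `ι` embeds a Sylow 2-subgroup `Q`
of the component, `ρ` generates its torus modulo the centre `O`, and `T` is a Sylow 2-subgroup of `C`. -/
structure Su (G : Type*) [Group G] {F : Type*} [Field F] (τ : F ≃+* F) [Fact (Function.Involutive τ)] where
  E : Subgroup G
  U : Subgroup G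
  O : Subgroup G
  T : Subgroup G
  ι : U3S τ →* G
  ρ : G
  l : F
  two : (2 : F) = 0
  four : ∃ c, τ c = c ∧ c ≠ 0 ∧ c ≠ 1
  frob : ∀ σ : F ≃+* F, ∃ i : ℕ, ∀ x, σ x = x ^ 2 ^ i
  gal : ∀ σ : F ≃+* F, (∀ x, σ (σ x) = x) → (∀ x, σ x = x) ∨ ∀ x, σ x = τ x
  cube : ∀ c : F, c ≠ 0 → ∃ i : ℕ, l ^ i = c ^ 3
  gen : ∀ c : F, τ c = c → c ≠ 0 → ∃ i : ℕ, (l * τ l) ^ i = c
  lτ : τ l ≠ l
  inj : Function.Injective ι
  sqE : ∀ e ∈ E, e * e = 1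
  neE : E ≠ ⊥
  cE : ∀ e ∈ E, e ≠ 1 → C1[e] = E ⊔ U
  EU : E ≤ C[U]
  disj : ∀ e ∈ E, e ∈ U → e = 1
  QU : ∀ x, ι x ∈ U
  ρU : ρ ∈ U
  ρodd : Odd (orderOf ρ)
  ρι : ∀ x, ∃ y, ρ * ι x * ρ⁻¹ = ι y ∧ y.a = l * x.a ∧ y.b = l * τ l * x.b
  syl : IsSylowIn 2 T (E ⊔ U)
  ET : E ≤ T
  QT : ι.range ≤ T
  TN : T ≤ N[ι.range]
  Oodd : Odd (Nat.card O)
  OU : O ≤ U
  OQ : O ≤ C[ι.range]
  OO : O ≤ C[O]
  ρO : ρ ∈ C[O]
  cQ : ∀ g ∈ U, g ∈ C[ι.range] → ∃ x : U3S τ, x.a = 0 ∧ ∃ o ∈ O, g = ι x * o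
  bor : ∀ g ∈ U, g ∈ N[ι.range] → ∃ (x : U3S τ) (i : ℕ), ∃ o ∈ O, g * ρ * g⁻¹ = ι x * ρ ^ i * o

namespace Su
variable {G : Type*} [Group G] {F : Type*} [Field F] {τ : F ≃+* F} [Fact (Function.Involutive τ)] (s : Su G τ)

/-- the Sylow 2-subgroup of the component -/
abbrev Q : Subgroup G := s.ι.range

/-- the centralizer of the involutions of `E` -/
abbrev C : Subgroup G := s.E ⊔ s.U

/-- the centre of `Q` -/
def Z : Subgroup G where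
  carrier := {g | ∃ x : U3S τ, x.a = 0 ∧ s.ι x = g}
  one_mem' := ⟨1, rfl, map_one _⟩
  mul_mem' := by rintro _ _ ⟨x, hx, rfl⟩ ⟨y, hy, rfl⟩; exact ⟨x * y, by simp [hx, hy], map_mul ..⟩
  inv_mem' := by rintro _ ⟨x, hx, rfl⟩; exact ⟨x⁻¹, by simp [hx], map_inv ..⟩

abbrev A : Subgroup G := s.E ⊔ s.Z

abbrev B0 : Subgroup G := s.E ⊔ s.Q

/-- the normalizer of `Q` in `C` -/
abbrev B : Subgroup G := s.C ⊓ N[s.Q]

open Classical in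
/-- the element of `Z` with coordinate `b` (for `τ b = b`) -/
noncomputable def zc (b : F) : G :=
  if h : τ b = b then s.ι (U3S.cen b (by rw [h, ← two_mul, s.two, zero_mul])) else 1

/-- the elements of `N(Q)` acting trivially on `Q/Z` -/
def N0 : Subgroup G where
  carrier := {g | g ∈ N[s.Q] ∧ ∀ x y, g * s.ι x * g⁻¹ = s.ι y → y.a = x.a}
  one_mem' := ⟨one_mem _, fun x y e => by rw [s.inj (by simpa using e : s.ι x = s.ι y)]⟩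
  mul_mem' := by
    rintro g h ⟨g1, g2⟩ ⟨h1, h2⟩
    refine ⟨mul_mem g1 h1, fun x y e => ?_⟩
    obtain ⟨z, hz⟩ := cj h1 (⟨x, rfl⟩ : s.ι x ∈ s.Q)
    rw [g2 z y (by rw [hz, ← e]; group), h2 x z hz.symm]
  inv_mem' := by
    rintro g ⟨g1, g2⟩
    exact ⟨inv_mem g1, fun x y e => (g2 y x (by rw [← e]; group)).symm⟩

/-- `g` normalizes `Q` and acts on `Q/Z` as `a ↦ m τ(a)` with `m` of norm one -/
def Out (g : G) : Prop :=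
  g ∈ N[s.Q] ∧ ∃ m : F, m * τ m = 1 ∧ ∀ x y, g * s.ι x * g⁻¹ = s.ι y → y.a = m * τ x.a

/-- conjugates of involutions of `E` -/
def Ty (x : G) : Prop := ∃ g : G, ∃ e ∈ s.E, e ≠ 1 ∧ g * e * g⁻¹ = x

/-- squares lie in `Z`, and the commutators of each subgroup of index at most two generate `Z` -/
def Rob (X : Subgroup G) : Prop := (∀ x ∈ X, x * x ∈ s.Z) ∧ ∀ X', Idx2 X' X → s.Z ≤ ⁅X', X'⁆

/-- the line subgroup over `k a₀` -/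
def Ln (a₀ : F) : Subgroup G where
  carrier := {g | ∃ x : U3S τ, (∃ c, τ c = c ∧ x.a = c * a₀) ∧ s.ι x = g}
  one_mem' := ⟨1, ⟨0, by simp, by simp⟩, map_one _⟩
  mul_mem' := by
    rintro _ _ ⟨x, ⟨c, c1, c2⟩, rfl⟩ ⟨y, ⟨d, d1, d2⟩, rfl⟩
    exact ⟨x * y, ⟨c + d, by simp [c1, d1], by simp [c2, d2, add_mul]⟩, map_mul ..⟩
  inv_mem' := by
    rintro _ ⟨x, ⟨c, c1, c2⟩, rfl⟩; exact ⟨x⁻¹, ⟨-c, by simp [c1], by simp [c2]⟩, map_inv ..⟩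

/-- `E = {1, t}` -/
structure E2 (t : G) : Prop where
  mem : t ∈ s.E
  ne : t ≠ 1
  eq : ∀ e ∈ s.E, e = 1 ∨ e = t

/-- `t` lies in every subgroup of index two -/
def In2 (t : G) : Prop := ∀ φ : G →* ℤˣ, φ t = 1

/-- first alternative of the theorem -/
def SC (G : Type*) [Group G] : Prop :=
  ∃ (P : Sylow 2 G) (V : Subgroup G), V ≠ ⊥ ∧ IsElementaryAbelian 2 V ∧ IsStronglyClosed V (P : Subgroup G)

end Su

/-- The group `R = Q ∘ D` given by fusion of `E` in `A = E Z`, with its coordinates. -/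
structure RR {G : Type*} [Group G] {F : Type*} [Field F] {τ : F ≃+* F} [Fact (Function.Involutive τ)]
    (s : Su G τ) where
  R : Subgroup G
  aa : G → F
  lam : G → F
  mu : G → F
  k0 : F
  p2 : IsPGroup 2 R
  QR : s.Q ≤ R
  ER : s.E ≤ R
  aa_mul : ∀ r ∈ R, ∀ r' ∈ R, aa (r * r') = aa r + aa r'
  lam_mul : ∀ r ∈ R, ∀ r' ∈ R, lam (r * r') = lam r + lam r'
  mu_mul : ∀ r ∈ R, ∀ r' ∈ R, mu (r * r') = mu r + mu r'
  aa_ι : ∀ x, aa (s.ι x) = x.a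
  lam_ι : ∀ x, lam (s.ι x) = 0
  mu_ι : ∀ x, mu (s.ι x) = 0
  aa_E : ∀ e ∈ s.E, aa e = 0
  lam_E : ∀ e ∈ s.E, lam e = 0
  mu_inj : ∀ e ∈ s.E, mu e = 0 → e = 1
  lam_k : ∀ r ∈ R, τ (lam r) = lam r
  mu_k : ∀ r ∈ R, τ (mu r) = mu r
  k0_k : τ k0 = k0
  ker : ∀ r ∈ R, aa r = 0 → lam r = 0 → mu r = 0 → r ∈ s.Z
  onto : ∀ c, τ c = c → ∃ y ∈ R, aa y = 0 ∧ lam y = c ∧ mu y = 0
  rng : ∀ r ∈ R, ∃ e ∈ s.E, mu r = mu e
  comm : ∀ r ∈ R, ∀ r' ∈ R, r * r' * r⁻¹ * r'⁻¹ =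
    s.zc (aa r * τ (aa r') + τ (aa r) * aa r' + lam r * mu r' + lam r' * mu r)
  sq : ∀ r ∈ R, r * r = s.zc (aa r * τ (aa r) + lam r * (mu r + k0))
  ρN : s.ρ ∈ N[R]
  ρaa : ∀ r ∈ R, aa (s.ρ * r * s.ρ⁻¹) = s.l * aa r
  ρlam : ∀ r ∈ R, lam (s.ρ * r * s.ρ⁻¹) = s.l * τ s.l * lam r
  ρmu : ∀ r ∈ R, mu (s.ρ * r * s.ρ⁻¹) = mu r
  nR : ∀ g ∈ N[s.Q], g ∈ N[s.A] → g ∈ N[R]
  max : ∀ g ∈ s.N0, (∀ e ∈ s.E, g * e * g⁻¹ * e ∈ s.Z) → P2 g → g ∈ R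

namespace RR
variable {G : Type*} [Group G] {F : Type*} [Field F] {τ : F ≃+* F} [Fact (Function.Involutive τ)] {s : Su G τ}
  (r : RR s)

theorem add_one {f : G → F} (h : ∀ x ∈ r.R, ∀ y ∈ r.R, f (x * y) = f x + f y) : f 1 = 0 := by
  simpa using h 1 (one_mem _) 1 (one_mem _)

theorem add_inv {f : G → F} (h : ∀ x ∈ r.R, ∀ y ∈ r.R, f (x * y) = f x + f y) {x : G} (hx : x ∈ r.R) :
    f x⁻¹ = f x := by
  have := h x hx _ (inv_mem hx)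
  rw [mul_inv_cancel, r.add_one h] at this
  linear_combination -this - f x * s.two

/-- the subgroup `{x ∈ R | α aa x + β lam x + γ mu x = 0 = α' aa x + β' lam x + γ' mu x}` -/
def sub (α β γ α' β' γ' : F) : Subgroup G where
  carrier := {x | x ∈ r.R ∧ α * r.aa x + β * r.lam x + γ * r.mu x = 0 ∧ α' * r.aa x + β' * r.lam x + γ' * r.mu x = 0}
  one_mem' := ⟨one_mem _, by simp [r.add_one r.aa_mul, r.add_one r.lam_mul, r.add_one r.mu_mul]⟩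
  mul_mem' := by
    rintro x y ⟨hx, x1, x2⟩ ⟨hy, y1, y2⟩
    refine ⟨mul_mem hx hy, ?_, ?_⟩ <;> rw [r.aa_mul x hx y hy, r.lam_mul x hx y hy, r.mu_mul x hx y hy]
    · linear_combination x1 + y1
    · linear_combination x2 + y2
  inv_mem' := by
    rintro x ⟨hx, x1, x2⟩
    exact ⟨inv_mem hx, by rwa [r.add_inv r.aa_mul hx, r.add_inv r.lam_mul hx, r.add_inv r.mu_mul hx],
      by rwa [r.add_inv r.aa_mul hx, r.add_inv r.lam_mul hx, r.add_inv r.mu_mul hx]⟩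

/-- `D = C_R(Q)` -/
def D : Subgroup G := r.sub 1 0 0 0 0 0
/-- `R₀ = Q Y = C_R(Y)` -/
def R0 : Subgroup G := r.sub 0 0 1 0 0 0
/-- the abelian subgroup `Y` of order `q²` with `D = E Y` -/
def Y : Subgroup G := r.sub 1 0 0 0 0 1
/-- the point with coordinate `u`; `Pt 0 = A` -/
def Pt (u : F) : Subgroup G := r.sub 1 0 (-u) 0 1 (-(u * τ u))

theorem mem_D {x : G} : x ∈ r.D ↔ x ∈ r.R ∧ r.aa x = 0 := by
  change x ∈ r.R ∧ _ ∧ _ ↔ _; simp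
theorem mem_R0 {x : G} : x ∈ r.R0 ↔ x ∈ r.R ∧ r.mu x = 0 := by
  change x ∈ r.R ∧ _ ∧ _ ↔ _; simp
theorem mem_Y {x : G} : x ∈ r.Y ↔ x ∈ r.R ∧ r.aa x = 0 ∧ r.mu x = 0 := by
  change x ∈ r.R ∧ _ ∧ _ ↔ _; simp
theorem mem_Pt {u : F} {x : G} : x ∈ r.Pt u ↔ x ∈ r.R ∧ r.aa x = u * r.mu x ∧ r.lam x = u * τ u * r.mu x := by
  change x ∈ r.R ∧ _ ∧ _ ↔ _; simp [add_neg_eq_zero]

end RR

end Cfsg.Lib.U3F
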