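import Cfsg.Agent.Lib.U3F.Syl

/-!
# The case `|E| ≥ 4`: `Z` is strongly closed
-/

set_option autoImplicit false

namespace Cfsg.Lib.U3F
open Subgroup Cfsg.Lib Cfsg.Lib.FT Cfsg.Lib.TwoL Cfsg.Lib.U3S

variable {G : Type*} [Group G] {F : Type*} [Field F] {τ : F ≃+* F} [Fact (Function.Involutive τ)] {s : Su G τ}

theorem Su.conj_Z (s : Su G τ) {z z' : G} (h : z ∈ s.Z) (h' : z' ∈ s.Z) (n : z ≠ 1) (n' : z' ≠ 1) :
    ∃ g : G, g * z * g⁻¹ = z' := by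
  obtain ⟨b, hb, rfl⟩ := s.mem_Z.1 h
  obtain ⟨c, hc, rfl⟩ := s.mem_Z.1 h'
  have b0 : b ≠ 0 := fun e => n (by simp [e])
  obtain ⟨i, hi⟩ := s.gen (c / b) (by rw [map_div₀, hb, hc]) (div_ne_zero (fun e => n' (by simp [e])) b0)
  exact ⟨s.ρ ^ i, by rw [s.ρ_pow_zc i hb, hi, div_mul_cancel₀ _ b0]⟩

theorem Su.sq_Ln (s : Su G τ) [Finite F] {a : F} (h0 : a ≠ 0) {z : G} (hz : z ∈ s.Z) : ∃ w ∈ s.Ln a, w * w = z := by
  obtain ⟨b, hb, rfl⟩ := s.mem_Z.1 hz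
  obtain ⟨d, d1, d2⟩ := s.exists_norm h0 hb
  obtain ⟨x, hx⟩ := s.exists_a (d * a)
  exact ⟨_, ⟨x, ⟨d, d1, hx⟩, rfl⟩, by rw [s.ι_sq, hx, d2]⟩

namespace RR
variable (r : RR s)

theorem mu_nz {e : G} (he : e ∈ s.E) (h1 : e ≠ 1) : r.mu e ≠ 0 := fun h => h1 (r.mu_inj e he h)

theorem zc_bf {X : Subgroup G} (hX : X ≤ r.R) {x y : G} (hx : x ∈ X) (hy : y ∈ X) : s.zc (r.bf x y) ∈ ⁅X, X⁆ := by
  rw [← r.comm' (hX hx) (hX hy)]; exact commutator_mem_commutator hx hy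

variable [Finite G] [Finite F]

theorem rob_q {X : Subgroup G} (hX : X ≤ r.R) (hc : ∀ x ∈ X, ∀ y ∈ X, r.lam x * r.mu y + r.lam y * r.mu x = 0)
    (on : ∀ a, ∃ x ∈ X, r.aa x = a) : s.Rob X := by
  refine ⟨fun x hx => r.rob_R.1 x (hX hx), fun X' hX' z hz => ?_⟩
  obtain ⟨b, hb, rfl⟩ := s.mem_Z.1 hz
  obtain ⟨_, _, ⟨x, hx, rfl⟩, ⟨y, hy, rfl⟩, rfl⟩ := s.tr_idx2 (V := fun a => ∃ x ∈ X', r.aa x = a) (fun a b => by
    obtain ⟨x, hx, rfl⟩ := on a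
    obtain ⟨y, hy, rfl⟩ := on b
    exact (hX'.2 x hx y hy).imp (⟨x, ·, rfl⟩) (·.imp (⟨y, ·, rfl⟩) (⟨_, ·, r.aa_mul x (hX hx) y (hX hy)⟩))) hb
  convert r.zc_bf (hX'.1.trans hX) hx hy using 2
  rw [bf, add_assoc, hc x (hX'.1 hx) y (hX'.1 hy), add_zero]

theorem rob_d {X : Subgroup G} (hX : X ≤ r.R) (h4 : s.E4)
    (on1 : ∀ c, τ c = c → ∃ y ∈ X, r.mu y = 0 ∧ ∀ x ∈ X, r.bf y x = c * r.mu x)
    (on2 : ∀ e ∈ s.E, ∃ x ∈ X, r.mu x = r.mu e) : s.Rob X := by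
  refine ⟨fun x hx => r.rob_R.1 x (hX hx), fun X' hX' z hz => ?_⟩
  obtain ⟨b, hb, rfl⟩ := s.mem_Z.1 hz
  obtain ⟨e, he, e', he', h1, h2, h3⟩ := h4
  have m1 := r.mu_nz he h1
  have m2 := r.mu_nz he' h2
  have m3 := r.mu_nz (mul_mem he he') h3
  have k1 := r.mu_k e (r.ER he)
  have k2 := r.mu_k e' (r.ER he')
  rw [r.mu_mul e (r.ER he) e' (r.ER he')] at m3
  let L : F → Prop := fun c => ∃ y ∈ X', ∀ x ∈ X, r.bf y x = c * r.mu x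
  have k : ∀ c, L c → ∀ x ∈ X', s.zc (c * r.mu x) ∈ ⁅X', X'⁆ := fun c ⟨y, hy, h⟩ x hx => by
    rw [← h x (hX'.1 hx)]; exact r.zc_bf (hX'.1.trans hX) hy hx
  have k' : ∀ x ∈ X', r.mu x ≠ 0 → L (b / r.mu x) → s.zc b ∈ ⁅X', X'⁆ := fun x hx m h => by
    simpa [div_mul_cancel₀ _ m] using k _ h x hx
  obtain ⟨x, hx, ex⟩ := on2 e he
  obtain ⟨x', hx', ex'⟩ := on2 e' he'
  by_cases hL : ∀ c, τ c = c → L c
  · have := fun x hx m => k' x hx m (hL _ (by rw [map_div₀, hb, r.mu_k x (hX (hX'.1 hx))]))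
    rcases hX'.2 x hx x' hx' with h | h | h
    exacts [this _ h (by rwa [ex]), this _ h (by rwa [ex']),
      this _ h (by rwa [r.mu_mul x (hX hx) x' (hX hx'), ex, ex'])]
  obtain ⟨c, hc, nc⟩ : ∃ c, τ c = c ∧ ¬ L c := by simpa using hL
  obtain ⟨y, hy, y0, hy'⟩ := on1 c hc
  have on : ∀ x ∈ X, ∃ x' ∈ X', r.mu x' = r.mu x := fun x hx => by
    by_cases h : x ∈ X'
    · exact ⟨x, h, rfl⟩
    · exact ⟨_, hX'.mul hx hy h fun h => nc ⟨y, h, hy'⟩, by rw [r.mu_mul x (hX hx) y (hX hy), y0, add_zero]⟩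
  obtain ⟨u, hu, eu⟩ := on x hx
  obtain ⟨u', hu', eu'⟩ := on x' hx'
  have e3 := r.mu_mul u (hX (hX'.1 hu)) u' (hX (hX'.1 hu'))
  rw [ex] at eu
  rw [ex'] at eu'
  rw [eu, eu'] at e3
  by_contra n
  have two : ∀ c c', τ c = c → τ c' = c' → ¬ L c → ¬ L c' → L (c + c') := fun c c' hc hc' n n' => by
    obtain ⟨y, hy, -, h⟩ := on1 c hc
    obtain ⟨y', hy', -, h'⟩ := on1 c' hc'
    exact ⟨_, hX'.mul hy hy' (fun a => n ⟨y, a, h⟩) fun a => n' ⟨y', a, h'⟩, fun x hx => by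
      rw [r.bf_mul (hX hy) (hX hy'), h x hx, h' x hx, add_mul]⟩
  have n3 : ¬ L (b / (r.mu e + r.mu e')) := fun h => n (k' _ (mul_mem hu hu') (by rwa [e3]) (by rwa [e3]))
  have t3 : τ (b / (r.mu e + r.mu e')) = b / (r.mu e + r.mu e') := by rw [map_div₀, map_add, hb, k1, k2]
  have a1 := k _ (two (b / r.mu e) _ (by rw [map_div₀, hb, k1]) t3
    (fun h => n (k' u hu (by rwa [eu]) (by rwa [eu]))) n3) u hu
  have a2 := k _ (two (b / r.mu e') _ (by rw [map_div₀, hb, k2]) t3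
    (fun h => n (k' u' hu' (by rwa [eu']) (by rwa [eu']))) n3) u' hu'
  refine n ?_
  convert mul_mem a1 a2 using 1
  rw [← s.zc_add (by simp only [map_mul, map_add, map_div₀, eu, hb, k1, k2])
    (by simp only [map_mul, map_add, map_div₀, eu', hb, k1, k2]), eu, eu']
  congr 1
  field_simp
  linear_combination (-b * (r.mu e + r.mu e')) * s.two

variable {r} (H : r.Hyp)
include H

theorem Hyp.sw_lin {a : G} (h : a ∈ N[r.R]) (n : a ∉ N[s.A]) (hZ : a ∈ C[s.Z]) (h2 : a * a = 1) :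
    ∃ θ, τ θ = θ ∧ θ ≠ 0 ∧ (∀ c, τ c = c → ∃ e ∈ s.E, r.mu e = c) ∧ ∀ e ∈ s.E, e * (a * e * a⁻¹) ∈ r.D ∧
      r.lam (e * (a * e * a⁻¹)) = θ * r.mu e ∧ r.mu (e * (a * e * a⁻¹)) = r.mu e ∧
      a * (e * (a * e * a⁻¹)) * a⁻¹ = s.zc (θ * r.mu e ^ 2) * (e * (a * e * a⁻¹)) := by
  obtain ⟨e0, he0, h0⟩ := s.exists_e
  have w := H.sw h n
  have Y : ∀ e ∈ s.E, _ := fun e he => r.mem_Y.1 (w.2.1 e (mem_sup_left he))
  have aa : ∀ x : G, a * (a * x * a⁻¹) * a⁻¹ = x := fun x => by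
    rw [← mul_assoc, ← mul_assoc, h2, one_mul, mul_assoc, ← mul_inv_rev, h2, inv_one, mul_one]
  have m0 := r.mu_nz he0 h0
  have b1 : ∀ e ∈ s.E, ∀ e' ∈ s.E, r.bf (a * e * a⁻¹) e' = r.lam (a * e * a⁻¹) * r.mu e' := fun e he e' he' => by
    simp [bf, (Y e he).2.1, (Y e he).2.2, r.aa_E e' he']
  have l : ∀ e ∈ s.E, r.lam (a * e * a⁻¹) = r.lam (a * e0 * a⁻¹) / r.mu e0 * r.mu e := fun e he => by
    have := r.bf_cZ h hZ (Y e he).1 (r.ER he0)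
    rw [aa, b1 e he e0 he0, bf, (Y e0 he0).2.1, (Y e0 he0).2.2, r.aa_E e he] at this
    field_simp; linear_combination -this
  have θ0 : r.lam (a * e0 * a⁻¹) / r.mu e0 ≠ 0 := div_ne_zero
    (fun e => w.nZ he0 h0 (r.mem_A.2 ⟨(Y e0 he0).1, (Y e0 he0).2.1, e⟩)) m0
  have θk : τ (r.lam (a * e0 * a⁻¹) / r.mu e0) = r.lam (a * e0 * a⁻¹) / r.mu e0 := by
    rw [map_div₀, r.lam_k _ (Y e0 he0).1, r.mu_k _ (r.ER he0)]
  generalize r.lam (a * e0 * a⁻¹) / r.mu e0 = θ at l θ0 θk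
  refine ⟨θ, θk, θ0, fun c hc => ?_, fun e he => ?_⟩
  · obtain ⟨y, y0, y1, y2, y3⟩ := r.onto (θ * c) (by rw [map_mul, θk, hc])
    obtain ⟨e, he, z, hz, h'⟩ := s.mem_A.1 (H.YA h n (r.mem_Y.2 ⟨y0, y1, y3⟩))
    refine ⟨e, he, mul_left_cancel₀ θ0 ?_⟩
    rw [← l e he, ← y2, ← aa y, ← h', ← conj_mul, cc hZ hz, r.lam_mul _ (Y e he).1 z (r.ZR hz), (r.mem_Z.1 hz).2.2.1,
      add_zero]
  · obtain ⟨y0, y1, y2⟩ := Y e he
    refine ⟨r.mem_D.2 ⟨mul_mem (r.ER he) y0, by rw [r.aa_mul e (r.ER he) _ y0, r.aa_E e he, y1, add_zero]⟩,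
      by rw [r.lam_mul e (r.ER he) _ y0, r.lam_E e he, l e he, zero_add], by rw [r.mu_mul e (r.ER he) _ y0, y2, add_zero],
      ?_⟩
    rw [← conj_mul, aa, pow_two, ← mul_assoc θ, ← l e he, ← b1 e he e he, ← r.comm' y0 (r.ER he)]; group

variable {P : Subgroup G} (hP : IsSylowIn 2 P ⊤) (hT : s.T ≤ P) (hR : r.R ≤ P) {z a g : G} (hz : z ∈ s.Z)
  (hc : z ∈ C[P]) (e : g * z * g⁻¹ = a)
include hP hT hR hz hc e

theorem Hyp.inZ0 {X : Subgroup G} (hX : s.Rob X) (h1 : X ≤ r.R) (h2 : X ≤ C1[a]) : a ∈ s.Z := by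
  obtain ⟨h, e1, e2⟩ := extremal hP hc e
  have := cj' (H.phi hP.isPGroup hT hR hX fun x hx => have := e2 x (hR (h1 hx)) (mem_C1.1 (h2 hx))
    ⟨this, H.le_nR hP.isPGroup hT hR this⟩).1 hz
  rwa [← e1, show h⁻¹ * (h * a * h⁻¹) * h = a by group] at this

theorem Hyp.inZ (h4 : s.E4) (ha : a ∈ P) (h5 : a ∈ s.N0 ∨ a ∈ N[s.A]) : a ∈ s.Z := by
  have a2 : a * a = 1 := by rw [← e, conj_mul, s.sqZ hz]; simp
  have aN := H.le_nR hP.isPGroup hT hR ha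
  by_cases h0 : a ∈ s.N0 <;> by_cases hA : a ∈ N[s.A]
  · have aR := r.mem_R_of hP.isPGroup hT hR ha hA h0
    by_cases m : r.mu a = 0
    · by_cases a0 : r.aa a = 0
      · exact H.inZ0 hP hT hR hz hc e s.rob_Q r.QR fun x hx =>
          mem_C1.2 (mem_centralizer_iff.1 ((r.mem_cQ aR).2 a0) x hx)
      refine H.inZ0 hP hT hR hz hc e (r.rob_d (X := r.R ⊓ C1[a]) inf_le_left h4 (fun c hc => ?_) fun e he => ?_)
        inf_le_left inf_le_right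
      · obtain ⟨y, y0, y1, y2, y3⟩ := r.onto c hc
        exact ⟨y, ⟨y0, mem_C1.2 ((r.comm_iff y0 aR).2 (by simp [bf, y1, y3, m]))⟩, y3,
          fun x _ => by simp [bf, y1, y2, y3]⟩
      · obtain ⟨u, hu⟩ := s.exists_tr a0 (b := r.lam a * r.mu e) (by rw [map_mul, r.lam_k a aR, r.mu_k e (r.ER he)])
        obtain ⟨x, x0, x1, -, x3⟩ := r.exists_elt u (map_zero τ) he
        exact ⟨x, ⟨x0, mem_C1.2 ((r.comm_iff x0 aR).2 (by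
          rw [bf, x1, x3, m]; linear_combination hu + r.lam a * r.mu e * s.two))⟩, x3⟩
    refine H.inZ0 hP hT hR hz hc e (r.rob_q (X := r.R0 ⊓ C1[a]) (fun _ h => h.1.1) (fun x hx y hy => by
      rw [(r.mem_R0.1 hx.1).2, (r.mem_R0.1 hy.1).2]; simp) fun u => ?_) (fun _ h => h.1.1) inf_le_right
    obtain ⟨x, x0, x1, x2, x3⟩ := r.exists_elt u (c := (u * τ (r.aa a) + τ u * r.aa a) / r.mu a)
      (by simp only [map_div₀, map_add, map_mul, ττ, r.mu_k a aR]; ring) (one_mem _)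
    rw [r.add_one r.mu_mul] at x3
    exact ⟨x, ⟨r.mem_R0.2 ⟨x0, x3⟩, mem_C1.2 ((r.comm_iff x0 aR).2 (by
      rw [bf, x1, x2, x3, div_mul_cancel₀ _ m]; linear_combination (u * τ (r.aa a) + τ u * r.aa a) * s.two))⟩, x1⟩
  · obtain ⟨θ, θk, θ0, on, h⟩ := H.sw_lin aN hA (s.N0_cZ h0) a2
    refine H.inZ0 hP hT hR hz hc e (r.rob_q (X := r.sub 0 1 θ 0 0 0 ⊓ C1[a]) (fun _ h => h.1.1) (fun x hx y hy => by
      linear_combination r.mu y * hx.1.2.1 + r.mu x * hy.1.2.1 - θ * r.mu x * r.mu y * s.two) fun u => ?_)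
      (fun _ h => h.1.1) inf_le_right
    obtain ⟨u, rfl⟩ := s.exists_a u
    obtain ⟨b, hb, eb⟩ := s.mem_Z.1 ((s.mem_N0.1 h0).2 _ (s.ι_mem u))
    obtain ⟨c, c1, c2⟩ := s.exists_sqrt (b := b / θ) (by rw [map_div₀, hb, θk])
    obtain ⟨e, he, rfl⟩ := on c c1
    obtain ⟨d0, d1, d2, d3⟩ := h e he
    rw [c2, mul_div_cancel₀ _ θ0] at d3
    generalize e * (a * e * a⁻¹) = d at *
    refine ⟨s.ι u * d, ⟨⟨mul_mem (r.ιR u) d0.1, ?_, by simp⟩, mem_C1.2 (mul_inv_eq_iff_eq_mul.1 ?_).symm⟩,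
      by rw [r.aa_mul _ (r.ιR u) d d0.1, r.aa_ι, (r.mem_D.1 d0).2, add_zero]⟩
    · rw [r.lam_mul _ (r.ιR u) d d0.1, r.mu_mul _ (r.ιR u) d d0.1, r.lam_ι, r.mu_ι, d1, d2]
      linear_combination θ * r.mu e * s.two
    · rw [← conj_mul, d3, mul_inv_eq_iff_eq_mul.1 eb.symm, mem_centralizer_iff.1 (s.QcZ (s.ι_mem u)) _ (s.zc_mem b),
        mul_assoc, ← mul_assoc (s.zc b), s.sqZ (s.zc_mem b), one_mul]
  · have o := (s.N0_or_Out (H.nQ aN) (a2 ▸ one_mem _)).resolve_left h0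
    obtain ⟨a0, a1, -, -, -, inv⟩ := o.line s
    obtain ⟨y, hy, t, ht, yt⟩ := r.dec_YT hP.isPGroup hT hR ha hA
    have cE : ∀ e ∈ s.E, a * e * a⁻¹ * e⁻¹ ∈ s.Z := fun e he => by
      rw [← yt, show y * t * e * (y * t)⁻¹ = y * (t * e * t⁻¹) * y⁻¹ by group, cc (s.CcE (s.TC ht)) he]
      exact r.rob_R.comm_mem s hy.1 (r.ER he)
    have k : ∀ d ∈ r.D, a * d * a⁻¹ * d⁻¹ ∈ s.Z → ∃ x ∈ (s.Ln a0 ⊔ r.D) ⊓ C1[a], r.lam x = r.lam d ∧ r.mu x = r.mu d := by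
      intro d hd h
      obtain ⟨w, hw, e⟩ := s.sq_Ln a1 h
      obtain ⟨w0, w1, w2⟩ := r.mem_Q.1 (s.Ln_le a0 hw)
      refine ⟨w * d, ⟨mul_mem_sup hw hd, mem_C1.2 (mul_inv_eq_iff_eq_mul.1 ?_).symm⟩,
        by rw [r.lam_mul w w0 d hd.1, w1, zero_add], by rw [r.mu_mul w w0 d hd.1, w2, zero_add]⟩
      rw [← conj_mul, inv (a2 ▸ one_mem _) w hw, mul_inv_eq_iff_eq_mul.1 e.symm]; group
    have le : (s.Ln a0 ⊔ r.D) ⊓ C1[a] ≤ r.R := fun _ h => (r.mem_LD h.1).1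
    refine H.inZ0 hP hT hR hz hc e (r.rob_d le h4 (fun c hc => ?_) fun e he => ?_) le inf_le_right
    · obtain ⟨v, v0, v1, v2, v3⟩ := r.onto c hc
      have vY := r.mem_Y.2 ⟨v0, v1, v3⟩
      obtain ⟨u0, u1, u3⟩ := r.mem_Y.1 (cj (yt ▸ mul_mem (le_normalizer hy) (r.B_nY (s.TB ht)) : a ∈ N[r.Y]) vY)
      obtain ⟨e, he, h1⟩ := s.exists_e
      obtain ⟨-, e1, e2, e3⟩ := r.mem_Z.1 (cE e he)
      have eR := r.ER he
      rw [r.mu_mul _ (cj aN eR) _ (inv_mem eR), r.mu_inv eR] at e3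
      have := r.bf_cZ aN (o.cZ s) v0 eR
      simp only [bf, u1, u3, v1, v3, map_zero, zero_mul, mul_zero, zero_add, add_zero] at this
      have u2 : r.lam (a * v * a⁻¹) = r.lam v := mul_right_cancel₀ (r.mu_nz he h1) (by
        linear_combination this + r.lam (a * v * a⁻¹) * e3 - r.lam (a * v * a⁻¹) * r.mu (a * e * a⁻¹) * s.two)
      obtain ⟨x, hx, x1, x2⟩ := k v (r.mem_D.2 ⟨v0, v1⟩) (by
        simpa using r.same (inv_mem u0) (inv_mem v0) (by rw [r.aa_inv u0, r.aa_inv v0, u1, v1])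
          (by rw [r.lam_inv u0, r.lam_inv v0, u2]) (by rw [r.mu_inv u0, r.mu_inv v0, u3, v3]))
      refine ⟨x, hx, x2.trans v3, fun x' hx' => ?_⟩
      obtain ⟨-, d, d1, d2⟩ := r.mem_LD hx.1
      obtain ⟨-, d', d1', d2'⟩ := r.mem_LD hx'.1
      rw [bf, d2, d2', x1, x2, v2, v3, map_mul, map_mul, d1, d1']
      linear_combination d * d' * a0 * τ a0 * s.two
    · exact (k e (r.mem_D.2 ⟨r.ER he, r.aa_E e he⟩) (cE e he)).imp fun _ h => ⟨h.1, h.2.2⟩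
  · exact (h5.elim h0 hA).elim

theorem Hyp.inZ' (h4 : s.E4) (ha : a ∈ P) : a ∈ s.Z := by
  refine H.inZ hP hT hR hz hc e h4 ha (by_contra fun h5 => ?_)
  obtain ⟨h0, hA⟩ := not_or.1 h5
  have a2 : a * a = 1 := by rw [← e, conj_mul, s.sqZ hz]; simp
  have nR := H.le_nR hP.isPGroup hT hR
  have aN := nR ha
  have o := (s.N0_or_Out (H.nQ aN) (a2 ▸ one_mem _)).resolve_left h0
  obtain ⟨a0, a1, -, -, L3, inv⟩ := o.line s
  obtain ⟨θ, θk, θ0, -, hd⟩ := H.sw_lin aN hA (o.cZ s) a2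
  obtain ⟨h, e1, e2⟩ := extremal hP hc e
  let Br : G → Prop := fun b => b ∈ r.R ∧ b * a = a * b ∧ ∃ x ∈ r.R, r.aa b = r.aa (x * (a * x * a⁻¹)) ∧
    r.lam b = r.lam (x * (a * x * a⁻¹)) ∧ r.mu b = r.mu (x * (a * x * a⁻¹))
  have co : ∀ {f : G → F}, (∀ x ∈ r.R, ∀ y ∈ r.R, f (x * y) = f x + f y) → ∀ x ∈ r.R, ∀ y ∈ r.R,
      f (x * y * (a * (x * y) * a⁻¹)) = f (x * (a * x * a⁻¹)) + f (y * (a * y * a⁻¹)) := fun hf x hx y hy => by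
    rw [← conj_mul, hf _ (mul_mem hx hy) _ (mul_mem (cj aN hx) (cj aN hy)), hf x hx y hy, hf _ (cj aN hx) _ (cj aN hy),
      hf x hx _ (cj aN hx), hf y hy _ (cj aN hy)]; ring
  have mul : ∀ b b', Br b → Br b' → Br (b * b') := fun b b' ⟨b0, b1, x, hx, b2⟩ ⟨c0, c1, y, hy, c2⟩ =>
    ⟨mul_mem b0 c0, by rw [mul_assoc, c1, ← mul_assoc, b1, mul_assoc], x * y, mul_mem hx hy,
      by rw [r.aa_mul b b0 b' c0, co r.aa_mul x hx y hy, b2.1, c2.1],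
      by rw [r.lam_mul b b0 b' c0, co r.lam_mul x hx y hy, b2.2.1, c2.2.1],
      by rw [r.mu_mul b b0 b' c0, co r.mu_mul x hx y hy, b2.2.2, c2.2.2]⟩
  have ex : ∀ e ∈ s.E, ∃ b, Br b ∧ r.mu b = r.mu e := fun e he => by
    obtain ⟨d0, d1, d2, d3⟩ := hd e he
    obtain ⟨w, hw, ew⟩ := s.sq_Ln a1 (s.zc_mem (θ * r.mu e ^ 2))
    obtain ⟨q, hq, z, hz, eq⟩ := L3 w hw
    have w0 := r.QR (s.Ln_le a0 hw)
    have q0 := r.QR hq
    obtain ⟨z0, z1, z2, z3⟩ := r.mem_Z.1 hz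
    refine ⟨w * (e * (a * e * a⁻¹)), ⟨mul_mem w0 d0.1, (mul_inv_eq_iff_eq_mul.1 ?_).symm, q * e,
      mul_mem q0 (r.ER he), ?_, ?_, ?_⟩, by rw [r.mu_mul w w0 _ d0.1, (r.mem_Q.1 (s.Ln_le a0 hw)).2.2, d2, zero_add]⟩
    · rw [← conj_mul, inv (a2 ▸ one_mem _) w hw, d3, ← ew]; group
    · rw [co r.aa_mul q q0 e (r.ER he), r.aa_mul w w0 _ d0.1, eq, r.aa_mul _ (mul_mem q0 (cj aN q0)) z z0, z1, add_zero]
    · rw [co r.lam_mul q q0 e (r.ER he), r.lam_mul w w0 _ d0.1, eq, r.lam_mul _ (mul_mem q0 (cj aN q0)) z z0, z2,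
        add_zero]
    · rw [co r.mu_mul q q0 e (r.ER he), r.mu_mul w w0 _ d0.1, eq, r.mu_mul _ (mul_mem q0 (cj aN q0)) z z0, z3, add_zero]
  have zP : z ∈ P := hR (r.ZR hz)
  have zA : z ∈ N[s.A] := le_normalizer (mem_sup_right hz)
  have key : ∀ b, Br b → r.mu b ≠ 0 → h * b * h⁻¹ ∈ P ∧ h * b * h⁻¹ ∉ N[s.A] := fun b ⟨b0, b1, x, hx, c1, c2, c3⟩ m => by
    have hb := e2 b (hR b0) b1
    refine ⟨hb, fun n => m ?_⟩
    have y0 := mul_mem (cj aN hx) (inv_mem hx)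
    have co' : ∀ {f : G → F}, (∀ x ∈ r.R, ∀ y ∈ r.R, f (x * y) = f x + f y) →
        f (a * x * a⁻¹ * x⁻¹) = f (x * (a * x * a⁻¹)) := fun hf => by
      rw [hf _ (cj aN hx) _ (inv_mem hx), r.add_inv hf hx, hf x hx _ (cj aN hx), add_comm]
    have z' := r.same y0 b0 (by rw [c1, co' r.aa_mul]) (by rw [c2, co' r.lam_mul]) (by rw [c3, co' r.mu_mul])
    obtain ⟨w, hw, ew⟩ := s.sq_Ln a1 z'
    have iw := inv (a2 ▸ one_mem _) _ (inv_mem hw)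
    have ab : x * w⁻¹ * a * (x * w⁻¹)⁻¹ = a * b := by
      calc _ = a⁻¹ * (a * x * a⁻¹ * (a * w⁻¹ * a⁻¹) * (a * a) * w * x⁻¹) := by group
        _ = a * (a * x * a⁻¹ * x⁻¹ * (x * (w * w) * x⁻¹)) := by rw [iw, a2, inv_of_sq a2]; group
        _ = _ := by rw [ew, cc (r.RcZ hx) z']; group
    have := H.inZ hP hT hR hz hc (g := h * (x * w⁻¹) * g) (a := z * (h * b * h⁻¹)) (by
      conv_rhs => rw [← e1, conj_mul, ← ab, ← e]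
      group) h4 (mul_mem zP hb) (.inr (mul_mem zA n))
    rw [mul_mem_cancel_left hz] at this
    by_cases b1 : b = 1
    · rw [b1, r.add_one r.mu_mul]
    obtain ⟨k, hk⟩ := s.conj_Z hz this (by rintro rfl; exact hA (by simp [← e, one_mem])) (by simpa using b1)
    exact (r.mem_Z.1 (H.inZ hP hT hR hz hc (g := h⁻¹ * k) (a := b) (by
      rw [show h⁻¹ * k * z * (h⁻¹ * k)⁻¹ = h⁻¹ * (k * z * k⁻¹) * h by group, hk]; group) h4 (hR b0)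
      (.inl (r.R_le_N0 b0)))).2.2.2
  obtain ⟨e, he, e', he', h1, h2, h3⟩ := h4
  obtain ⟨b, b1, b2⟩ := ex e he
  obtain ⟨b', b1', b2'⟩ := ex e' he'
  have k1 := key b b1 (b2 ▸ r.mu_nz he h1)
  have k2 := key b' b1' (b2' ▸ r.mu_nz he' h2)
  refine (key _ (mul b b' b1 b1') ?_).2 ?_
  · rw [r.mu_mul b b1.1 b' b1'.1, b2, b2', ← r.mu_mul e (r.ER he) e' (r.ER he')]; exact r.mu_nz (mul_mem he he') h3
  · rw [← conj_mul]; exact H.mul (nR k1.1) (nR k2.1) k1.2 k2.2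

omit hP hT hR hz hc e in
theorem Hyp.sc (h4 : s.E4) : Su.SC G := by
  obtain ⟨P, hP, hT, hR⟩ := r.exists_P
  have n : s.Z ≠ ⊥ := fun h => s.zc_one_ne (mem_bot.1 (h ▸ s.zc_mem 1))
  obtain ⟨z, hz, o, hc⟩ := pg_exists_fixed_of_order_p (s.pQ.to_le s.ZQ) hP.isPGroup
    ((H.le_nR hP.isPGroup hT hR).trans r.nR_nZ) n
  obtain ⟨P, rfl⟩ := hP.exists_sylow_top
  refine ⟨P, s.Z, n, ⟨⟨⟨fun a b => Subtype.ext (mem_centralizer_iff.1 (s.QcZ (s.ZQ b.2)) a a.2)⟩⟩,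
    fun a ha => by rw [pow_two, s.sqZ ha]⟩, r.ZR.trans hR, fun x hx g hg => ?_⟩
  by_cases h1 : x = 1
  · simp [h1, one_mem]
  obtain ⟨k, rfl⟩ := s.conj_Z hz hx (by rintro rfl; simp at o) h1
  exact H.inZ' hP hT hR hz hc (g := g * k) (by group) h4 hg

end RR

end Cfsg.Lib.U3F
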