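import Cfsg.Agent.Lib.U3F.RApi

/-!
# Existence of `R`
-/

set_option autoImplicit false

namespace Cfsg.Lib.U3F.Su
open Subgroup Cfsg.Lib Cfsg.Lib.FT Cfsg.Lib.TwoL Cfsg.Lib.U3S

variable {G : Type*} [Group G] {F : Type*} [Field F] {τ : F ≃+* F} [Fact (Function.Involutive τ)] (s : Su G τ)

open Classical in
/-- the coordinate of an element of `Z` -/
noncomputable def cz (g : G) : F := if h : g ∈ s.Z then (s.mem_Z.1 h).choose else 0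

theorem cz_k (g : G) : τ (s.cz g) = s.cz g := by
  unfold cz; split_ifs with h
  exacts [(s.mem_Z.1 h).choose_spec.1, map_zero τ]

theorem zc_cz {g : G} (h : g ∈ s.Z) : s.zc (s.cz g) = g := by
  rw [cz, dif_pos h]; exact (s.mem_Z.1 h).choose_spec.2

theorem cz_zc {b : F} (h : τ b = b) : s.cz (s.zc b) = b := s.zc_inj (s.cz_k _) h (s.zc_cz (s.zc_mem b))

@[simp] theorem cz_one : s.cz 1 = 0 := by rw [← s.zc_zero, s.cz_zc (map_zero τ)]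

theorem cz_eq_zero {g : G} (h : g ∈ s.Z) : s.cz g = 0 ↔ g = 1 := by rw [← s.zc_eq_one (s.cz_k g), s.zc_cz h]

theorem cz_mul {g g' : G} (h : g ∈ s.Z) (h' : g' ∈ s.Z) : s.cz (g * g') = s.cz g + s.cz g' := by
  rw [← s.cz_zc (b := _ + _) (by rw [map_add, s.cz_k, s.cz_k]), s.zc_add (s.cz_k _) (s.cz_k _), s.zc_cz h, s.zc_cz h']

theorem cz_pow (j : ℕ) {g : G} (h : g ∈ s.Z) : s.cz (s.ρ ^ j * g * (s.ρ ^ j)⁻¹) = (s.l * τ s.l) ^ j * s.cz g := by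
  conv_lhs => rw [← s.zc_cz h, s.ρ_pow_zc j (s.cz_k g), s.cz_zc (by rw [map_mul, map_pow, nu_k, s.cz_k])]

theorem cz_ρ {g : G} (h : g ∈ s.Z) : s.cz (s.ρ * g * s.ρ⁻¹) = s.l * τ s.l * s.cz g := by simpa using s.cz_pow 1 h

/-- the coordinate of a commutator -/
noncomputable def β (a b : G) : F := s.cz (a * b * a⁻¹ * b⁻¹)

theorem β_k (a b : G) : τ (s.β a b) = s.β a b := s.cz_k _

theorem β_mul {a b c : G} (ha : a ∈ C[s.Z]) (h1 : a * c * a⁻¹ * c⁻¹ ∈ s.Z) (h2 : b * c * b⁻¹ * c⁻¹ ∈ s.Z) :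
    s.β (a * b) c = s.β a c + s.β b c := by
  rw [β, β, β, add_comm, ← s.cz_mul h2 h1, ← cc ha h2]; congr 1; group

theorem β_symm {a b : G} (h : a * b * a⁻¹ * b⁻¹ ∈ s.Z) : s.β b a = s.β a b := by
  rw [β, β, ← inv_of_sq (s.sqZ h)]; congr 1; group

theorem β_zero {a b : G} (h : a * b = b * a) : s.β a b = 0 := by rw [β, h]; simp

theorem β_eq_zero {a b : G} (h : a * b * a⁻¹ * b⁻¹ ∈ s.Z) : s.β a b = 0 ↔ a * b = b * a := by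
  rw [β, s.cz_eq_zero h, mul_inv_eq_one, mul_inv_eq_iff_eq_mul]

theorem β_pow (j : ℕ) {a b : G} (h : a * b * a⁻¹ * b⁻¹ ∈ s.Z) :
    s.β (s.ρ ^ j * a * (s.ρ ^ j)⁻¹) (s.ρ ^ j * b * (s.ρ ^ j)⁻¹) = (s.l * τ s.l) ^ j * s.β a b := by
  rw [β, β, ← s.cz_pow j h]; congr 1; group

theorem β_ρ {a b : G} (h : a * b * a⁻¹ * b⁻¹ ∈ s.Z) :
    s.β (s.ρ * a * s.ρ⁻¹) (s.ρ * b * s.ρ⁻¹) = s.l * τ s.l * s.β a b := by simpa using s.β_pow 1 h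

open Classical in
/-- the `Q`-coordinate on `Q C(Q)` -/
noncomputable def qa (g : G) : F := if h : ∃ x : U3S τ, (s.ι x)⁻¹ * g ∈ C[s.Q] then h.choose.a else 0

theorem a_of_cQ {x : U3S τ} (h : s.ι x ∈ C[s.Q]) : x.a = 0 :=
  (mem_center_iff s.om s.two x).1 (Subgroup.mem_center_iff.2 fun y => s.inj (by
    rw [map_mul, map_mul]; exact mem_centralizer_iff.1 h _ (s.ι_mem y)))

theorem qa_eq (x : U3S τ) {m : G} (hm : m ∈ C[s.Q]) : s.qa (s.ι x * m) = x.a := by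
  have h : ∃ y : U3S τ, (s.ι y)⁻¹ * (s.ι x * m) ∈ C[s.Q] := ⟨x, by simpa using hm⟩
  have := h.choose_spec
  rw [← mul_assoc, mul_mem_cancel_right hm, ← map_inv, ← map_mul] at this
  rw [qa, dif_pos h]
  simpa [neg_add_eq_zero] using s.a_of_cQ this

theorem qa_c {m : G} (hm : m ∈ C[s.Q]) : s.qa m = 0 := by simpa using s.qa_eq 1 hm

theorem qa_ι (x : U3S τ) : s.qa (s.ι x) = x.a := by simpa using s.qa_eq x (one_mem _)

theorem qa_mul {g g' : G} (h : g ∈ s.Q ⊔ C[s.Q]) (h' : g' ∈ s.Q ⊔ C[s.Q]) : s.qa (g * g') = s.qa g + s.qa g' := by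
  obtain ⟨x, m, hm, rfl⟩ := s.mem_QC.1 h
  obtain ⟨y, n, hn, rfl⟩ := s.mem_QC.1 h'
  rw [mul_assoc, ← mul_assoc m, ← mem_centralizer_iff.1 hm _ (s.ι_mem y), mul_assoc, ← mul_assoc, ← map_mul,
    s.qa_eq _ (mul_mem hm hn), s.qa_eq _ hm, s.qa_eq _ hn, mul_a]

theorem cQ_of_qa {g : G} (h : g ∈ s.Q ⊔ C[s.Q]) (h0 : s.qa g = 0) : g ∈ C[s.Q] := by
  obtain ⟨x, m, hm, rfl⟩ := s.mem_QC.1 h
  rw [s.qa_eq x hm] at h0
  exact mul_mem (s.AcQ (mem_sup_right (s.ι_mem_Z.2 h0))) hm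

variable [Finite G] [Finite F]

theorem qa_ρ {g : G} (h : g ∈ s.Q ⊔ C[s.Q]) : s.qa (s.ρ * g * s.ρ⁻¹) = s.l * s.qa g := by
  obtain ⟨x, m, hm, rfl⟩ := s.mem_QC.1 h
  obtain ⟨y, e, hy, -⟩ := s.ρι x
  rw [← conj_mul, e, s.qa_eq _ hm, s.qa_eq _ (cj (normalizer_le_normalizer_centralizer _ s.ρQ) hm), hy]

/-- the elements of `N0` acting trivially on `A/Z` -/
def St : Subgroup G where
  carrier := {n | n ∈ s.N0 ∧ ∀ a ∈ s.A, n * a * n⁻¹ * a⁻¹ ∈ s.Z}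
  one_mem' := ⟨one_mem _, fun a _ => by simp [one_mem]⟩
  mul_mem' := by
    rintro n m ⟨n1, n2⟩ ⟨m1, m2⟩
    refine ⟨mul_mem n1 m1, fun a ha => ?_⟩
    convert mul_mem (cj (s.nQ_nZ n1.1) (m2 a ha)) (n2 a ha) using 1; group
  inv_mem' := by
    rintro n ⟨n1, n2⟩
    refine ⟨inv_mem n1, fun a ha => ?_⟩
    convert cj' (s.nQ_nZ n1.1) (inv_mem (n2 a ha)) using 1; group

theorem mem_St {g : G} (h : g ∈ s.N0) (h' : ∀ e ∈ s.E, g * e * g⁻¹ * e⁻¹ ∈ s.Z) : g ∈ s.St := ⟨h, fun a ha => by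
  obtain ⟨e, he, z, hz, rfl⟩ := s.mem_A.1 ha
  rw [← conj_mul, cc (s.N0_cZ h) hz]
  simpa [mul_assoc] using h' e he⟩

theorem mem_St_of_C {g : G} (h : g ∈ s.N0) (hC : g ∈ s.C) : g ∈ s.St :=
  s.mem_St h fun e he => by rw [cc (s.CcE hC) he, mul_inv_cancel]; exact one_mem _

theorem nSt {g : G} (h : g ∈ N[s.Q]) (hA : g ∈ N[s.A]) : g ∈ N[s.St] := mem_n fun n hn =>
  ⟨cj (s.nQ_nN0 h) hn.1, fun a ha => by
    convert cj (s.nQ_nZ h) (hn.2 _ (cj' hA ha)) using 1; group⟩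

theorem B_nA {g : G} (hg : g ∈ s.B) : g ∈ N[s.A] := mem_n fun a ha => by
  obtain ⟨e, he, z, hz, rfl⟩ := s.mem_A.1 ha
  rw [← conj_mul, cc (s.CcE hg.1) he]
  exact mul_mem_sup he (cj (s.nQ_nZ hg.2) hz)

/-- elements of norm one centralize `Z` -/
theorem κ_cZ {j : ℕ} (h : s.l ^ j * τ (s.l ^ j) = 1) : s.ρ ^ j ∈ C[s.Z] := mem_c fun z hz => by
  obtain ⟨b, hb, rfl⟩ := s.mem_Z.1 hz
  rw [s.ρ_pow_zc j hb, mul_pow, ← map_pow, h, one_mul]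

/-- conjugates of involutions of `E` in `A` are conjugate under `N(Q) ∩ N(A)` -/
theorem ty_A {x : G} (hx : x ∈ s.A) (h : s.Ty x) :
    ∃ g ∈ N[s.Q], g ∈ N[s.A] ∧ ∃ e ∈ s.E, e ≠ 1 ∧ g * e * g⁻¹ = x := by
  obtain ⟨g, e, he, h1, rfl⟩ := h
  obtain ⟨c, hc, hZ, h⟩ := s.wc s.rob_Q he h1 fun q hq => mem_C1.2 (mem_centralizer_iff.1 (s.AcQ hx) q hq)
  have e1 : g * c * e * (g * c)⁻¹ = g * e * g⁻¹ := by
    rw [show g * c * e * (g * c)⁻¹ = g * (c * e * c⁻¹) * g⁻¹ by group, cc (s.CcE hc) he]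
  have hQ := s.nq h fun j hj => (s.mem_C_iff he h1).2 (by
    obtain ⟨e', he', z, hz, h'⟩ := s.mem_A.1 hx
    rw [e1, ← h', mem_C1, ← mul_inv_eq_iff_eq_mul, ← conj_mul, cc (s.CcE (pow_mem s.ρC j)) he', cc (s.κ_cZ hj) hz])
  refine ⟨g * c, hQ, mem_n fun a ha => ?_, e, he, h1, e1⟩
  obtain ⟨e', he', z, hz, rfl⟩ := s.mem_A.1 ha
  rw [← conj_mul]
  refine mul_mem (s.mem_A_of_p2 (cj (normalizer_le_normalizer_centralizer _ hQ) (s.EcQ he')) ?_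
    ((p2_of_sq (s.sqE e' he')).conj _)) (mem_sup_right (cj hZ hz))
  rw [Su.C, ← s.cE e he h1, mem_C1_comm]
  refine s.c_ty he h1 he' ?_
  obtain ⟨e'', he'', z', hz', h'⟩ := s.mem_A.1 hx
  rw [e1, ← h', mem_C1, ← mul_assoc, s.EE he he'', mul_assoc, ← mem_centralizer_iff.1 (s.EcZ he) z' hz', mul_assoc]

theorem St_C {n e : G} (hn : n ∈ s.St) (he : e ∈ s.E) (h1 : e ≠ 1) : s.β n e = 0 ↔ n ∈ s.C := by
  rw [s.β_eq_zero (hn.2 e (mem_sup_left he)), Su.C, ← s.cE e he h1, mem_C1]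

theorem St_mul {e : G} (he : e ∈ s.E) : ∀ n ∈ s.St, ∀ m ∈ s.St, s.β (n * m) e = s.β n e + s.β m e :=
  fun _ hn _ hm => s.β_mul (s.N0_cZ hn.1) (hn.2 e (mem_sup_left he)) (hm.2 e (mem_sup_left he))

theorem St_pow {n e : G} (hn : n ∈ s.St) (he : e ∈ s.E) (j : ℕ) :
    s.β (s.ρ ^ j * n * (s.ρ ^ j)⁻¹) e = (s.l * τ s.l) ^ j * s.β n e := by
  rw [← s.β_pow j (hn.2 e (mem_sup_left he)), cc (s.CcE (pow_mem s.ρC j)) he]

theorem St_inv {n e : G} (hn : n ∈ s.St) (he : e ∈ s.E) : s.β n⁻¹ e = s.β n e := by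
  have := s.St_mul he n hn _ (inv_mem hn)
  rw [mul_inv_cancel, s.β_zero (by simp)] at this
  linear_combination -this - s.β n e * s.two

theorem St_QC {n : G} (hn : n ∈ s.St) : n ∈ s.Q ⊔ C[s.Q] := by
  obtain ⟨j, j1, j2⟩ := s.exists_w
  obtain ⟨e, he, h1⟩ := s.exists_e
  have m := cj (s.nSt (pow_mem s.ρQ j) (s.B_nA (pow_mem s.ρB j))) hn
  obtain ⟨b, hb, o, ho, h⟩ := s.c2 (mul_mem m (inv_mem hn)).1 ((s.St_C (mul_mem m (inv_mem hn)) he h1).1 (by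
    rw [s.St_mul he _ m _ (inv_mem hn), s.St_pow hn he, s.St_inv hn he, mul_pow, ← map_pow, j1, one_mul, s.add_self]))
  refine s.ca hn.1 j1 j2 ?_
  rw [h]
  exact mul_mem ((sup_le (s.EcQ.trans le_sup_right) le_sup_left : s.B0 ≤ _) hb) (mem_sup_right (s.OQ ho))

theorem St_onto {x : G} (hx : x ∈ s.A) (hE : x ∉ s.E) (h : s.Ty x) {e : G} (he : e ∈ s.E) (h1 : e ≠ 1) {c : F}
    (hc : τ c = c) : ∃ n ∈ s.St, s.β n e = c := by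
  obtain ⟨g, hQ, hA, e', he', -, rfl⟩ := s.ty_A hx h
  obtain ⟨j, -, j2, hj⟩ := s.exists_conj_pow hQ
  have m : g * s.ρ * g⁻¹ * (s.ρ ^ j)⁻¹ ∈ s.St := s.mem_St hj fun a ha => by
    obtain ⟨e1, h1, z, hz, h⟩ := s.mem_A.1 (cj' hA (mem_sup_left ha))
    have := cj (s.nQ_nZ hQ) (mul_mem (cj (s.nQ_nZ s.ρQ) hz) (inv_mem hz))
    convert this using 1
    calc _ = g * s.ρ * g⁻¹ * ((s.ρ ^ j)⁻¹ * a * (s.ρ ^ j)⁻¹⁻¹) * (g * s.ρ * g⁻¹)⁻¹ * a⁻¹ := by group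
      _ = g * (s.ρ * (g⁻¹ * a * g) * s.ρ⁻¹ * (g⁻¹ * a * g)⁻¹) * g⁻¹ := by
          rw [cc (s.CcE (inv_mem (pow_mem s.ρC j))) ha]; group
      _ = g * (s.ρ * e1 * s.ρ⁻¹ * (s.ρ * z * s.ρ⁻¹ * z⁻¹) * e1⁻¹) * g⁻¹ := by rw [← h]; group
      _ = _ := by rw [cc (s.CcE s.ρC) h1, cc (s.EcZ h1) (mul_mem (cj (s.nQ_nZ s.ρQ) hz) (inv_mem hz))]
  have n0 : s.β (g * s.ρ * g⁻¹ * (s.ρ ^ j)⁻¹) e ≠ 0 := fun n0 => by
    have hC := (s.St_C m he h1).1 n0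
    obtain ⟨e1, h1, z, hz, h⟩ := s.mem_A.1 hx
    obtain ⟨b, hb, rfl⟩ := s.mem_Z.1 hz
    have c : g * s.ρ * g⁻¹ * (s.ρ ^ j)⁻¹ * (s.ρ ^ j * (e1 * s.zc b) * (s.ρ ^ j)⁻¹) *
        (g * s.ρ * g⁻¹ * (s.ρ ^ j)⁻¹)⁻¹ = e1 * s.zc b := by
      calc _ = g * (s.ρ * e' * s.ρ⁻¹) * g⁻¹ := by rw [h]; group
        _ = _ := by rw [cc (s.CcE s.ρC) he', h]
    rw [← conj_mul (b := s.ρ ^ j), cc (s.CcE (pow_mem s.ρC j)) h1, s.ρ_pow_zc j hb, ← conj_mul, cc (s.CcE hC) h1,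
      cc (s.N0_cZ hj) (s.zc_mem _), mul_right_inj] at c
    have := s.zc_inj (by rw [map_mul, map_pow, nu_k, hb]) hb c
    have b0 : b = 0 := by
      by_contra b0; exact j2 (mul_right_cancel₀ b0 (by rw [this, one_mul]))
    exact hE (by rw [← h, b0]; simpa using h1)
  by_cases c0 : c = 0
  · exact ⟨1, one_mem _, by rw [c0, s.β_zero (by simp)]⟩
  obtain ⟨i, hi⟩ := s.gen (c / _) (by rw [map_div₀, hc, s.β_k]) (div_ne_zero c0 n0)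
  exact ⟨_, cj (s.nSt (pow_mem s.ρQ i) (s.B_nA (pow_mem s.ρB i))) m, by
    rw [s.St_pow m he, hi, div_mul_cancel₀ _ n0]⟩

omit [Finite G] [Finite F] in
theorem nu_one : s.l * τ s.l + 1 ≠ 0 := fun e => s.nu_ne (by linear_combination e - s.two)

theorem exists_rr {x : G} (hx : x ∈ s.A) (hE : x ∉ s.E) (h : s.Ty x) : Nonempty (RR s) := by
  obtain ⟨e0, he0, h0⟩ := s.exists_e
  have ρS := s.nSt s.ρQ (s.B_nA s.ρB)
  have ρβ : ∀ n ∈ s.St, ∀ e ∈ s.E, s.β (s.ρ * n * s.ρ⁻¹) e = s.l * τ s.l * s.β n e := fun n hn e he => by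
    simpa using s.St_pow hn he 1
  have BS : s.B0 ≤ s.St := fun b hb => s.mem_St_of_C (s.B0_le_N0 hb) (s.TC (s.B0T hb))
  have OS : s.O ≤ s.St := fun o ho => s.mem_St_of_C (s.cQ_le_N0 (s.OQ ho)) (mem_sup_right (s.OU ho))
  obtain ⟨R, pR, mR, -, dec⟩ := stab s.two (H := s.St) (K := s.B0) (ρ := s.ρ) (s.syl.isPGroup.to_le s.B0T) BS OS
    s.Oodd s.OcB0 s.OO s.ρO ρS (s.St_mul he0) (fun o ho => (s.St_C (OS ho) he0 h0).2 (mem_sup_right (s.OU ho)))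
    (fun g hg h => s.c2 hg.1 ((s.St_C hg he0 h0).1 h)) fun g hg => by
      obtain ⟨n, hn, e⟩ := s.St_onto hx hE h he0 h0 (c := s.β g e0 / (s.l * τ s.l + 1))
        (by rw [map_div₀, s.β_k, map_add, map_one, nu_k])
      refine ⟨n, hn, ?_⟩
      have := s.nu_one
      rw [s.St_mul he0 _ (cj ρS hn) _ (inv_mem hn), ρβ n hn e0 he0, s.St_inv hn he0, e]; field_simp
  have RS : R ≤ s.St := fun r hr => ((mR r).1 hr).1
  have BR : s.B0 ≤ R := fun b hb => (mR b).2 ⟨BS hb, s.p2_B0 hb⟩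
  have ιR : ∀ x, s.ι x ∈ R := fun x => BR (mem_sup_right (s.ι_mem x))
  have ER : s.E ≤ R := le_sup_left.trans BR
  have ZR : s.Z ≤ R := s.ZQ.trans (le_sup_right.trans BR)
  have nR : ∀ g ∈ N[s.Q], g ∈ N[s.A] → g ∈ N[R] := fun g hg hA => mem_n fun r hr =>
    (mR _).2 ⟨cj (s.nSt hg hA) (RS hr), (p2_of_mem pR hr).conj g⟩
  have ρR := nR _ s.ρQ (s.B_nA s.ρB)
  have cZ : R ≤ C[s.Z] := fun r hr => s.N0_cZ (RS hr).1
  have dR : ∀ r ∈ R, ∃ x, ∃ d ∈ R, d ∈ C[s.Q] ∧ s.ι x * d = r := fun r hr => by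
    obtain ⟨x, d, hd, rfl⟩ := s.mem_QC.1 (s.St_QC (RS hr))
    exact ⟨x, d, (mul_mem_cancel_left (ιR x)).1 hr, hd, rfl⟩
  have kA : ∀ d ∈ R, d ∈ C[s.Q] → s.β d e0 = 0 → d ∈ s.A := fun d hd c h =>
    s.mem_A_of_p2 c ((s.St_C (RS hd) he0 h0).1 h) (p2_of_mem pR hd)
  have sqR : ∀ r ∈ R, r * r ∈ s.Z := fun r hr => by
    obtain ⟨x, d, hd, c, rfl⟩ := dR r hr
    have : d * d ∈ s.Z := by
      obtain ⟨e, he, z, hz, h⟩ := s.mem_A.1 (kA _ (mul_mem hd hd) (mul_mem c c) (by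
        rw [s.St_mul he0 d (RS hd) d (RS hd), s.add_self]))
      by_cases h1 : e = 1
      · rwa [← h, h1, one_mul]
      have : d * (e * z) * d⁻¹ = e * z := by rw [h]; group
      rw [← conj_mul, cc (cZ hd) hz, mul_left_inj, mul_inv_eq_iff_eq_mul, ← mem_C1, s.cE e he h1] at this
      rw [s.sqA (s.mem_A_of_p2 c this (p2_of_mem pR hd))]; exact one_mem _
    rw [mul_assoc, ← mul_assoc d, ← mem_centralizer_iff.1 c _ (s.ι_mem x), mul_assoc, ← mul_assoc, s.ι_sq]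
    exact mul_mem (s.zc_mem _) this
  have cm : ∀ a ∈ R, ∀ b ∈ R, a * b * a⁻¹ * b⁻¹ ∈ s.Z := fun a ha b hb => comm_mem_of_sq sqR ha hb
  have βl : ∀ a ∈ R, ∀ b ∈ R, ∀ c ∈ R, s.β (a * b) c = s.β a c + s.β b c := fun a ha b hb c hc =>
    s.β_mul (cZ ha) (cm a ha c hc) (cm b hb c hc)
  have βs : ∀ a ∈ R, ∀ b ∈ R, s.β b a = s.β a b := fun a ha b hb => s.β_symm (cm a ha b hb)
  have βr : ∀ a ∈ R, ∀ b ∈ R, ∀ c ∈ R, s.β c (a * b) = s.β c a + s.β c b := fun a ha b hb c hc => by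
    rw [βs _ (mul_mem ha hb) c hc, βs a ha c hc, βs b hb c hc, βl a ha b hb c hc]
  have βQ : ∀ x, ∀ d ∈ C[s.Q], s.β (s.ι x) d = 0 := fun x d hd => s.β_zero (mem_centralizer_iff.1 hd _ (s.ι_mem x))
  have βQ' : ∀ x, ∀ d ∈ C[s.Q], s.β d (s.ι x) = 0 := fun x d hd =>
    s.β_zero (mem_centralizer_iff.1 hd _ (s.ι_mem x)).symm
  have βZ : ∀ a ∈ R, ∀ z ∈ s.Z, s.β a z = 0 := fun a ha z hz => s.β_zero (mem_centralizer_iff.1 (cZ ha) z hz).symm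
  have βE : ∀ e ∈ s.E, ∀ e' ∈ s.E, s.β e e' = 0 := fun e he e' he' => s.β_zero (s.EE he he')
  have onD : ∀ c, τ c = c → ∃ d ∈ R, d ∈ C[s.Q] ∧ s.β d e0 = c := fun c hc => by
    obtain ⟨n, hn, rfl⟩ := s.St_onto hx hE h he0 h0 hc
    obtain ⟨r, hr, o, ho, rfl⟩ := dec n hn
    obtain ⟨x, d, hd, c, rfl⟩ := dR r hr
    refine ⟨d, hd, c, ?_⟩
    rw [s.St_mul he0 _ (RS hr) o (OS ho), (s.St_C (OS ho) he0 h0).2 (mem_sup_right (s.OU ho)),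
      βl _ (ιR x) d hd e0 (ER he0), βQ x e0 (s.EcQ he0)]; ring
  obtain ⟨n1, hn1, cn1, ln1⟩ := onD 1 (map_one τ)
  have lin : ∀ r ∈ R, ∀ e ∈ s.E, s.β r e = s.β r e0 * s.β n1 e := fun r hr e he => by
    obtain ⟨θ, t1, t2⟩ := ind (X := R) (f := fun r => s.β r e0) (φ := fun r => s.β r e)
      (fun a ha b hb => βl a ha b hb e0 (ER he0)) (fun a ha b hb => βl a ha b hb e (ER he)) fun a ha h =>
        s.β_zero (mem_centralizer_iff.1 (s.CcE ((s.St_C (RS ha) he0 h0).1 h)) e he).symm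
    rw [t1 r hr, t1 n1 hn1, ln1]
    refine s.lin1 (fun a b ha hb => ?_) (fun a ha => ?_) (s.β_k _ _)
    · obtain ⟨a, ha', -, rfl⟩ := onD a ha
      obtain ⟨b, hb', -, rfl⟩ := onD b hb
      exact t2 a ha' b hb'
    · obtain ⟨a, ha', -, rfl⟩ := onD a ha
      rw [← ρβ a (RS ha') e0 he0, ← t1 _ (cj ρR ha'), ← t1 a ha', ρβ a (RS ha') e he]
  let V : AddSubgroup F :=
    { carrier := {c | ∃ e ∈ s.E, c = s.β n1 e}
      zero_mem' := ⟨1, one_mem _, (s.β_zero (by simp)).symm⟩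
      add_mem' := by
        rintro _ _ ⟨a, ha, rfl⟩ ⟨b, hb, rfl⟩; exact ⟨a * b, mul_mem ha hb, (βr a (ER ha) b (ER hb) n1 hn1).symm⟩
      neg_mem' := by rintro _ ⟨a, ha, rfl⟩; exact ⟨a, ha, by linear_combination -s.β n1 a * s.two⟩ }
  have βB : ∀ e ∈ s.E, ∀ x, s.β n1 (e * s.ι x) = s.β n1 e := fun e he x => by
    rw [βr e (ER he) _ (ιR x) n1 hn1, βQ' x n1 cn1, add_zero]
  obtain ⟨mu, m1, m2, m3, m4⟩ := ext_hom s.two BR (f₀ := s.β n1) (fun a ha b hb => βr a (BR ha) b (BR hb) n1 hn1)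
    (fun r hr => ⟨s.AB0 (mem_sup_right (sqR r hr)), βZ n1 hn1 _ (sqR r hr)⟩) (V := V) (fun b hb => by
      obtain ⟨e, he, x, rfl⟩ := s.mem_B0.1 hb
      exact ⟨e, he, βB e he x⟩) ρR (mem_n fun b hb => by
      obtain ⟨e, he, x, rfl⟩ := s.mem_B0.1 hb
      rw [← conj_mul, cc (s.CcE s.ρC) he]
      exact mul_mem_sup he (cj s.ρQ (s.ι_mem x))) s.ρodd (c := 1) (one_pow _) (by simp) fun b hb => by
      obtain ⟨e, he, x, rfl⟩ := s.mem_B0.1 hb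
      obtain ⟨y, e', -⟩ := s.ρι x
      rw [← conj_mul, cc (s.CcE s.ρC) he, e', βB e he, βB e he, one_mul]
  have mE : ∀ e ∈ s.E, mu e = s.β n1 e := fun e he => m2 e (mem_sup_left he)
  have mQ : ∀ x, mu (s.ι x) = 0 := fun x => by rw [m2 _ (mem_sup_right (s.ι_mem x)), βQ' x n1 cn1]
  have mZ : ∀ z ∈ s.Z, mu z = 0 := by rintro _ ⟨x, -, rfl⟩; exact mQ x
  have inj : ∀ e ∈ s.E, mu e = 0 → e = 1 := fun e he h => by
    by_contra h1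
    rw [mE e he, s.St_C (RS hn1) he h1, ← s.St_C (RS hn1) he0 h0, ln1] at h
    exact one_ne_zero h
  have QC : ∀ r ∈ R, r ∈ s.Q ⊔ C[s.Q] := fun r hr => s.St_QC (RS hr)
  have ker : ∀ r ∈ R, s.qa r = 0 → s.β r e0 = 0 → mu r = 0 → r ∈ s.Z := fun r hr a b c => by
    obtain ⟨e, he, z, hz, rfl⟩ := s.mem_A.1 (kA r hr (s.cQ_of_qa (QC r hr) a) b)
    rw [m1 e (ER he) z (ZR hz), mZ z hz, add_zero] at c
    rwa [inj e he c, one_mul]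
  have dD : ∀ d ∈ R, d ∈ C[s.Q] → ∃ y ∈ R, y ∈ C[s.Q] ∧ mu y = 0 ∧ ∃ e ∈ s.E, y * e = d := fun d hd c => by
    obtain ⟨e, he, h⟩ := m3 d hd
    exact ⟨d * e, mul_mem hd (ER he), mul_mem c (s.EcQ he), by rw [m1 d hd e (ER he), h, mE e he, s.add_self], e, he,
      by rw [mul_assoc, s.sqE e he, mul_one]⟩
  have onto : ∀ c, ∃ y, τ c = c → y ∈ R ∧ y ∈ C[s.Q] ∧ mu y = 0 ∧ s.β y e0 = c := fun c => by
    by_cases hc : τ c = c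
    · obtain ⟨d, hd, cd, rfl⟩ := onD c hc
      obtain ⟨y, hy, cy, my, e, he, rfl⟩ := dD d hd cd
      exact ⟨y, fun _ => ⟨hy, cy, my, by rw [βl y hy e (ER he) e0 (ER he0), βE e he e0 he0, add_zero]⟩⟩
    · exact ⟨1, fun h => (hc h).elim⟩
  choose Y hY using onto
  have eqY : ∀ y ∈ R, y ∈ C[s.Q] → mu y = 0 → ∃ z ∈ s.Z, y = Y (s.β y e0) * z := fun y hy c m => by
    obtain ⟨a1, a2, a3, a4⟩ := hY _ (s.β_k y e0)
    have a5 := m1 _ a1 _ (mul_mem (inv_mem a1) hy)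
    rw [mul_inv_cancel_left, m, a3, zero_add] at a5
    refine ⟨_, ker _ (mul_mem (inv_mem a1) hy) (s.qa_c (mul_mem (inv_mem a2) c)) ?_ a5.symm, by group⟩
    rw [βl _ (inv_mem a1) y hy e0 (ER he0), s.St_inv (RS a1) he0, a4, s.add_self]
  have eqβ : ∀ y ∈ R, y ∈ C[s.Q] → mu y = 0 → ∀ r ∈ R, s.β r y = s.β r (Y (s.β y e0)) := fun y hy c m r hr => by
    obtain ⟨z, hz, e⟩ := eqY y hy c m
    conv_lhs => rw [e, βr _ (hY _ (s.β_k y e0)).1 z (ZR hz) r hr, βZ r hr z hz, add_zero]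
  have Yadd : ∀ a b, τ a = a → τ b = b → Y a * Y b ∈ R ∧ Y a * Y b ∈ C[s.Q] ∧ mu (Y a * Y b) = 0 ∧
      s.β (Y a * Y b) e0 = a + b := fun a b ha hb => by
    obtain ⟨a1, a2, a3, a4⟩ := hY a ha
    obtain ⟨b1, b2, b3, b4⟩ := hY b hb
    exact ⟨mul_mem a1 b1, mul_mem a2 b2, by rw [m1 _ a1 _ b1, a3, b3, add_zero], by rw [βl _ a1 _ b1 e0 (ER he0), a4, b4]⟩
  have Yρ : ∀ a, τ a = a → s.ρ * Y a * s.ρ⁻¹ ∈ R ∧ s.ρ * Y a * s.ρ⁻¹ ∈ C[s.Q] ∧ mu (s.ρ * Y a * s.ρ⁻¹) = 0 ∧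
      s.β (s.ρ * Y a * s.ρ⁻¹) e0 = s.l * τ s.l * a := fun a ha => by
    obtain ⟨a1, a2, a3, a4⟩ := hY a ha
    exact ⟨cj ρR a1, cj (normalizer_le_normalizer_centralizer _ s.ρQ) a2, by rw [m4 _ a1, a3, mul_zero],
      by rw [ρβ _ (RS a1) e0 he0, a4]⟩
  have νk : ∀ a, τ a = a → τ (s.l * τ s.l * a) = s.l * τ s.l * a := fun a ha => by rw [map_mul, nu_k, ha]
  have hr : ∀ a b, τ a = a → τ b = b → ∀ r ∈ R, s.β r (Y (a + b)) = s.β r (Y a) + s.β r (Y b) := fun a b ha hb r hr => by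
    obtain ⟨a1, a2, a3, a4⟩ := Yadd a b ha hb
    rw [← a4, ← eqβ _ a1 a2 a3 r hr, βr _ (hY a ha).1 _ (hY b hb).1 r hr]
  have YY0 : ∀ a b, τ a = a → τ b = b → s.β (Y a) (Y b) = 0 := fun a b ha hb => by
    have := s.hua1 (B := fun a b => s.β (Y a) (Y b)) (fun _ _ _ _ => s.β_k _ _) (fun a b c ha hb hc => by
      rw [βs _ (hY c hc).1 _ (hY _ (by rw [map_add, ha, hb])).1, hr a b ha hb _ (hY c hc).1,
        βs _ (hY c hc).1 _ (hY a ha).1, βs _ (hY c hc).1 _ (hY b hb).1])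
      (fun a b c ha hb hc => hr b c hb hc _ (hY a ha).1) (fun a b ha hb => by
        obtain ⟨a1, a2, a3, a4⟩ := Yρ a ha
        obtain ⟨b1, b2, b3, b4⟩ := Yρ b hb
        rw [← s.β_ρ (cm _ (hY a ha).1 _ (hY b hb).1), eqβ _ b1 b2 b3 _ a1, b4, βs _ (hY _ (νk b hb)).1 _ a1,
          eqβ _ a1 a2 a3 _ (hY _ (νk b hb)).1, a4, βs _ (hY _ (νk b hb)).1 _ (hY _ (νk a ha)).1]) ha hb
    simpa [s.β_zero (rfl : Y 1 * Y 1 = Y 1 * Y 1)] using this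
  have YY : ∀ y ∈ R, y ∈ C[s.Q] → mu y = 0 → ∀ y' ∈ R, y' ∈ C[s.Q] → mu y' = 0 → s.β y y' = 0 :=
    fun y hy c m y' hy' c' m' => by
      rw [eqβ y' hy' c' m' y hy, βs _ (hY _ (s.β_k _ _)).1 y hy, eqβ y hy c m _ (hY _ (s.β_k _ _)).1,
        YY0 _ _ (s.β_k _ _) (s.β_k _ _)]
  have eqq : ∀ y ∈ R, y ∈ C[s.Q] → mu y = 0 → y * y = Y (s.β y e0) * Y (s.β y e0) := fun y hy c m => by
    obtain ⟨z, hz, e⟩ := eqY y hy c m
    have c := mem_centralizer_iff.1 (cZ (hY _ (s.β_k y e0)).1) z hz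
    conv_lhs => rw [e, mul_assoc, ← mul_assoc z, c, mul_assoc, s.sqZ hz, mul_one]
  have Yq : ∀ a, τ a = a → s.cz (Y a * Y a) = a * s.cz (Y 1 * Y 1) := fun a ha =>
    s.lin1 (f := fun a => s.cz (Y a * Y a)) (fun a b ha hb => by
      obtain ⟨a1, a2, a3, a4⟩ := Yadd a b ha hb
      have c := (s.β_eq_zero (cm _ (hY a ha).1 _ (hY b hb).1)).1 (YY0 a b ha hb)
      rw [← a4, ← eqq _ a1 a2 a3, ← s.cz_mul (sqR _ (hY a ha).1) (sqR _ (hY b hb).1), mul_assoc, ← mul_assoc (Y b),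
        ← c, mul_assoc, ← mul_assoc]) (fun a ha => by
      obtain ⟨a1, a2, a3, a4⟩ := Yρ a ha
      rw [← s.cz_ρ (sqR _ (hY a ha).1), ← a4, ← eqq _ a1 a2 a3, conj_mul]) ha
  have dec3 : ∀ r ∈ R, ∃ x, ∃ y ∈ R, y ∈ C[s.Q] ∧ mu y = 0 ∧ ∃ e ∈ s.E, s.ι x * (y * e) = r ∧ s.qa r = x.a ∧
      s.β r e0 = s.β y e0 ∧ mu r = s.β n1 e := fun r hr => by
    obtain ⟨x, d, hd, c, rfl⟩ := dR r hr
    obtain ⟨y, hy, cy, my, e, he, rfl⟩ := dD d hd c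
    exact ⟨x, y, hy, cy, my, e, he, rfl, s.qa_eq x c,
      by rw [βl _ (ιR x) _ hd e0 (ER he0), βl y hy e (ER he) e0 (ER he0), βQ x e0 (s.EcQ he0), βE e he e0 he0]; ring,
      by rw [m1 _ (ιR x) _ hd, m1 y hy e (ER he), mQ, my, mE e he]; ring⟩
  refine ⟨⟨R, s.qa, fun r => s.β r e0, mu, s.cz (Y 1 * Y 1), pR, le_sup_right.trans BR, ER,
    fun a ha b hb => s.qa_mul (QC a ha) (QC b hb), fun a ha b hb => βl a ha b hb e0 (ER he0), m1, s.qa_ι,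
    fun x => βQ x e0 (s.EcQ he0), mQ, fun e he => s.qa_c (s.EcQ he), fun e he => βE e he e0 he0, inj,
    fun _ _ => s.β_k _ _, fun r hr => by obtain ⟨e, -, h⟩ := m3 r hr; rw [h, s.β_k], s.cz_k _, ker,
    fun c hc => ⟨Y c, (hY c hc).1, s.qa_c (hY c hc).2.1, (hY c hc).2.2.2, (hY c hc).2.2.1⟩,
    fun r hr => (m3 r hr).imp fun e h => ⟨h.1, h.2.trans (mE e h.1).symm⟩, fun r hr r' hr' => ?_, fun r hr => ?_, ρR,
    fun r hr => s.qa_ρ (QC r hr), fun r hr => ρβ r (RS hr) e0 he0, fun r hr => by rw [m4 r hr, one_mul], nR,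
    fun g hg h h2 => (mR g).2 ⟨s.mem_St hg fun e he => by rw [inv_of_sq (s.sqE e he)]; exact h e he, h2⟩⟩⟩
  · rw [← s.zc_cz (cm r hr r' hr')]
    congr 1
    obtain ⟨x, y, hy, cy, my, e, he, rfl, a1, a2, a3⟩ := dec3 r hr
    obtain ⟨x', y', hy', cy', my', e', he', rfl, b1, b2, b3⟩ := dec3 r' hr'
    have d := mul_mem hy (ER he)
    have d' := mul_mem hy' (ER he')
    change s.β _ _ = _
    rw [a1, a2, a3, b1, b2, b3, βl _ (ιR x) _ d _ hr', βr _ (ιR x') _ d' _ (ιR x), βr _ (ιR x') _ d' _ d,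
      βQ x _ (mul_mem cy' (s.EcQ he')), βQ' x' _ (mul_mem cy (s.EcQ he)), βl y hy e (ER he) _ d',
      βr y' hy' e' (ER he') y hy, βr y' hy' e' (ER he') e (ER he), YY y hy cy my y' hy' cy' my', βE e he e' he',
      βs y' hy' e (ER he), lin y hy e' he', lin y' hy' e he, β, s.ι_comm,
      s.cz_zc (by simp only [map_add, map_mul, ττ]; ring)]
    ring
  · obtain ⟨x, y, hy, cy, my, e, he, rfl, a1, a2, a3⟩ := dec3 r hr
    have k1 := s.β_k y e0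
    rw [a1, a2, a3, s.zc_add (nu_k _) (by rw [map_mul, map_add, k1, s.β_k, s.cz_k]), ← s.ι_sq, mul_add, ← Yq _ k1,
      ← eqq y hy cy my, ← lin y hy e he, s.zc_add (s.β_k _ _) (s.cz_k _), s.zc_cz (sqR y hy), β,
      s.zc_cz (cm y hy e (ER he)), mul_assoc, ← mul_assoc (y * e),
      ← mem_centralizer_iff.1 (mul_mem cy (s.EcQ he)) _ (s.ι_mem x), inv_of_sq (s.sqE e he)]
    calc _ = s.ι x * s.ι x * (y * e * y⁻¹ * (y * y * e)) := by group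
      _ = _ := by rw [mem_centralizer_iff.1 (s.EcZ he) _ (sqR y hy)]; group

end Cfsg.Lib.U3F.Su
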