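import Cfsg.Agent.Lib.U3F.Defs
import Cfsg.Agent.Lib.Misc.U3Syl

/-!
# Field lemmas (`k` is the fixed field of `τ`, `ν = l τ(l)` generates `k^*`)
-/

set_option autoImplicit false

namespace Cfsg.Lib.U3F

/-- the fixed field -/
def kF {F : Type*} [Field F] (τ : F ≃+* F) : Subfield F where
  carrier := {x | τ x = x}
  mul_mem' := fun {a b} (ha : τ a = a) (hb : τ b = b) => show τ (a * b) = a * b by rw [map_mul, ha, hb]
  one_mem' := map_one τ
  add_mem' := fun {a b} (ha : τ a = a) (hb : τ b = b) => show τ (a + b) = a + b by rw [map_add, ha, hb]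
  zero_mem' := map_zero τ
  neg_mem' := fun {a} (ha : τ a = a) => show τ (-a) = -a by rw [map_neg, ha]
  inv_mem' := fun a (ha : τ a = a) => show τ a⁻¹ = a⁻¹ by rw [map_inv₀, ha]

namespace Su
open Subgroup Cfsg.Lib Cfsg.Lib.FT Cfsg.Lib.TwoL Cfsg.Lib.U3S

variable {G : Type*} [Group G] {F : Type*} [Field F] {τ : F ≃+* F} [Fact (Function.Involutive τ)] (s : Su G τ)
include s

theorem om : ∃ ω, τ ω ≠ ω := ⟨_, s.lτ⟩

theorem add_self (x : F) : x + x = 0 := by rw [← two_mul, s.two, zero_mul]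

theorem sq_inj {a b : F} (h : a ^ 2 = b ^ 2) : a = b := by
  have : (a - b) ^ 2 = 0 := by linear_combination h + (b * b - a * b) * s.two
  exact sub_eq_zero.1 (pow_eq_zero_iff two_ne_zero |>.1 this)

theorem l_ne : s.l ≠ 0 := fun h => s.lτ (by rw [h, map_zero])

theorem nu_ne : s.l * τ s.l ≠ 1 := fun h => by
  obtain ⟨c, c1, c2, c3⟩ := s.four
  obtain ⟨i, hi⟩ := s.gen c c1 c2
  exact c3 (by rw [← hi, h, one_pow])

omit s in
theorem nu_k (a : F) : τ (a * τ a) = a * τ a := by rw [map_mul, ττ, mul_comm]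

theorem nu_ne0 : s.l * τ s.l ≠ 0 := mul_ne_zero s.l_ne (by simpa using s.l_ne)

theorem tr_l : s.l + τ s.l ≠ 0 := fun h => s.lτ (by linear_combination h - s.l * s.two)

/-- a power `w` of `l` of norm one, `w ≠ 1` -/
theorem exists_w : ∃ j : ℕ, s.l ^ j * τ (s.l ^ j) = 1 ∧ s.l ^ j ≠ 1 := by
  obtain ⟨i, hi⟩ := s.frob τ
  have e : s.l ^ (2 ^ i - 1) * s.l = τ s.l := by rw [← pow_succ, Nat.sub_add_cancel Nat.one_le_two_pow, hi]
  have e' := congrArg τ e
  rw [map_mul, ττ] at e'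
  refine ⟨2 ^ i - 1, mul_right_cancel₀ s.nu_ne0 ?_, fun h => s.lτ (by rw [← e, h, one_mul])⟩
  calc _ = s.l ^ (2 ^ i - 1) * s.l * (τ (s.l ^ (2 ^ i - 1)) * τ s.l) := by ring
    _ = _ := by rw [e, e']; ring

/-- each element of `k^*` is a power of `l` -/
theorem exists_pow {c : F} (h : τ c = c) (h0 : c ≠ 0) : ∃ j : ℕ, s.l ^ j = c := by
  obtain ⟨i, hi⟩ := s.frob τ
  obtain ⟨j, hj⟩ := s.gen c h h0
  exact ⟨(1 + 2 ^ i) * j, by rw [← hj, pow_mul, pow_add, pow_one, hi]⟩

theorem span (x : F) : ∃ c d, τ c = c ∧ τ d = d ∧ x = c + d * s.l := by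
  have h := s.tr_l
  have hd : τ ((x + τ x) / (s.l + τ s.l)) = (x + τ x) / (s.l + τ s.l) := by simp [add_comm]
  have e := div_mul_cancel₀ (x + τ x) h
  refine ⟨x + (x + τ x) / (s.l + τ s.l) * s.l, _, ?_, hd, by rw [add_assoc, s.add_self, add_zero]⟩
  rw [map_add, map_mul, hd]
  linear_combination e - ((x + τ x) / (s.l + τ s.l) * s.l - τ x) * s.two

theorem exists_tr {a b : F} (ha : a ≠ 0) (hb : τ b = b) : ∃ x, x * τ a + τ x * a = b := by
  have h := s.tr_l
  have h' : τ s.l + s.l ≠ 0 := by rwa [add_comm]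
  have ha' : τ a ≠ 0 := by simpa using ha
  refine ⟨b * s.l / (s.l + τ s.l) / τ a, ?_⟩
  simp only [map_div₀, map_mul, map_add, ττ, hb, add_comm (τ s.l)]
  field_simp

theorem tr_eq_zero {a x : F} (ha : a ≠ 0) : x * τ a + τ x * a = 0 ↔ ∃ c, τ c = c ∧ x = c * a := by
  have ha' : τ a ≠ 0 := by simpa using ha
  refine ⟨fun h => ⟨x / a, ?_, by field_simp⟩, ?_⟩
  · rw [map_div₀, div_eq_div_iff ha' ha]; linear_combination h - x * τ a * s.two
  · rintro ⟨c, hc, rfl⟩; rw [map_mul, hc]; linear_combination c * a * τ a * s.two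

theorem eq_zero_of_tr {a : F} (h : ∀ x, x * τ a + τ x * a = 0) : a = 0 := by
  by_contra ha
  obtain ⟨x, hx⟩ := s.exists_tr ha (map_one τ)
  exact one_ne_zero (hx.symm.trans (h x))

/-- an additive subgroup stable under `l` is trivial or everything -/
theorem closed_top {V : AddSubgroup F} (h : ∀ v ∈ V, s.l * v ∈ V) {v : F} (hv : v ∈ V) (h0 : v ≠ 0) (x : F) :
    x ∈ V := by
  have hp : ∀ (j : ℕ), ∀ v ∈ V, s.l ^ j * v ∈ V := fun j => by
    induction j with
    | zero => simp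
    | succ j ih => exact fun v hv => by rw [pow_succ', mul_assoc]; exact h _ (ih v hv)
  have hk : ∀ c, τ c = c → ∀ v ∈ V, c * v ∈ V := fun c hc v hv => by
    by_cases c0 : c = 0
    · simp [c0]
    · obtain ⟨j, rfl⟩ := s.exists_pow hc c0
      exact hp j v hv
  obtain ⟨c, d, hc, hd, e⟩ := s.span (x / v)
  rw [← div_mul_cancel₀ x h0, e, add_mul, mul_assoc]
  exact add_mem (hk c hc v hv) (hk d hd _ (h v hv))

/-- an additive map on `k` commuting with `ν` is a scalar -/
theorem lin1 {f : F → F} (h : ∀ a b, τ a = a → τ b = b → f (a + b) = f a + f b)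
    (he : ∀ a, τ a = a → f (s.l * τ s.l * a) = s.l * τ s.l * f a) {a : F} (ha : τ a = a) : f a = a * f 1 := by
  by_cases a0 : a = 0
  · have := h 0 0 (map_zero _) (map_zero _)
    rw [add_zero] at this
    rw [a0, zero_mul]; linear_combination -this
  obtain ⟨j, rfl⟩ := s.gen a ha a0
  clear ha a0
  induction j with
  | zero => simp
  | succ j ih => rw [pow_succ', he _ (by rw [map_pow, nu_k]), ih, mul_assoc (_ * _)]

variable [Finite F]

theorem sqrt_ex (b : F) : ∃ c, c ^ 2 = b :=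
  Finite.injective_iff_surjective.1 (fun _ _ h => s.sq_inj h : Function.Injective fun y : F => y ^ 2) b

theorem exists_sqrt {b : F} (hb : τ b = b) : ∃ c, τ c = c ∧ c ^ 2 = b := by
  obtain ⟨c, rfl⟩ := s.sqrt_ex b
  exact ⟨c, s.sq_inj (by rw [← map_pow, hb]), rfl⟩

theorem exists_norm {a b : F} (ha : a ≠ 0) (hb : τ b = b) : ∃ c, τ c = c ∧ c * a * τ (c * a) = b := by
  have ha' : τ a ≠ 0 := by simpa using ha
  obtain ⟨c, hc, e⟩ := s.exists_sqrt (b := b / (a * τ a)) (by rw [map_div₀, hb, nu_k])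
  refine ⟨c, hc, ?_⟩
  rw [map_mul, hc, show c * a * (c * τ a) = c ^ 2 * (a * τ a) by ring, e, div_mul_cancel₀ _ (mul_ne_zero ha ha')]

theorem huaK {B : F → F → F} (hk : ∀ a b, τ a = a → τ b = b → τ (B a b) = B a b)
    (hl : ∀ a b c, τ a = a → τ b = b → τ c = c → B (a + b) c = B a c + B b c)
    (hr : ∀ a b c, τ a = a → τ b = b → τ c = c → B a (b + c) = B a b + B a c) (h0 : ∀ a, τ a = a → B a a = 0)
    (he : ∀ c a b, τ c = c → c ≠ 0 → τ a = a → τ b = b → B (c * a) (c * b) = c * B a b)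
    {a b : F} (ha : τ a = a) (hb : τ b = b) : B a b = 0 :=
  congrArg Subtype.val (hua (F := kF τ) (Subtype.ext s.two) (fun x y => ⟨B x y, hk _ _ x.2 y.2⟩)
    (fun x y z => Subtype.ext (hl _ _ _ x.2 y.2 z.2)) (fun x y z => Subtype.ext (hr _ _ _ x.2 y.2 z.2))
    (fun x => Subtype.ext (h0 _ x.2))
    (fun c x y h => Subtype.ext (he _ _ _ c.2 (fun e => h (Subtype.ext e)) x.2 y.2)) ⟨a, ha⟩ ⟨b, hb⟩)

/-- Hua: biadditive maps on `k`, homogeneous of degree two -/
theorem hua2 {B : F → F → F} (hk : ∀ a b, τ a = a → τ b = b → τ (B a b) = B a b)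
    (hl : ∀ a b c, τ a = a → τ b = b → τ c = c → B (a + b) c = B a c + B b c)
    (hr : ∀ a b c, τ a = a → τ b = b → τ c = c → B a (b + c) = B a b + B a c)
    (he : ∀ c a b, τ c = c → c ≠ 0 → τ a = a → τ b = b → B (c * a) (c * b) = c ^ 2 * B a b)
    {a b : F} (ha : τ a = a) (hb : τ b = b) : B a b = a * b * B 1 1 := by
  choose r hr' using s.sqrt_ex
  have z : B 0 0 = 0 := by
    have := hl 0 0 0 (map_zero _) (map_zero _) (map_zero _)
    rw [add_zero] at this
    linear_combination -this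
  have := s.huaK (B := fun a b => r (B a b + a * b * B 1 1))
    (fun a b ha hb => s.sq_inj (by
      rw [← map_pow, hr', map_add, hk a b ha hb, map_mul, map_mul, ha, hb, hk 1 1 (map_one _) (map_one _)]))
    (fun a b c ha hb hc => s.sq_inj (by
      rw [add_sq, hr', hr', hr', hl a b c ha hb hc, s.two]; ring))
    (fun a b c ha hb hc => s.sq_inj (by
      rw [add_sq, hr', hr', hr', hr a b c ha hb hc, s.two]; ring))
    (fun a ha => s.sq_inj (by
      rw [hr']
      by_cases a0 : a = 0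
      · simp [a0, z]
      · have := he a 1 1 ha a0 (map_one _) (map_one _)
        rw [mul_one] at this
        rw [this]; linear_combination a ^ 2 * B 1 1 * s.two))
    (fun c a b hc c0 ha hb => s.sq_inj (by rw [mul_pow, hr', hr', he c a b hc c0 ha hb]; ring)) ha hb
  have e := hr' (B a b + a * b * B 1 1)
  rw [this] at e
  linear_combination -e - a * b * B 1 1 * s.two

/-- Hua: biadditive maps on `k`, homogeneous of degree one -/
theorem hua1 {B : F → F → F} (hk : ∀ a b, τ a = a → τ b = b → τ (B a b) = B a b)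
    (hl : ∀ a b c, τ a = a → τ b = b → τ c = c → B (a + b) c = B a c + B b c)
    (hr : ∀ a b c, τ a = a → τ b = b → τ c = c → B a (b + c) = B a b + B a c)
    (he : ∀ a b, τ a = a → τ b = b → B (s.l * τ s.l * a) (s.l * τ s.l * b) = s.l * τ s.l * B a b)
    {a b : F} (ha : τ a = a) (hb : τ b = b) : B a b ^ 2 = a * b * B 1 1 ^ 2 := by
  refine s.hua2 (B := fun a b => B a b ^ 2) (fun a b ha hb => by rw [map_pow, hk a b ha hb])
    (fun a b c ha hb hc => by rw [hl a b c ha hb hc, add_sq, s.two]; ring)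
    (fun a b c ha hb hc => by rw [hr a b c ha hb hc, add_sq, s.two]; ring) (fun c a b hc c0 ha hb => ?_) ha hb
  obtain ⟨j, rfl⟩ := s.gen c hc c0
  clear hc c0
  rw [← mul_pow]
  congr 1
  induction j with
  | zero => simp
  | succ j ih =>
    rw [pow_succ', mul_assoc, mul_assoc (_ * _), he _ _ (by rw [map_mul, map_pow, nu_k, ha])
      (by rw [map_mul, map_pow, nu_k, hb]), ih, mul_assoc (_ * _)]

/-- equivariant biadditive maps `F × F → k` -/
theorem hb2 {f : F → F → F} (hk : ∀ a b, τ (f a b) = f a b) (hl : ∀ a b c, f (a + b) c = f a c + f b c)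
    (hr : ∀ a b c, f a (b + c) = f a b + f a c) (he : ∀ a b, f (s.l * a) (s.l * b) = s.l * τ s.l * f a b) :
    ∃ c, ∀ a b, f a b = c * a * τ b + τ c * τ a * b := by
  have hp : ∀ (j : ℕ) a b, f (s.l ^ j * a) (s.l ^ j * b) = s.l ^ j * τ (s.l ^ j) * f a b := fun j a b => by
    induction j with
    | zero => simp
    | succ j ih => rw [pow_succ', mul_assoc, mul_assoc, he, ih, map_mul]; ring
  have bil : ∀ x y c d, τ c = c → τ d = d → f (c * x) (d * y) = c * d * f x y := fun x y c d hc hd => by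
    have := s.hua2 (B := fun c d => f (c * x) (d * y)) (fun _ _ _ _ => hk _ _)
      (fun a b c _ _ _ => by rw [add_mul, hl]) (fun a b c _ _ _ => by rw [add_mul, hr])
      (fun c a b hc c0 _ _ => by
        obtain ⟨j, rfl⟩ := s.exists_pow hc c0
        rw [mul_assoc, mul_assoc, hp, hc, sq]) hc hd
    simpa using this
  have ht := s.tr_l
  have ll : f s.l s.l = s.l * τ s.l * f 1 1 := by simpa using he 1 1
  have l1 : f s.l 1 = (s.l + τ s.l) * f 1 1 + f 1 s.l := by
    have h1 := he s.l 1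
    have h2 := bil s.l s.l (s.l + τ s.l) 1 (by simp [add_comm]) (map_one _)
    have h3 := bil 1 s.l (s.l * τ s.l) 1 (nu_k _) (map_one _)
    rw [show s.l * s.l = (s.l + τ s.l) * s.l + s.l * τ s.l * 1 by linear_combination -s.l * τ s.l * s.two, hl,
      mul_one s.l] at h1
    rw [one_mul] at h2 h3
    rw [h2, h3, ll] at h1
    exact mul_left_cancel₀ s.nu_ne0 (by linear_combination -h1)
  refine ⟨(f 1 s.l + f 1 1 * s.l) / (s.l + τ s.l), fun a b => ?_⟩
  obtain ⟨a1, a2, h1, h2, rfl⟩ := s.span a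
  obtain ⟨b1, b2, h3, h4, rfl⟩ := s.span b
  have e1 := bil 1 1 a1 b1 h1 h3
  have e2 := bil 1 s.l a1 b2 h1 h4
  have e3 := bil s.l 1 a2 b1 h2 h3
  rw [mul_one] at e1 e2
  rw [mul_one] at e1 e3
  rw [hl, hr, hr, e1, e2, e3, bil _ _ _ _ h2 h4, ll, l1]
  simp only [map_div₀, map_add, map_mul, hk, ττ, h1, h2, h3, h4, add_comm (τ s.l)]
  field_simp
  have := s.two
  grind

/-- equivariant quadratic maps `F → k` -/
theorem hq {q : F → F} {f : F → F → F} (hk : ∀ a, τ (q a) = q a) (hp : ∀ a b, q (a + b) = q a + q b + f a b)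
    (hl : ∀ a b c, f (a + b) c = f a c + f b c) (he : ∀ a, q (s.l * a) = s.l * τ s.l * q a) (a : F) :
    q a = q 1 * (a * τ a) := by
  have ef : ∀ a b, f a b = q (a + b) - q a - q b := fun a b => by rw [hp]; ring
  have sy : ∀ a b, f a b = f b a := fun a b => by rw [ef, ef, add_comm]; ring
  obtain ⟨c, hc⟩ := s.hb2 (f := f) (fun a b => by rw [ef, map_sub, map_sub, hk, hk, hk]) hl
    (fun a b c => by rw [sy, hl, sy, sy c]) fun a b => by rw [ef, ef, ← mul_add, he, he, he]; ring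
  have q0 : q 0 = 0 := by
    have := hp 0 0
    rw [add_zero, hc] at this
    linear_combination -this
  have c1 : τ c = c := by
    have := hp 1 1
    rw [s.add_self, q0, hc, s.add_self, map_one] at this
    linear_combination -this - c * s.two
  obtain ⟨j, w1, w2⟩ := s.exists_w
  have hj : ∀ (j : ℕ) a, q (s.l ^ j * a) = s.l ^ j * τ (s.l ^ j) * q a := fun j a => by
    induction j with
    | zero => simp
    | succ j ih => rw [pow_succ', mul_assoc, he, ih, map_mul]; ring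
  have key : ∀ a, q a = c * (a * τ a) := fun a => by
    have w3 : s.l ^ j + 1 ≠ 0 := fun e => w2 (by linear_combination e - s.two)
    obtain ⟨x, rfl⟩ : ∃ x, a = s.l ^ j * x + x := ⟨a / (s.l ^ j + 1), by field_simp⟩
    rw [hp, hj, w1, hc, c1, map_add, map_mul]
    linear_combination (q x - c * x * τ x) * s.two - c * x * τ x * w1
  rw [key, key 1]; simp

/-- additive bijections compatible with the norm are semilinear -/
theorem sl {θ ζ : F → F} (h : ∀ a b, θ (a + b) = θ a + θ b) (hi : ∀ a, θ a = 0 → a = 0)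
    (hζ : ∀ a b, τ a = a → τ b = b → ζ (a + b) = ζ a + ζ b) (hN : ∀ a, θ a * τ (θ a) = ζ (a * τ a)) :
    ∃ σ : F ≃+* F, (∀ x, τ (σ x) = σ (τ x)) ∧ ∀ x, θ x = θ 1 * σ x := by
  have h1 : θ 1 ≠ 0 := fun e => one_ne_zero (hi 1 e)
  have h1' : τ (θ 1) ≠ 0 := by simpa using h1
  let β : F →+ F := AddMonoidHom.mk' (fun x => θ x / θ 1) fun a b => by simp only [h, add_div]
  have bi : Function.Injective β := (injective_iff_map_eq_zero β).2 fun a e => hi a (by simpa [β, h1] using e)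
  have z0 : ζ 0 = 0 := by
    have := hζ 0 0 (map_zero _) (map_zero _)
    rw [add_zero] at this
    linear_combination -this
  have pol : ∀ a c, τ (θ a) * θ c + τ (θ c) * θ a = ζ (τ a * c + τ c * a) := fun a c => by
    have e := hN (a + c)
    rw [h, map_add, map_add, show (a + c) * (τ a + τ c) = a * τ a + c * τ c + (τ a * c + τ c * a) by ring,
      hζ _ _ (by simp [mul_comm]) (by simp [mul_comm, add_comm]), hζ _ _ (nu_k _) (nu_k _), ← hN, ← hN] at e
    linear_combination e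
  obtain ⟨m1, m2⟩ := semilinear s.om s.two β (Finite.injective_iff_bijective.1 bi) (div_self h1)
    (fun a c => by
      change τ (θ a / θ 1) * (θ c / θ 1) = τ (θ c / θ 1) * (θ a / θ 1) ↔ _
      rw [map_div₀, map_div₀, div_mul_div_comm, div_mul_div_comm, div_left_inj' (mul_ne_zero h1' h1)]
      refine ⟨fun e => ?_, fun e => ?_⟩
      · obtain ⟨d, -, hd⟩ := s.exists_norm one_ne_zero (b := τ a * c + τ c * a) (by simp [mul_comm, add_comm])
        have e2 := hN (d * 1)
        rw [hd, ← pol, e, s.add_self, mul_eq_zero] at e2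
        rw [hi _ (e2.elim id (by simp)), zero_mul] at hd
        linear_combination -hd - τ c * a * s.two
      · have e2 := pol a c
        rw [e, s.add_self, z0] at e2
        linear_combination e2 - τ (θ c) * θ a * s.two)
    (fun b => ζ b / (θ 1 * τ (θ 1))) (fun a c ha hc => by simp only [hζ a c ha hc, add_div]) fun a => by
      change θ a / θ 1 * τ (θ a / θ 1) = _
      rw [map_div₀, div_mul_div_comm, hN]
  exact ⟨RingEquiv.ofBijective (⟨⟨⟨β, div_self h1⟩, m1⟩, map_zero β, map_add β⟩ : F →+* F)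
    (Finite.injective_iff_bijective.1 bi), m2, fun x => (mul_div_cancel₀ _ h1).symm⟩

theorem root {α : F} (h : τ α = α) : ∃ z, z ^ 2 + z = α := by
  obtain ⟨ω, hω⟩ := s.exists_tr one_ne_zero (map_one τ)
  rw [map_one, mul_one, mul_one] at hω
  let ψ : kF τ →+ kF τ := AddMonoidHom.mk' (fun x => x ^ 2 + x) fun a b => Subtype.ext (by
    push_cast; linear_combination (a : F) * b * s.two)
  have hk : Nat.card ψ.ker = 2 := by
    refine Nat.card_eq_two_iff.2 ⟨⟨0, zero_mem _⟩, ⟨1, Subtype.ext ?_⟩, fun e => zero_ne_one (congrArg Subtype.val e), Set.eq_univ_of_forall fun x => ?_⟩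
    · change (1 : F) ^ 2 + 1 = 0
      rw [one_pow, s.add_self]
    · have : (x : F) ^ 2 + x = 0 := congrArg Subtype.val x.2
      rcases mul_eq_zero.1 (show (x : F) * (x + 1) = 0 by linear_combination this) with e | e
      · exact .inl (Subtype.ext (Subtype.ext e))
      · exact .inr (Subtype.ext (Subtype.ext (show (x : F) = 1 by linear_combination e - s.two)))
  have hi : ψ.range.index = 2 := by
    have h1 := ψ.range.index_mul_card
    have h2 := ψ.ker.card_mul_index
    rw [AddSubgroup.index_ker, hk, ← h1] at h2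
    exact (Nat.eq_of_mul_eq_mul_right Nat.card_pos h2).symm
  have e0 : ω * τ ω = ω ^ 2 + ω := by linear_combination ω * hω - ω ^ 2 * s.two
  have h0 : (⟨ω * τ ω, nu_k ω⟩ : kF τ) ∉ ψ.range := by
    rintro ⟨x, hx⟩
    have h1 : (x : F) ^ 2 + x = ω * τ ω := congrArg Subtype.val hx
    have h2 : τ x = x := x.2
    rcases mul_eq_zero.1 (show (x + ω) * (x + ω + 1) = 0 by
      linear_combination h1 + e0 + (x * ω + ω ^ 2 + ω) * s.two) with e | e
    · rw [show ω = x by linear_combination e - x * s.two, h2, s.add_self] at hω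
      exact zero_ne_one hω
    · rw [show ω = x + 1 by linear_combination e - (x + 1) * s.two, map_add, h2, map_one, s.add_self] at hω
      exact zero_ne_one hω
  by_cases ha : (⟨α, h⟩ : kF τ) ∈ ψ.range
  · obtain ⟨x, hx⟩ := ha
    exact ⟨x, congrArg Subtype.val hx⟩
  · obtain ⟨x, hx⟩ := (AddSubgroup.add_mem_iff_of_index_two hi).2 (iff_of_false ha h0)
    have h1 : (x : F) ^ 2 + x = α + ω * τ ω := congrArg Subtype.val hx
    exact ⟨x + ω, by linear_combination h1 + e0 + (x * ω + ω ^ 2 + ω) * s.two⟩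

/-- semilinear maps of `k` -/
theorem semiK {ζ : F → F} (hk : ∀ a, τ a = a → τ (ζ a) = ζ a) (h : ∀ a b, τ a = a → τ b = b → ζ (a + b) = ζ a + ζ b)
    (h1 : ζ 1 ≠ 0) (hm : ∀ a b, τ a = a → τ b = b → ζ (a * b) * ζ 1 = ζ a * ζ b) :
    ∃ i : ℕ, ∀ a, τ a = a → ζ a = ζ 1 * a ^ 2 ^ i := by
  have := Fintype.ofFinite (kF τ)
  have : CharP (kF τ) 2 := (CharP.charP_iff_prime_eq_zero Nat.prime_two).2 (Subtype.ext s.two)
  obtain ⟨m, -, hm'⟩ := FiniteField.card (kF τ) 2
  let β : kF τ →+* kF τ := RingHom.mk' ⟨⟨fun x => ⟨ζ x / ζ 1, show τ _ = _ by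
      rw [map_div₀, hk _ x.2, hk _ (map_one _)]⟩, Subtype.ext (div_self h1)⟩, fun a b => Subtype.ext (by
      have := hm a b a.2 b.2
      push_cast; field_simp; exact this)⟩ fun a b => Subtype.ext (by
      change ζ (a + b) / _ = ζ a / _ + ζ b / _
      rw [h _ _ a.2 b.2, add_div])
  obtain ⟨i, hi⟩ := (h9_char_two_field hm').1 (RingEquiv.ofBijective β
    (Finite.injective_iff_bijective.1 β.injective))
  refine ⟨i, fun a ha => ?_⟩
  have e : ζ a / ζ 1 = a ^ 2 ^ i := congrArg Subtype.val (hi ⟨a, ha⟩)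
  rw [← e, mul_div_cancel₀ _ h1]

/-- `k` has at most one automorphism of order two -/
theorem invK {i j : ℕ} (hi : ∀ a, τ a = a → (a ^ 2 ^ i) ^ 2 ^ i = a) (hj : ∀ a, τ a = a → (a ^ 2 ^ j) ^ 2 ^ j = a)
    (hi' : ∃ a, τ a = a ∧ a ^ 2 ^ i ≠ a) (hj' : ∃ a, τ a = a ∧ a ^ 2 ^ j ≠ a) {a : F} (ha : τ a = a) :
    (a ^ 2 ^ i) ^ 2 ^ j = a := by
  have := Fintype.ofFinite (kF τ)
  have : CharP (kF τ) 2 := (CharP.charP_iff_prime_eq_zero Nat.prime_two).2 (Subtype.ext s.two)
  obtain ⟨m, -, hm'⟩ := FiniteField.card (kF τ) 2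
  have key : ∀ n, (∀ a, τ a = a → a ^ 2 ^ n = a) ↔ (m : ℕ) ∣ n := fun n => by
    rw [← (h9_char_two_field hm').2.2.1]
    exact ⟨fun h x => Subtype.ext (h _ x.2), fun h a ha => congrArg Subtype.val (h ⟨a, ha⟩)⟩
  obtain ⟨u, hu⟩ := (key (i + i)).1 fun a ha => by rw [pow_add, pow_mul, hi a ha]
  obtain ⟨v, hv⟩ := (key (j + j)).1 fun a ha => by rw [pow_add, pow_mul, hj a ha]
  have od : ∀ {i u : ℕ}, i + i = m * u → (∃ a, τ a = a ∧ a ^ 2 ^ i ≠ a) → ∃ w, u = 2 * w + 1 := by
    rintro i u hu ⟨a, ha, hn⟩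
    obtain ⟨w, rfl | rfl⟩ := Nat.even_or_odd' u
    · exact absurd ((key i).2 ⟨w, by nlinarith⟩ a ha) hn
    · exact ⟨w, rfl⟩
  obtain ⟨u, rfl⟩ := od hu hi'
  obtain ⟨v, rfl⟩ := od hv hj'
  rw [← pow_mul, ← pow_add]
  exact (key _).2 ⟨u + v + 1, by nlinarith⟩ a ha

end Su

end Cfsg.Lib.U3F
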