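import Cfsg.Agent.Lib.U3F.Four6

/-!
# Case IV: the Sylow 2-subgroup and transfer (sketch in `notes/S3151_PLAN.md`)
-/

set_option autoImplicit false

namespace Cfsg.Lib.U3F.RR
open Subgroup Cfsg.Lib Cfsg.Lib.FT Cfsg.Lib.TwoL Cfsg.Lib.U3S

variable {G : Type*} [Group G] {F : Type*} [Field F] {τ : F ≃+* F} [Fact (Function.Involutive τ)] {s : Su G τ}
  [Finite G] [Finite F]

namespace Pd
variable {r : RR s} {t : G} (d : r.Pd t)

theorem toS {P : Subgroup G} (hP : IsPGroup 2 P) (le : d.S ≤ P) {g : G} (hg : g ∈ P) (h : g * t * g⁻¹ * t ∈ d.Rs) :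
    g ∈ d.S := by
  obtain ⟨p, hp, c⟩ := d.fusT h
  simpa using mul_mem_sup hp (s.mem_T hP (le_sup_right.trans le) (mul_mem (inv_mem (le (mem_sup_left hp))) hg) c)

section
variable {h : G} (hh : ∀ y ∈ s.T, h * y * h⁻¹ ∈ d.S) (o : s.Out (h * t * h⁻¹))
include hh

theorem σS : h * t * h⁻¹ * t ∈ d.S := mul_mem (hh t d.e2.tT) d.tS

theorem σσ : h * t * h⁻¹ * t * (h * t * h⁻¹ * t) ∈ d.Rs := by
  simpa [mul_assoc, d.e2.inv] using d.cmS (hh t d.e2.tT) d.tS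

/-- `R*⟨s⟩` -/
def Ks : Subgroup G := ext2 (d.SR (d.σS hh)) (d.σσ hh)

theorem KsS : d.Ks hh ≤ d.S := by
  rintro y (k | k)
  · exact d.RS k
  · simpa only [mul_inv_cancel_right] using mul_mem (d.RS k) (inv_mem (d.σS hh))

theorem sqKs {y : G} (hy : y ∈ d.Ks hh) : y * y ∈ d.Rs := by
  rcases hy with k | k
  · exact mul_mem k k
  · convert mul_mem (mul_mem k (cj' (d.SR (d.σS hh)) k)) (inv_mem (d.σσ hh)) using 1; group

theorem idxKs {a b : G} (ha : a ∈ d.Ks hh) (hb : b ∈ d.Ks hh) : a ∈ d.Rs ∨ b ∈ d.Rs ∨ a * b ∈ d.Rs := by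
  rcases ha with k | k
  · exact .inl k
  rcases hb with k' | k'
  · exact .inr (.inl k')
  · refine .inr (.inr ?_)
    convert mul_mem (mul_mem k (cj' (d.SR (d.σS hh)) k')) (inv_mem (d.σσ hh)) using 1; group

include o

theorem F1 {y : G} (hy : y ∈ d.S) (k : y ∈ s.N0 ∨ s.Out y) : y ∈ d.Ks hh ∨ y * t ∈ d.Ks hh := by
  have x := hh t d.e2.tT
  rcases k with k | k
  · exact (d.dec hy k).imp .inl .inl
  · rcases d.dec (mul_mem hy x) (k.mul s o (p2_of_mem d.p2S (mul_mem hy x))) with k | k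
    · refine .inr (.inr ?_)
      convert mul_mem (cj (d.SR hy) (d.cmS d.tS x)) k using 1
      simp [mul_assoc, d.e2.inv, d.e2.tt']
    · exact .inl (.inr (by rwa [← mul_assoc]))

theorem cab {a : G} (ha : a * (h * t * h⁻¹ * t) ∈ d.Rs) : ∃ b, ∀ v ∈ d.Rs, a * v * a⁻¹ = v → v ∈ s.Ln b ⊔ r.Y := by
  obtain ⟨-, st, b, L, -⟩ := d.c0 hh o
  refine ⟨b, fun v hv e => ?_⟩
  have σ := d.σS hh
  have z : h * t * h⁻¹ * t * v * (h * t * h⁻¹ * t)⁻¹ * v⁻¹ ∈ s.Z := by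
    have := cj (s.nQ_nZ (d.SQ σ)) (d.cl.cm hv (inv_mem ha))
    generalize h * t * h⁻¹ * t = σ at *
    have e' : a⁻¹ * v⁻¹ * a = v⁻¹ := by
      conv_lhs => rw [← e]
      group
    convert this using 1
    conv_lhs => rw [← e']
    group
  obtain ⟨u, p, hp, rfl⟩ := d.mem_Rs.1 hv
  have c : t * s.ι u * t⁻¹ = s.ι u := cc (s.EcQ d.e2.mem) (s.ι_mem u)
  have tp := cj (d.BP d.e2.tB) hp
  generalize h * t * h⁻¹ = x at *
  rw [show x * t * (s.ι u * p) * (x * t)⁻¹ = x * (t * s.ι u * t⁻¹) * x⁻¹ * (x * (t * p * t⁻¹) * x⁻¹) by group, c] at z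
  have xu := cj o.1 (s.ι_mem u)
  have z1 : x * (t * p * t⁻¹) * x⁻¹ * p⁻¹ ∈ s.Z := s.QcQ
    (by convert mul_mem (mul_mem (inv_mem xu) (s.ZQ z)) (s.ι_mem u) using 1; group)
    (d.PQ (mul_mem (cj st.1 tp) (inv_mem hp)))
  refine mul_mem_sup (L u ?_) (d.ctZ hp ?_)
  · convert mul_mem z (cj (c_le_n _ (s.QcZ (s.ι_mem u))) (inv_mem z1)) using 1; group
  · convert mul_mem (inv_mem z1) (st.2.2 _ tp) using 1
    simp [mul_assoc, d.e2.inv, d.e2.tt']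

variable {S2 : Subgroup G} (h2 : IsPGroup 2 S2) (le : d.S ≤ S2) (n : S2 ≤ N[d.S])
include h2 le n

theorem cls {g : G} (hg : g ∈ S2) (k : g ∉ d.S) :
    g ∈ N[d.Rs] ∧ g * t * g⁻¹ * (h * t * h⁻¹) ∈ d.Rs ∧ ∃ b, ∀ y ∈ r.Y, g * y * g⁻¹ ∈ s.Ln b := by
  have hg' : ∀ y ∈ s.T, g * y * g⁻¹ ∈ d.S := fun y hy => cj (n hg) (mem_sup_right hy)
  have o' := (d.ext1 hg').resolve_left fun e => k (d.toS h2 le hg e)
  obtain ⟨a, b, c, -, e⟩ := d.c0 hg' o'
  exact ⟨a, d.out_mul (hg' t d.e2.tT) (hh t d.e2.tT) o' o b (d.c0 hh o).2.1, c, e⟩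

theorem S2R {g : G} (hg : g ∈ S2) : g ∈ N[d.Rs] := by
  by_cases k : g ∈ d.S
  · exact d.SR k
  · exact (d.cls hh o h2 le n hg k).1

theorem idx : Idx2 d.S S2 := ⟨le, fun a ha b hb => by
  by_cases k : a ∈ d.S
  · exact .inl k
  by_cases k' : b ∈ d.S
  · exact .inr (.inl k')
  refine .inr (.inr (d.toS h2 le (mul_mem ha hb) ?_))
  convert cj (d.S2R hh o h2 le n ha) (mul_mem (d.cls hh o h2 le n hb k').2.1
    (inv_mem (d.cls hh o h2 le n (inv_mem ha) (by rwa [inv_mem_iff])).2.1)) using 1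
  simp [mul_assoc, d.e2.inv, d.e2.tt']⟩

theorem cKs {w k : G} (hw : w ∈ S2) (hk : k ∈ d.Ks hh) : w * k * w⁻¹ * k⁻¹ ∈ d.Rs := by
  by_cases a : w ∈ d.S
  · exact d.cmS a (d.KsS hh hk)
  have R := d.S2R hh o h2 le n hw
  rcases hk with k' | k'
  · exact mul_mem (cj R k') (inv_mem k')
  have a1 := (d.cls hh o h2 le n hw a).2.1
  have a2 := cj R (d.cls hh o h2 le n (inv_mem hw) (by rwa [inv_mem_iff])).2.1
  convert mul_mem (mul_mem (mul_mem (mul_mem (cj R k') a1) (cj (d.SR (d.σS hh)) a2)) (d.σσ hh)) (inv_mem k') using 1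
  simp [mul_assoc, d.e2.inv, d.e2.tt']

theorem nKs {w k : G} (hw : w ∈ S2) (hk : k ∈ d.Ks hh) : w * k * w⁻¹ ∈ d.Ks hh := by
  simpa using mul_mem (.inl (d.cKs hh o h2 le n hw hk) : _ ∈ d.Ks hh) hk

theorem noKt {w y : G} (hw : w ∈ S2) (a : w ∉ d.S) (hy : y ∈ d.S) (k : y * t ∈ d.Ks hh) :
    w * y⁻¹ * w⁻¹ * y ∉ d.Rs := fun e => a (d.toS h2 le hw (by
  convert mul_mem e (cj' (d.SR hy) (d.cKs hh o h2 le n hw k)) using 1
  simp [mul_assoc, d.e2.inv]))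

theorem extr {g : G} (hg : ∀ y ∈ s.T, g * y * g⁻¹ ∈ S2) :
    g * t * g⁻¹ * t ∈ d.Rs ∨ g * t * g⁻¹ * (h * t * h⁻¹) ∈ d.Rs := by
  have ht := d.e2
  have i := d.idx hh o h2 le n
  have hB : ∀ b ∈ s.B0, g * b * g⁻¹ ∈ S2 := fun b hb => hg b (s.B0T hb)
  have i' : ∀ b ∈ s.B0, ∀ b' ∈ s.B0, g * b * g⁻¹ ∈ d.S ∨ g * b' * g⁻¹ ∈ d.S ∨ g * (b * b') * g⁻¹ ∈ d.S :=
    fun b hb b' hb' => by rw [← conj_mul]; exact i.2 _ (hB b hb) _ (hB b' hb')
  have zR : ∀ z ∈ s.Z, g * z * g⁻¹ ∈ d.Rs := fun z hz => ht.rob1 (K := d.S)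
    (fun b hb b' hb' => (i' b hb b' hb').imp .inl (·.imp .inl .inl))
    (fun b _ b' _ k k' => by convert d.cmS k k' using 1; group) hz
  have f1 : ∀ b ∈ s.B0, g * b * g⁻¹ ∈ d.S → g * b * g⁻¹ ∈ d.Ks hh ∨ g * b * g⁻¹ * t ∈ d.Ks hh := fun b hb k =>
    d.F1 hh o k (s.N0_or_Out (d.SQ k) (by rw [conj_mul]; exact d.RN0 (zR _ (s.sq_B0 hb))))
  have L : ∀ w ∈ s.B0, g * w * g⁻¹ ∉ d.S → ∀ b ∈ s.B0, g * b * g⁻¹ ∈ d.S → g * b * g⁻¹ ∈ d.Ks hh :=
    fun w hw a b hb k => (f1 b hb k).resolve_right fun e => d.noKt hh o h2 le n (hB w hw) a k e (by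
      convert zR _ (s.robB0.comm_mem s hw (inv_mem hb)) using 1; group)
  by_contra! k
  by_cases a : g * t * g⁻¹ ∈ d.S
  · have aK : g * t * g⁻¹ * (h * t * h⁻¹ * t) ∈ d.Rs := by
      rcases f1 t ht.tB0 a with (e | e) | e | e
      · exact (d.noTy e (ht.ty g)).elim
      · exact e
      · exact (k.1 e).elim
      · refine (k.2 ?_).elim
        convert mul_mem (cj (d.SR a) (d.cmS (hh t ht.tT) d.tS)) e using 1
        simp [mul_assoc, ht.inv, ht.tt', ht.tt]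
    obtain ⟨c, hc⟩ := d.cab hh o aK
    have K : ∀ b, g * b * g⁻¹ ∈ d.Ks hh → g * b * g⁻¹ ∈ d.Rs ∨ g * (b * t) * g⁻¹ ∈ d.Rs := fun b e => by
      rw [← conj_mul]
      exact (d.idxKs hh e (.inr aK)).imp_right fun e => e.resolve_left fun e => d.noTy e (ht.ty g)
    have cm : ∀ b ∈ s.B0, g * b * g⁻¹ ∈ d.Rs → g * b * g⁻¹ ∈ s.Ln c ⊔ r.Y := fun b hb e => hc _ e (by
      conv_rhs => rw [← ht.ct (s.TC (s.B0T hb))]
      group)
    refine Su.not_bot fun z hz => ht.rob1 (g := g) (K := d.Rs) (fun b hb b' hb' => ?_)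
      (fun b hb b' hb' e e' => cm_ab (ab_sup (s.Ln_comm c) r.YY (r.YcQ.trans (centralizer_le (s.Ln_le c))))
        (cm b hb e) (cm b' hb' e')) hz
    by_cases all : ∀ b ∈ s.B0, g * b * g⁻¹ ∈ d.S
    · rcases f1 b hb (all b hb) with e | e
      · exact .inl (K _ e)
      rcases f1 b' hb' (all b' hb') with e' | e'
      · exact .inr (.inl (K _ e'))
      refine .inr (.inr (K _ ?_))
      convert mul_mem e (d.nKs hh o h2 le n (le d.tS) e') using 1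
      simp [mul_assoc, ht.tt']
    · push Not at all
      obtain ⟨w, hw, e⟩ := all
      exact (i' b hb b' hb').imp (fun k => K _ (L w hw e b hb k))
        (·.imp (fun k => K _ (L w hw e b' hb' k)) fun k => K _ (L w hw e _ (mul_mem hb hb') k))
  · have gZ : g ∈ N[s.Z] := mem_n fun z hz => ht.rob2 (L := d.S) (K := d.Rs)
      (fun b hb => (i' b hb t ht.tB0).imp_right (·.resolve_left a))
      (fun b hb b' hb' e e' => by rw [← conj_mul]; exact d.idxKs hh (L t ht.tB0 a b hb e) (L t ht.tB0 a b' hb' e'))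
      (fun b _ b' _ e e' => by convert d.cl.cm e e' using 1; group) hz
    obtain ⟨-, -, c, hc⟩ := d.cls hh o h2 le n (hB t ht.tB0) a
    exact d.swp a (cj_c gZ (s.EcZ ht.mem)) hc (ht.ty g)

theorem syl (hS : h ∈ S2) : IsSylowIn 2 S2 ⊤ := syl_of_norm h2 fun P hP le' g hg hn => by
  rcases d.extr hh o h2 le n fun y hy => cj hn (le (mem_sup_right hy)) with k | k
  · exact le (d.toS hP (le.trans le') hg k)
  · have := d.toS hP (le.trans le') (mul_mem (inv_mem (le' hS)) hg) (by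
      convert cj' (d.c0 hh o).1 k using 1; group)
    simpa using mul_mem hS (le this)

theorem cmKs' {a b : G} (ha : a ∈ S2) (hb : b ∈ d.S) : a * b * a⁻¹ * b⁻¹ ∈ d.Ks hh := by
  by_cases k : a ∈ d.S
  · exact .inl (d.cmS k hb)
  have m := mul_mem (cj (n ha) hb) (inv_mem hb)
  have p := p2_of_mem d.p2S m
  have aa := ((d.idx hh o h2 le n).mul ha ha k k)
  refine (d.F1 hh o m (Su.cZ_N0 (d.SQ m) (d.cm_cZ (d.S2R hh o h2 le n ha)
    (d.phiS fun y hy => cj (n ha) (mem_sup_right hy)).1 (d.SR hb) (s.nQ_nZ (d.SQ hb)) p) p)).resolve_right fun e =>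
      d.noKt hh o h2 le n ha k m e ?_
  have c1 := d.cmS aa hb
  have c2 := d.sqKs hh e
  have c3 := d.cmS d.tS (inv_mem m)
  have R := d.SR m
  have e1 : a * (a * b * a⁻¹ * b⁻¹)⁻¹ * a⁻¹ = a * b * a⁻¹ * b⁻¹ * (a * a * b * (a * a)⁻¹ * b⁻¹)⁻¹ := by group
  rw [e1]
  generalize a * b * a⁻¹ * b⁻¹ = c at *
  convert mul_mem (mul_mem (cj R (inv_mem c1)) c2) c3 using 1
  simp [mul_assoc, d.e2.inv, d.e2.tt']

theorem cmKs {a b : G} (ha : a ∈ S2) (hb : b ∈ S2) : a * b * a⁻¹ * b⁻¹ ∈ d.Ks hh := by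
  by_cases k : b ∈ d.S
  · exact d.cmKs' hh o h2 le n ha k
  by_cases k' : a ∈ d.S
  · convert inv_mem (d.cmKs' hh o h2 le n hb k') using 1; group
  have := (d.idx hh o h2 le n).mul (inv_mem ha) hb (by rwa [inv_mem_iff]) k
  convert d.nKs hh o h2 le n ha (d.cmKs' hh o h2 le n ha this) using 1
  group

theorem fin (hS : IsSylowIn 2 S2 ⊤) : ¬ Su.In2 t := fun hG => by
  have ht := d.e2
  have nK := fun w k hw hk => d.nKs hh o h2 le n (w := w) (k := k) hw hk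
  let K : Subgroup G :=
    { carrier := {y | y ∈ S2 ∧ ∃ w ∈ S2, y * (w * w)⁻¹ ∈ d.Ks hh}
      one_mem' := ⟨one_mem _, 1, one_mem _, by simp⟩
      mul_mem' := by
        rintro y y' ⟨hy, w, hw, a⟩ ⟨hy', w', hw', a'⟩
        refine ⟨mul_mem hy hy', _, mul_mem hw hw', ?_⟩
        convert mul_mem (mul_mem a (nK _ _ (mul_mem hw hw) a')) (nK _ _ hw (d.cmKs hh o h2 le n hw hw')) using 1
        group
      inv_mem' := by
        rintro y ⟨hy, w, hw, a⟩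
        refine ⟨inv_mem hy, _, inv_mem hw, ?_⟩
        convert nK _ _ (inv_mem (mul_mem hw hw)) (inv_mem a) using 1
        group }
  have KK : d.Ks hh ≤ K := fun y hy => ⟨le (d.KsS hh hy), 1, one_mem _, by simpa⟩
  obtain ⟨M, KM, i, tM⟩ := exists_half (K := K) (fun y hy => hy.1)
    (fun x hx => ⟨mul_mem hx hx, x, hx, by simp⟩) (le d.tS) (by
      rintro ⟨-, w, hw, e | e⟩
      · exact d.nsq (d.S2R hh o h2 le n hw) e
      have hR := (d.c0 hh o).1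
      have ww : w * w ∈ d.S := by
        by_cases k : w ∈ d.S
        · exact mul_mem k k
        · exact (d.idx hh o h2 le n).mul hw hw k k
      refine d.nsq (y := h⁻¹ * w * h) (mul_mem (mul_mem (inv_mem hR) (d.S2R hh o h2 le n hw)) hR) ?_
      convert cj' hR (mul_mem (d.cmS (hh t ht.tT) (inv_mem ww)) (cj (d.SR d.tS) e)) using 1
      simp [mul_assoc, ht.inv, ht.tt', ht.tt])
  obtain ⟨g, k, hg⟩ := ht.transfer s hG hS i (le d.tS) tM
  have RM : d.Rs ≤ M := fun y hy => KM (KK (.inl hy))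
  rcases d.extr hh o h2 le n hg with e | e
  · exact tM (by simpa only [inv_mul_cancel_left] using mul_mem (inv_mem k) (RM e))
  · have x : h * t * h⁻¹ ∈ M := by simpa only [inv_mul_cancel_left] using mul_mem (inv_mem k) (RM e)
    exact tM (by simpa only [inv_mul_cancel_left] using mul_mem (inv_mem x) (KM (KK (.inr (d.σσ hh)))))

end

include d in
theorem contra : ¬ Su.In2 t := by
  by_cases hS : IsSylowIn 2 d.S ⊤
  · by_cases k : ∃ h : G, (∀ y ∈ s.T, h * y * h⁻¹ ∈ d.S) ∧ s.Out (h * t * h⁻¹)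
    · obtain ⟨h, hh, o⟩ := k
      exact d.fin hh o d.p2S le_rfl le_normalizer hS
    · exact d.e2.trV d.BP (fun _ hv h => s.QleU (s.ZQ (d.cP hv h))) hS fun g hg =>
        d.YP (d.tyT ((d.ext1 hg).resolve_right fun o => k ⟨g, hg, o⟩) (d.e2.ty g))
  obtain ⟨P, hP, le, g, hg, n, h⟩ : ∃ P : Subgroup G, IsPGroup 2 P ∧ d.S ≤ P ∧ ∃ g ∈ P, g ∈ N[d.S] ∧ g ∉ d.S := by
    by_contra! k
    exact hS (syl_of_norm d.p2S k)
  have hh : ∀ y ∈ s.T, g * y * g⁻¹ ∈ d.S := fun y hy => cj n (mem_sup_right hy)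
  have o := (d.ext1 hh).resolve_left fun e => h (d.toS hP le hg e)
  exact d.fin hh o hP.to_inf_left (le_inf le le_normalizer) inf_le_right
    (d.syl hh o hP.to_inf_left (le_inf le le_normalizer) inf_le_right ⟨hg, n⟩)

end Pd

variable (r : RR s)

/-- case IV: `E = {1, t}` and `t` inverts the homocyclic group `Y` -/
theorem four {t : G} (ht : s.E2 t) (h0 : r.k0 = r.mu t) : ¬ Su.In2 t := by
  obtain ⟨d⟩ := exists_Wd ht h0
  by_cases h : IsSylowIn 2 (d.W ⊔ s.T) ⊤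
  · exact d.syl h
  obtain ⟨d⟩ := d.exists_Md h
  obtain ⟨d⟩ := d.exists_Pd
  exact d.contra

end Cfsg.Lib.U3F.RR
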