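import Cfsg.Agent.Lib.U3F.Two2

/-!
# Case IV, preliminaries
-/

set_option autoImplicit false

namespace Cfsg.Lib.U3F
open Subgroup Cfsg.Lib Cfsg.Lib.FT Cfsg.Lib.TwoL Cfsg.Lib.U3S
open scoped commutatorElement

section gen
variable {G : Type*} [Group G]

theorem exists_last' {P : ℕ → Prop} (h0 : P 0) (h : ∃ n, ¬ P n) : ∃ j, P j ∧ ¬ P (j + 1) := by
  by_contra! k
  obtain ⟨n, hn⟩ := h
  exact hn (Nat.rec h0 k n)

/-- uniform exponent of a finite 2-group -/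
theorem exists_exp [Finite G] {W : Subgroup G} (h : IsPGroup 2 W) : ∃ n, ∀ w ∈ W, w ^ 2 ^ n = 1 := by
  obtain ⟨n, hn⟩ := h.exists_card_eq
  exact ⟨n, fun w hw => by simpa [hn] using congrArg Subtype.val (pow_card_eq_one' (x := (⟨w, hw⟩ : W)))⟩

/-- a counting argument for endomorphisms -/
theorem ker_eq_range [Finite G] {W Z : Subgroup G} {f π : G → G} (hf : ∀ a ∈ W, ∀ b ∈ W, f (a * b) = f a * f b)
    (hπ : ∀ a ∈ W, ∀ b ∈ W, π (a * b) = π a * π b) (kf : ∀ w ∈ W, f w = 1 → w ∈ Z) (fW : ∀ w ∈ W, f w ∈ W)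
    (πf : ∀ w ∈ W, π (f w) = 1) (on : ∀ z ∈ Z, ∃ w ∈ W, π w = z) {w : G} (hw : w ∈ W) (h : π w = 1) :
    ∃ v ∈ W, f v = w := by
  let φ : W →* W := MonoidHom.mk' (fun w => ⟨f w, fW w w.2⟩) fun a b => Subtype.ext (hf a a.2 b b.2)
  let ψ : W →* G := MonoidHom.mk' (fun w => π w) fun a b => hπ a a.2 b b.2
  have c1 := φ.ker.card_mul_index
  have c2 := ψ.ker.card_mul_index
  rw [index_ker] at c1 c2
  have c3 : Nat.card φ.ker ≤ Nat.card Z := Nat.card_le_card_of_injective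
    (fun x => ⟨x.1.1, kf _ x.1.2 (congrArg Subtype.val x.2)⟩) fun x y e =>
      Subtype.ext (Subtype.ext (congrArg (Subtype.val : Z → G) e))
  have c4 : Nat.card Z ≤ Nat.card ψ.range := card_le_of_le fun z hz => let ⟨w, hw, e⟩ := on z hz; ⟨⟨w, hw⟩, e⟩
  have le : φ.range ≤ ψ.ker := by rintro _ ⟨w, rfl⟩; exact πf w w.2
  have c5 : Nat.card ψ.ker ≤ Nat.card φ.range := by
    have := Nat.card_pos (α := Z)
    nlinarith
  obtain ⟨v, e⟩ : (⟨w, hw⟩ : W) ∈ φ.range := eq_of_le_of_card_ge le c5 ▸ h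
  exact ⟨v, v.2, congrArg Subtype.val e⟩

end gen

variable {G : Type*} [Group G] {F : Type*} [Field F] {τ : F ≃+* F} [Fact (Function.Involutive τ)] {s : Su G τ}

namespace Su
variable (s)

theorem QcQ {u : G} (h : u ∈ s.Q) (h' : u ∈ C[s.Q]) : u ∈ s.Z := by
  obtain ⟨x, rfl⟩ := h
  refine s.ι_mem_Z.2 (s.eq_zero_of_tr fun a => ?_)
  obtain ⟨y, rfl⟩ := s.exists_a a
  rw [← s.zc_eq_one (by simp [add_comm, mul_comm]), ← s.ι_comm, mem_centralizer_iff.1 h' _ (s.ι_mem y)]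
  group

theorem ZcQ : s.Z ≤ C[s.Q] := le_centralizer_iff.1 s.QcZ

theorem robB0 : s.Rob s.B0 :=
  s.rob_qlike' (Y := s.E) s.EcQ (fun _ h => s.CcE (mem_sup_left h)) (fun y h => by rw [s.sqE y h]; exact one_mem _)
    (fun g hg => by
      obtain ⟨e, he, x, rfl⟩ := s.mem_B0.1 hg
      exact ⟨x, e, he, (mem_centralizer_iff.1 (s.EcQ he) _ (s.ι_mem x)).symm⟩)
    fun a => let ⟨x, hx⟩ := s.exists_a a; ⟨x, hx, 1, one_mem _, by rw [mul_one]; exact mem_sup_right (s.ι_mem x)⟩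

/-- an additive subgroup of `k` stable under `ν` -/
theorem closed_k {V : F → Prop} (h0 : V 0) (h : ∀ v, V v → V (s.l * τ s.l * v)) {v : F} (hv : V v) (k : τ v = v)
    (n : v ≠ 0) {x : F} (hx : τ x = x) : V x := by
  by_cases x0 : x = 0
  · rwa [x0]
  obtain ⟨i, hi⟩ := s.gen (x / v) (by rw [map_div₀, hx, k]) (div_ne_zero x0 n)
  rw [← div_mul_cancel₀ x n, ← hi]
  clear hi
  induction i with
  | zero => simpa
  | succ i ih => rw [pow_succ', mul_assoc]; exact h _ ih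

variable {s} {t : G}

theorem E2.tt (ht : s.E2 t) : t * t = 1 := s.sqE _ ht.mem

theorem E2.inv (ht : s.E2 t) : t⁻¹ = t := inv_of_sq ht.tt

theorem E2.tT (ht : s.E2 t) : t ∈ s.T := s.ET ht.mem

theorem E2.tB (ht : s.E2 t) : t ∈ s.B := s.TB ht.tT

theorem E2.tB0 (ht : s.E2 t) : t ∈ s.B0 := mem_sup_left ht.mem

theorem E2.tc (ht : s.E2 t) {c : G} (h : c ∈ s.C) : c * t * c⁻¹ = t := cc (s.CcE h) ht.mem

theorem E2.ct (ht : s.E2 t) {c : G} (h : c ∈ s.C) : t * c * t⁻¹ = c := by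
  rw [mem_centralizer_iff.1 (s.CcE h) t ht.mem, mul_inv_cancel_right]

theorem E2.ty (ht : s.E2 t) (g : G) : s.Ty (g * t * g⁻¹) := ⟨g, t, ht.mem, ht.ne, rfl⟩

theorem E2.nU (ht : s.E2 t) : t ∉ s.U := fun h => ht.ne (s.disj t ht.mem h)

theorem E2.mem_C (ht : s.E2 t) {c : G} (h : c * t * c⁻¹ = t) : c ∈ s.C := by
  rw [Su.C, ← s.cE t ht.mem ht.ne, mem_C1]
  exact mul_inv_eq_iff_eq_mul.1 h

theorem E2.mem_B0 (ht : s.E2 t) {b : G} (h : b ∈ s.B0) : ∃ x, b = s.ι x ∨ b = s.ι x * t := by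
  obtain ⟨e, he, x, rfl⟩ := s.mem_B0.1 h
  refine ⟨x, (ht.eq e he).imp (fun e => by rw [e, one_mul]) fun e => ?_⟩
  rw [e, mem_centralizer_iff.1 (s.EcQ ht.mem) _ (s.ι_mem x)]

theorem E2.rob1 (ht : s.E2 t) {g : G} {K V : Subgroup G}
    (h : ∀ b ∈ s.B0, ∀ b' ∈ s.B0, (g * b * g⁻¹ ∈ K ∨ g * (b * t) * g⁻¹ ∈ K) ∨
      (g * b' * g⁻¹ ∈ K ∨ g * (b' * t) * g⁻¹ ∈ K) ∨ (g * (b * b') * g⁻¹ ∈ K ∨ g * (b * b' * t) * g⁻¹ ∈ K))
    (hV : ∀ b ∈ s.B0, ∀ b' ∈ s.B0, g * b * g⁻¹ ∈ K → g * b' * g⁻¹ ∈ K → g * (b * b' * b⁻¹ * b'⁻¹) * g⁻¹ ∈ V)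
    {z : G} (hz : z ∈ s.Z) : g * z * g⁻¹ ∈ V := by
  have c : ∀ b ∈ s.B0, t * b = b * t := fun b hb => mem_centralizer_iff.1 (s.CcE (s.TC (s.B0T hb))) t ht.mem
  have tt := ht.tt
  have m : ∀ b ∈ s.B0, ∀ b' ∈ s.B0, b * t * (b' * t) = b * b' := fun b _ b' hb' => by
    rw [mul_assoc, ← mul_assoc t, c b' hb', mul_assoc b', tt, mul_one]
  let X : Subgroup G :=
    { carrier := {b | b ∈ s.B0 ∧ (g * b * g⁻¹ ∈ K ∨ g * (b * t) * g⁻¹ ∈ K)}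
      one_mem' := ⟨one_mem _, .inl (by simp)⟩
      mul_mem' := by
        rintro b b' ⟨hb, k⟩ ⟨hb', k'⟩
        refine ⟨mul_mem hb hb', ?_⟩
        rcases k with k | k <;> rcases k' with k' | k' <;> have := mul_mem k k' <;> rw [conj_mul] at this
        · exact .inl this
        · exact .inr (by rwa [mul_assoc b])
        · exact .inr (by rwa [mul_assoc b, ← c b' hb', ← mul_assoc b])
        · exact .inl (by rwa [← m b hb b' hb'])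
      inv_mem' := by
        rintro b ⟨hb, k⟩
        refine ⟨inv_mem hb, k.imp (fun k => by simpa [mul_assoc] using inv_mem k) fun k => ?_⟩
        have := inv_mem k
        rwa [conj_inv, mul_inv_rev, ht.inv, c _ (inv_mem hb)] at this }
  have k : ∀ b ∈ X, ∃ b₀ ∈ s.B0, g * b₀ * g⁻¹ ∈ K ∧ ∀ b' ∈ s.B0, b * b' * b⁻¹ = b₀ * b' * b₀⁻¹ := fun b hb => by
    rcases hb.2 with k | k
    · exact ⟨b, hb.1, k, fun _ _ => rfl⟩
    · refine ⟨_, mul_mem hb.1 ht.tB0, k, fun b' hb' => ?_⟩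
      rw [show b * t * b' * (b * t)⁻¹ = b * (t * b' * t⁻¹) * b⁻¹ by group, c b' hb', mul_inv_cancel_right]
  refine conj_commutator_le (X := X) (fun b hb b' hb' => ?_)
    (s.robB0.2 X ⟨fun _ h => h.1, fun b hb b' hb' => (h b hb b' hb').imp (⟨hb, ·⟩)
      (·.imp (⟨hb', ·⟩) (⟨mul_mem hb hb', ·⟩))⟩ hz)
  obtain ⟨a, ha, a1, a2⟩ := k b hb
  obtain ⟨a', ha', a1', a2'⟩ := k b' hb'
  have := hV a ha a' ha' a1 a1'
  rw [show a * a' * a⁻¹ * a'⁻¹ = a * (a' * a⁻¹ * a'⁻¹) by group, ← a2' _ (inv_mem ha),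
    show a * (b' * a⁻¹ * b'⁻¹) = a * b' * a⁻¹ * b'⁻¹ by group, ← a2 _ hb'.1] at this
  convert this using 1
  group

theorem E2.rob2 (ht : s.E2 t) {g : G} {L K V : Subgroup G}
    (hL : ∀ b ∈ s.B0, g * b * g⁻¹ ∈ L ∨ g * (b * t) * g⁻¹ ∈ L)
    (hK : ∀ b ∈ s.B0, ∀ b' ∈ s.B0, g * b * g⁻¹ ∈ L → g * b' * g⁻¹ ∈ L →
      g * b * g⁻¹ ∈ K ∨ g * b' * g⁻¹ ∈ K ∨ g * (b * b') * g⁻¹ ∈ K)
    (hV : ∀ b ∈ s.B0, ∀ b' ∈ s.B0, g * b * g⁻¹ ∈ K → g * b' * g⁻¹ ∈ K → g * (b * b' * b⁻¹ * b'⁻¹) * g⁻¹ ∈ V)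
    {z : G} (hz : z ∈ s.Z) : g * z * g⁻¹ ∈ V := by
  have c : ∀ b ∈ s.B0, t * b = b * t := fun b hb => mem_centralizer_iff.1 (s.CcE (s.TC (s.B0T hb))) t ht.mem
  refine ht.rob1 (fun b hb b' hb' => ?_) hV hz
  have hbt := mul_mem hb ht.tB0
  have hbt' := mul_mem hb' ht.tB0
  rcases hL b hb with k | k <;> rcases hL b' hb' with k' | k'
  · exact (hK _ hb _ hb' k k').imp .inl (·.imp .inl .inl)
  · exact (hK _ hb _ hbt' k k').imp .inl (·.imp .inr fun e => .inr (by rwa [mul_assoc b]))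
  · exact (hK _ hbt _ hb' k k').imp .inr (·.imp .inl fun e => .inr (by rwa [mul_assoc b, ← c b' hb', ← mul_assoc b]))
  · exact (hK _ hbt _ hbt' k k').imp .inr (·.imp .inr fun e => .inl (by
      rwa [mul_assoc b, ← mul_assoc t, c b' hb', mul_assoc b', ht.tt, mul_one] at e))

variable [Finite G] [Finite F]

theorem Out.ln {x : G} (o : x ∈ N[s.Q]) {u : U3S τ} {m : G} (hm : m ∈ C[s.Q]) (h : x * (s.ι u * m) * x⁻¹ = s.ι u * m) :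
    x * s.ι u * x⁻¹ * (s.ι u)⁻¹ ∈ s.Z := by
  have k : (s.ι u)⁻¹ * (x * s.ι u * x⁻¹) = m * (x * m * x⁻¹)⁻¹ := by
    rw [eq_mul_inv_iff_mul_eq, mul_assoc, conj_mul, h]; group
  have := s.QcQ (mul_mem (inv_mem (s.ι_mem u)) (cj o (s.ι_mem u))) (k ▸ mul_mem hm (inv_mem (cj_c o hm)))
  convert cj (c_le_n _ (s.QcZ (s.ι_mem u))) this using 1
  group

theorem E2.arQ (ht : s.E2 t) {x : U3S τ} {w p : G} (h : s.Ty (s.ι x * w)) (hw : w ∈ C[s.Q]) (hp : p ∈ C[s.Q]) (c : p * w = w * p)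
    (p2 : p * p ∈ s.Z) : p ∈ s.Z ∨ w⁻¹ * p ∈ s.Z := by
  obtain ⟨a, a0, ha⟩ : ∃ a, a ≠ 0 ∧ s.ι x ∈ s.Ln a := by
    by_cases k : x.a = 0
    · exact ⟨1, one_ne_zero, s.Z_le_Ln _ (s.ι_mem_Z.2 k)⟩
    · exact ⟨_, k, x, ⟨1, map_one _, (one_mul _).symm⟩, rfl⟩
  obtain ⟨g, e, he, e1, hx⟩ := h
  obtain ⟨b, hb, e2⟩ := s.mem_Z.1 p2
  obtain ⟨c', c1, c2⟩ := s.exists_norm a0 hb
  obtain ⟨u, hu⟩ := s.exists_a (c' * a)
  have uL : s.ι u ∈ s.Ln a := ⟨u, ⟨c', c1, hu⟩, rfl⟩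
  have cp := mem_centralizer_iff.1 hp
  have cw := mem_centralizer_iff.1 hw
  have L : ∀ v ∈ s.Ln a, v * (s.ι x * w) = s.ι x * w * v := fun v hv => by
    rw [← mul_assoc, mem_centralizer_iff.1 (s.Ln_comm a ha) v hv, mul_assoc, cw v (s.Ln_le a hv), mul_assoc]
  obtain ⟨e', he', z, hz, k⟩ := s.ar (b := s.ι u * p) he e1 a0 (fun v hv => mem_C1.2 (hx ▸ L v hv))
    (by rw [mul_assoc, ← mul_assoc p, ← cp _ (s.ι_mem u), mul_assoc, ← mul_assoc, s.ι_sq, hu, c2, e2, s.sqZ p2])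
    (mem_C1.2 (by
      rw [hx, mul_assoc, ← mul_assoc p, ← cp _ (s.ι_mem x), mul_assoc, c, ← mul_assoc (s.ι x), ← mul_assoc, L _ uL,
        mul_assoc]))
    (mul_mem (s.Ln_comm a uL) (centralizer_le (s.Ln_le a) hp))
  rcases ht.eq e' he' with rfl | rfl
  · refine .inl (s.QcQ ?_ hp)
    rw [mul_one, mul_inv_cancel, one_mul, ← eq_inv_mul_iff_mul_eq] at k
    exact k ▸ mul_mem (inv_mem (s.ι_mem u)) (s.ZQ hz)
  · refine .inr (s.QcQ ?_ (mul_mem (inv_mem hw) hp))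
    rw [← (ht.eq e he).resolve_left e1, hx, ← eq_inv_mul_iff_mul_eq] at k
    rw [k, show w⁻¹ * ((s.ι u)⁻¹ * (s.ι x * w * z)) = w⁻¹ * ((s.ι u)⁻¹ * s.ι x) * w⁻¹⁻¹ * z by group]
    exact mul_mem (cj (c_le_n _ (inv_mem hw)) (mul_mem (inv_mem (s.ι_mem u)) (s.ι_mem x))) (s.ZQ hz)

/-! ### the groups `V T` -/

section V
variable {V : Subgroup G} (hB : s.B ≤ N[V])
include hB

omit [Finite G] [Finite F] in
theorem mem_VT {g : G} : g ∈ V ⊔ s.T ↔ ∃ v ∈ V, ∃ y ∈ s.T, v * y = g := mem_sup_of_le_normalizer (s.TB.trans hB)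

omit [Finite G] [Finite F] in
theorem p2_VT (hV : IsPGroup 2 V) : IsPGroup 2 ↥(V ⊔ s.T) := hV.to_sup_of_normal_left' s.syl.isPGroup (s.TB.trans hB)

omit hB [Finite G] [Finite F] in
theorem VT_nQ (hQ : V ≤ C[s.Q]) : V ⊔ s.T ≤ N[s.Q] := sup_le (hQ.trans (c_le_n _)) s.TN

theorem E2.dec0 (ht : s.E2 t) (hQ : V ≤ C[s.Q]) {g : G} (h : g ∈ V ⊔ s.T) (h0 : g ∈ s.N0) :
    ∃ x, ∃ v ∈ V, g = s.ι x * v ∨ g = s.ι x * (v * t) := by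
  obtain ⟨v, hv, y, hy, rfl⟩ := (mem_VT hB).1 h
  obtain ⟨x, k⟩ := ht.mem_B0 (s.TN0 hy (by simpa using mul_mem (inv_mem (s.cQ_le_N0 (hQ hv))) h0))
  have c := mem_centralizer_iff.1 (hQ hv) _ (s.ι_mem x)
  exact ⟨x, v, hv, k.imp (fun e => by rw [e, c]) fun e => by rw [e, ← mul_assoc, ← mul_assoc, c]⟩

/-- transfer when `V T` is a Sylow subgroup -/
theorem E2.trV (ht : s.E2 t) (hC : ∀ v ∈ V, v ∈ s.C → v ∈ s.U) (hS : IsSylowIn 2 (V ⊔ s.T) ⊤)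
    (h : ∀ g : G, (∀ y ∈ s.T, g * y * g⁻¹ ∈ V ⊔ s.T) → g * t * g⁻¹ * t ∈ V) : ¬ In2 t := fun hG => by
  have m : ∀ g, g ∈ V ⊔ s.T ⊓ s.U ↔ ∃ v ∈ V, ∃ y ∈ s.T ⊓ s.U, v * y = g := fun g =>
    mem_sup_of_le_normalizer (inf_le_left.trans (s.TB.trans hB))
  have n : t ∉ V ⊔ s.T ⊓ s.U := fun k => by
    obtain ⟨v, hv, y, hy, e⟩ := (m t).1 k
    refine ht.nU (e ▸ mul_mem (hC v hv ?_) hy.2)
    rw [eq_mul_inv_of_mul_eq e]
    exact mul_mem ht.tB.1 (inv_mem (s.TC hy.1))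
  have u : ∀ y ∈ s.T, y ∈ s.U ∨ y * t ∈ s.U := fun y hy => by
    obtain ⟨e, he, u, hu, rfl⟩ := s.mem_C.1 (s.TC hy)
    refine (ht.eq e he).imp (fun e => by rwa [e, one_mul]) fun e => ?_
    rw [e]
    nth_rw 2 [← ht.inv]
    rwa [ht.ct (mem_sup_right hu)]
  obtain ⟨g, k, hg⟩ := ht.transfer s hG hS (M := V ⊔ s.T ⊓ s.U)
    ⟨sup_le_sup_left inf_le_left _, fun a ha b hb => by
      obtain ⟨v, hv, y, hy, rfl⟩ := (mem_VT hB).1 ha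
      obtain ⟨v', hv', y', hy', rfl⟩ := (mem_VT hB).1 hb
      rcases u y hy with k | k
      · exact .inl ((m _).2 ⟨v, hv, y, ⟨hy, k⟩, rfl⟩)
      rcases u y' hy' with k' | k'
      · exact .inr (.inl ((m _).2 ⟨v', hv', y', ⟨hy', k'⟩, rfl⟩))
      refine .inr (.inr ((m _).2 ⟨_, mul_mem hv (cj (hB (s.TB hy)) hv'), y * y', ⟨mul_mem hy hy', ?_⟩, by group⟩))
      have := mul_mem k k'
      nth_rw 2 [← ht.inv] at this
      rwa [mul_assoc, ← mul_assoc t, ht.ct (s.TC hy')] at this⟩ (mem_sup_right ht.tT) n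
  have := mul_mem (inv_mem k) (mem_sup_left (h g hg) : _ ∈ V ⊔ s.T ⊓ s.U)
  exact n (by rwa [inv_mul_cancel_left] at this)

end V

end Su

namespace RR
variable (r : RR s) {t : G}

theorem sqY4 (h0 : r.k0 = r.mu t) {y : G} (hy : y ∈ r.Y) : y * y = s.zc (r.lam y * r.mu t) := by
  rw [r.sq y hy.1, (r.mem_Y.1 hy).2.1, (r.mem_Y.1 hy).2.2, h0, zero_mul, zero_add, zero_add]

theorem sqYZ {y : G} (hy : y ∈ r.Y) : y * y ∈ s.Z := by rw [r.sq y hy.1]; exact s.zc_mem _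

theorem omY (ht : s.E2 t) (h0 : r.k0 = r.mu t) {y : G} (hy : y ∈ r.Y) (h : y * y = 1) : y ∈ s.Z := by
  rw [r.sqY4 h0 hy, s.zc_eq_one (by rw [map_mul, r.lam_k y hy.1, r.mu_k t (r.ER ht.mem)])] at h
  exact r.mem_Z.2 ⟨hy.1, (r.mem_Y.1 hy).2.1, (mul_eq_zero.1 h).resolve_right (r.mu_ne ht.mem ht.ne),
    (r.mem_Y.1 hy).2.2⟩

theorem exists_Y {c : F} (hc : τ c = c) : ∃ y ∈ r.Y, r.lam y = c :=
  let ⟨y, hy, a, b, c⟩ := r.onto c hc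
  ⟨y, r.mem_Y.2 ⟨hy, a, c⟩, b⟩

theorem lam_Z {z : G} (h : z ∈ s.Z) : r.lam z = 0 := (r.mem_Z.1 h).2.2.1

theorem t_ncY (ht : s.E2 t) : t ∉ C[r.Y] := fun h => r.mu_ne ht.mem ht.ne ((r.mem_cY (r.ER ht.mem)).1 h)

variable [Finite G] [Finite F]

/-- no conjugate of `t` lies in `Q C(Q Y)` -/
theorem no_ty (ht : s.E2 t) {x : U3S τ} {w : G} (hw : w ∈ C[s.Q]) (hw' : w ∈ C[r.Y]) : ¬ s.Ty (s.ι x * w) :=
  fun h => by
  have k : ∀ c, τ c = c → c ≠ 0 → ∃ y ∈ r.Y, r.lam y = c ∧ w⁻¹ * y ∈ s.Z := fun c hc c0 => by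
    obtain ⟨y, hy, e⟩ := r.exists_Y hc
    exact ⟨y, hy, e, (ht.arQ h hw (r.YcQ hy) (mem_centralizer_iff.1 hw' y hy) (r.sqYZ hy)).resolve_left fun k =>
      c0 (e ▸ r.lam_Z k)⟩
  obtain ⟨c, c1, c2, c3⟩ := s.four
  obtain ⟨y, hy, e, a⟩ := k 1 (map_one τ) one_ne_zero
  obtain ⟨y', hy', e', a'⟩ := k c c1 c2
  have := r.lam_Z (mul_mem (inv_mem a) a')
  rw [show (w⁻¹ * y)⁻¹ * (w⁻¹ * y') = y⁻¹ * y' by group, r.lam_mul _ (inv_mem hy.1) _ hy'.1, r.lam_inv hy.1, e,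
    e'] at this
  have := s.two
  grind

end RR

end Cfsg.Lib.U3F
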