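import Cfsg.Agent.Lib.U3F.Four1

/-!
# Case IV, step 1: the maximal abelian subgroup `W`
-/

set_option autoImplicit false

namespace Cfsg.Lib.U3F
open Subgroup Cfsg.Lib Cfsg.Lib.FT Cfsg.Lib.TwoL Cfsg.Lib.U3S

variable {G : Type*} [Group G] {F : Type*} [Field F] {τ : F ≃+* F} [Fact (Function.Involutive τ)] {s : Su G τ}
  {t : G}

theorem ab_sup {X Y : Subgroup G} (hX : X ≤ C[X]) (hY : Y ≤ C[Y]) (h : Y ≤ C[X]) : X ⊔ Y ≤ C[X ⊔ Y] := by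
  have k : ∀ Z : Subgroup G, Z ≤ C[X] → Z ≤ C[Y] → Z ≤ C[X ⊔ Y] := fun Z a b =>
    le_centralizer_iff.1 (sup_le (le_centralizer_iff.1 a) (le_centralizer_iff.1 b))
  exact sup_le (k X hX (le_centralizer_iff.1 h)) (k Y h hY)

theorem cm_ab {X : Subgroup G} (hX : X ≤ C[X]) {g a b : G} (ha : g * a * g⁻¹ ∈ X) (hb : g * b * g⁻¹ ∈ X) :
    g * (a * b * a⁻¹ * b⁻¹) * g⁻¹ ∈ (⊥ : Subgroup G) := by
  rw [mem_bot, show g * (a * b * a⁻¹ * b⁻¹) * g⁻¹ = g * a * g⁻¹ * (g * b * g⁻¹) * (g * a * g⁻¹)⁻¹ * (g * b * g⁻¹)⁻¹ by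
    group, cc (hX ha) hb, mul_inv_cancel]

namespace Su

theorem sqm {m : G} (hm : m ∈ C[s.Q]) (x : U3S τ) : s.ι x * m * (s.ι x * m) = s.ι x * s.ι x * (m * m) := by
  rw [mul_assoc, ← mul_assoc m, ← mem_centralizer_iff.1 hm _ (s.ι_mem x)]; group

theorem ι_sqZ (x : U3S τ) : s.ι x * s.ι x ∈ s.Z := by rw [s.ι_sq]; exact s.zc_mem _

theorem sq4 {m : G} (hm : m ∈ C[s.Q]) (x : U3S τ)
    (h : s.ι x * m * (s.ι x * m) * (s.ι x * m * (s.ι x * m)) = 1) : m * m * (m * m) = 1 := by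
  rw [sqm hm, ← map_mul, sqm (mul_mem hm hm), map_mul, s.sqZ (ι_sqZ x), one_mul] at h
  exact h

theorem not_bot {g : G} : ¬ ∀ z ∈ s.Z, g * z * g⁻¹ ∈ (⊥ : Subgroup G) := fun h =>
  s.zc_one_ne (by simpa using h _ (s.zc_mem 1))

variable [Finite G] [Finite F]

theorem E2.hL (ht : s.E2 t) {S : Subgroup G} (hS : IsPGroup 2 S) {g : G} (hg : ∀ y ∈ s.T, g * y * g⁻¹ ∈ S)
    (h : ∀ x ∈ s.B0, g * x * g⁻¹ ∈ s.N0 ∨ s.Out (g * x * g⁻¹)) (o : s.Out (g * t * g⁻¹)) :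
    ∀ b ∈ s.B0, g * b * g⁻¹ ∈ s.N0 ∨ g * (b * t) * g⁻¹ ∈ s.N0 := fun b hb => (h b hb).imp_right fun k => by
  rw [← conj_mul]
  exact k.mul s o (p2_of_mem hS (mul_mem (hg _ (s.B0T hb)) (hg _ ht.tT)))

theorem E2.outDec (ht : s.E2 t) {V : Subgroup G} (hB : s.B ≤ N[V]) (hQ : V ≤ C[s.Q]) {g : G}
    (hg : ∀ y ∈ s.T, g * y * g⁻¹ ∈ V ⊔ s.T) {a : F}
    (ha : ∀ x : U3S τ, g * t * g⁻¹ * s.ι x * (g * t * g⁻¹)⁻¹ * (s.ι x)⁻¹ ∈ s.Z ↔ s.ι x ∈ s.Ln a) {b : G} (hb : b ∈ s.B0)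
    (h : g * b * g⁻¹ ∈ s.N0) : ∃ x, s.ι x ∈ s.Ln a ∧ ∃ v ∈ V, g * b * g⁻¹ = s.ι x * v ∨ g * b * g⁻¹ = s.ι x * (v * t) := by
  obtain ⟨x, v, hv, k⟩ := ht.dec0 hB hQ (hg b (s.B0T hb)) h
  have c : g * t * g⁻¹ * (g * b * g⁻¹) * (g * t * g⁻¹)⁻¹ = g * b * g⁻¹ := by
    conv_rhs => rw [← ht.ct (s.TC (s.B0T hb))]
    group
  have n := VT_nQ hQ (hg t ht.tT)
  refine ⟨x, (ha x).1 ?_, v, hv, k⟩
  rcases k with k | k <;> rw [k] at c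
  · exact Out.ln n (hQ hv) c
  · exact Out.ln n (mul_mem (hQ hv) (s.EcQ ht.mem)) c

end Su

namespace RR

/-- the maximal abelian subgroup `W`, of exponent `2 ^ (k + 2)` -/
structure Wd (r : RR s) (t : G) where
  W : Subgroup G
  k : ℕ
  e2 : s.E2 t
  k0 : r.k0 = r.mu t
  p2 : IsPGroup 2 W
  YW : r.Y ≤ W
  cQ : W ≤ C[s.Q]
  ab : W ≤ C[W]
  BN : s.B ≤ N[W]
  max : ∀ W' : Subgroup G, IsPGroup 2 W' → W ≤ W' → W' ≤ C[s.Q] → W' ≤ C[W'] → s.B ≤ N[W'] → W' ≤ W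
  ex : ∃ w ∈ W, w ^ 2 ^ (k + 1) ≠ 1
  exp : ∀ w ∈ W, w ^ 2 ^ (k + 2) = 1

variable {r : RR s} [Finite G] [Finite F]

theorem exists_Wd (ht : s.E2 t) (h0 : r.k0 = r.mu t) : Nonempty (r.Wd t) := by
  obtain ⟨W, le, ⟨h1, h2, h3, h4⟩, m⟩ := Finite.exists_le_maximal
    (p := fun W : Subgroup G => IsPGroup 2 W ∧ W ≤ C[s.Q] ∧ W ≤ C[W] ∧ s.B ≤ N[W])
    ⟨r.p2.to_le r.YR, r.YcQ, r.YY, r.B_nY⟩
  obtain ⟨k, k1, k2⟩ := exists_last' (P := fun k => ∃ w ∈ W, w ^ 2 ^ (k + 1) ≠ 1) (by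
      obtain ⟨y, hy, e⟩ := r.exists_Y (map_one τ)
      refine ⟨y, le hy, fun k => one_ne_zero (e ▸ r.lam_Z (r.omY ht h0 hy ?_))⟩
      rwa [zero_add, pow_one, pow_two] at k)
    (by
      obtain ⟨n, hn⟩ := exists_exp h1
      exact ⟨n, fun ⟨w, hw, k⟩ => k (by rw [pow_succ, pow_mul, hn w hw, one_pow])⟩)
  push Not at k2
  exact ⟨⟨W, k, ht, h0, h1, le, h2, h3, h4, fun W' a b c d e => m ⟨a, c, d, e⟩ b, k1, k2⟩⟩

namespace Wd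
variable (d : r.Wd t)

omit [Finite G] [Finite F] in
theorem cw {a b : G} (ha : a ∈ d.W) (hb : b ∈ d.W) : a * b = b * a := mem_centralizer_iff.1 (d.ab hb) a ha

omit [Finite G] [Finite F] in
theorem ZW : s.Z ≤ d.W := r.ZY.trans d.YW

omit [Finite G] [Finite F] in
theorem tN : t ∈ N[d.W] := d.BN d.e2.tB

omit [Finite G] [Finite F] in
theorem tW : t ∉ d.W := fun h => r.t_ncY d.e2 (centralizer_le d.YW (d.ab h))

theorem cW {w : G} (hw : w ∈ d.W) (h : w ∈ s.C) : w ∈ s.Z := by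
  obtain ⟨e, he, z, hz, rfl⟩ := s.mem_A.1 (s.mem_A_of_p2 (d.cQ hw) h (p2_of_mem d.p2 hw))
  rcases d.e2.eq e he with rfl | rfl
  · rwa [one_mul]
  · exact (d.tW (by simpa using mul_mem hw (inv_mem (d.ZW hz)))).elim

theorem cW' {w : G} (hw : w ∈ d.W) (h : w * t * w⁻¹ * t ∈ s.Z) : w ∈ r.Y := by
  obtain ⟨y, hy, e⟩ := r.conj_eZ d.e2.mem d.e2.ne h
  have := d.cW (mul_mem (inv_mem (d.YW hy)) hw) (d.e2.mem_C (by
    rw [← mem_centralizer_iff.1 (s.EcZ d.e2.mem) _ h, mul_assoc _ t t, d.e2.tt, mul_one] at e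
    calc _ = y⁻¹ * (w * t * w⁻¹) * y := by group
      _ = t := by rw [← e]; group))
  simpa using mul_mem hy (r.ZY this)

theorem nZ {w : G} (hw : w ∈ d.W) : w * (t * w * t⁻¹) ∈ s.Z := by
  have h := cj d.tN hw
  refine d.cW (mul_mem hw h) (d.e2.mem_C ?_)
  rw [mul_inv_eq_iff_eq_mul]
  conv_rhs => rw [d.cw hw h]
  simp only [d.e2.inv, ← mul_assoc, d.e2.tt, one_mul]
  rw [mul_assoc _ t t, d.e2.tt, mul_one]

theorem om {w : G} (hw : w ∈ d.W) (h : w * w = 1) : w ∈ s.Z := by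
  refine r.omY d.e2 d.k0 (d.cW' hw ?_) h
  have := d.nZ hw
  rw [d.e2.inv] at this
  rwa [inv_of_sq h, mul_assoc, mul_assoc, ← mul_assoc t]

/-- the power map onto `Z` -/
def π (w : G) : G := w ^ 2 ^ (d.k + 1)

omit [Finite G] [Finite F] in
theorem π_mul {a b : G} (ha : a ∈ d.W) (hb : b ∈ d.W) : d.π (a * b) = d.π a * d.π b := Commute.mul_pow (d.cw ha hb) _

omit [Finite G] [Finite F] in
theorem π_cj (g w : G) : d.π (g * w * g⁻¹) = g * d.π w * g⁻¹ := conj_pow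

omit [Finite G] [Finite F] in
theorem π_sq {w : G} (hw : w ∈ d.W) : d.π (w * w) = 1 := by rw [π, ← pow_two, ← pow_mul, ← pow_succ', d.exp w hw]

omit [Finite G] [Finite F] in
theorem π_Z {z : G} (hz : z ∈ s.Z) : d.π z = 1 := by rw [π, pow_succ', pow_mul, pow_two, s.sqZ hz, one_pow]

theorem π_mem {w : G} (hw : w ∈ d.W) : d.π w ∈ s.Z := d.om (pow_mem hw _) (by rw [← d.π_mul hw hw, d.π_sq hw])

theorem π_inv {w : G} (hw : w ∈ d.W) : d.π w⁻¹ = d.π w := by rw [π, inv_pow]; exact inv_of_sq (s.sqZ (d.π_mem hw))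

theorem π_ρ {w : G} (hw : w ∈ d.W) : s.zi (d.π (s.ρ * w * s.ρ⁻¹)) = s.l * τ s.l * s.zi (d.π w) := by
  obtain ⟨b, hb, e⟩ := s.mem_Z.1 (d.π_mem hw)
  rw [d.π_cj, ← e, s.ρ_zc hb, s.zi_zc hb, s.zi_zc (by simp [hb, mul_comm])]

omit [Finite G] [Finite F] in
theorem zi_one : s.zi 1 = 0 := by rw [← s.zc_zero, s.zi_zc (map_zero τ)]

omit [Finite G] [Finite F] in
theorem zi_eq_zero {z : G} (hz : z ∈ s.Z) : s.zi z = 0 ↔ z = 1 :=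
  ⟨fun h => by rw [← (s.zi_spec hz).2, h, s.zc_zero], fun h => h ▸ zi_one⟩

/-- a `ρ`-invariant property of elements of `W` depending only on `π` -/
theorem π_ind {P : G → Prop} (h1 : ∀ w ∈ d.W, d.π w = 1 → P w) (h2 : ∀ a ∈ d.W, ∀ b ∈ d.W, P a → P b → P (a * b))
    (h3 : ∀ w ∈ d.W, P w → P (s.ρ * w * s.ρ⁻¹)) {w : G} (hw : w ∈ d.W) (h : P w) (n : d.π w ≠ 1) {c : F}
    (hc : τ c = c) : ∃ v ∈ d.W, P v ∧ s.zi (d.π v) = c :=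
  s.closed_k (V := fun c => ∃ v ∈ d.W, P v ∧ s.zi (d.π v) = c)
    ⟨1, one_mem _, h1 1 (one_mem _) (d.π_Z (one_mem _)), by rw [d.π_Z (one_mem _), zi_one]⟩
    (by rintro _ ⟨v, hv, a, rfl⟩; exact ⟨_, cj (d.BN s.ρB) hv, h3 v hv a, d.π_ρ hv⟩) ⟨w, hw, h, rfl⟩
    (s.zi_spec (d.π_mem hw)).1 (mt (zi_eq_zero (d.π_mem hw)).1 n) hc

theorem π_on {z : G} (hz : z ∈ s.Z) : ∃ w ∈ d.W, d.π w = z := by
  obtain ⟨w, hw, n⟩ := d.ex
  obtain ⟨v, hv, -, e⟩ := d.π_ind (P := fun _ => True) (fun _ _ _ => trivial) (fun _ _ _ _ _ _ => trivial)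
    (fun _ _ _ => trivial) hw trivial n (s.zi_spec hz).1
  exact ⟨v, hv, by rw [← (s.zi_spec (d.π_mem hv)).2, e, (s.zi_spec hz).2]⟩

theorem ker_sq {w : G} (hw : w ∈ d.W) (h : d.π w = 1) : ∃ v ∈ d.W, v * v = w :=
  ker_eq_range (f := fun v => v * v) (fun a ha b hb => by rw [mul_assoc, ← mul_assoc b, d.cw hb ha]; group)
    (fun a ha b hb => d.π_mul ha hb) (fun v hv => d.om hv) (fun v hv => mul_mem hv hv) (fun v hv => d.π_sq hv)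
    (fun z hz => d.π_on hz) hw h

omit [Finite G] [Finite F] in
theorem ct_mem {v : G} (hv : v ∈ d.W) : v * t * v⁻¹ * t ∈ d.W := by
  simpa [mul_assoc, d.e2.inv] using mul_mem hv (cj d.tN (inv_mem hv))

theorem π_ct {v : G} (hv : v ∈ d.W) : d.π (v * t * v⁻¹ * t) = 1 := by
  have := d.nZ (inv_mem hv)
  rw [show v * t * v⁻¹ * t = v * v * (v⁻¹ * (t * v⁻¹ * t⁻¹)) by rw [d.e2.inv]; group,
    d.π_mul (mul_mem hv hv) (d.ZW this), d.π_sq hv, d.π_Z this, one_mul]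

theorem ker_ct {w : G} (hw : w ∈ d.W) (h : d.π w = 1) : ∃ v ∈ d.W, v * t * v⁻¹ * t = w :=
  ker_eq_range (f := fun v => v * t * v⁻¹ * t) (fun a ha b hb => by
      rw [show a * b * t * (a * b)⁻¹ * t = a * (b * t * b⁻¹ * t) * a⁻¹ * (a * t⁻¹ * a⁻¹ * t) by group,
        cc (d.ab ha) (d.ct_mem hb), d.e2.inv, d.cw (d.ct_mem hb) (d.ct_mem ha)])
    (fun a ha b hb => d.π_mul ha hb)
    (fun v hv e => d.cW hv (d.e2.mem_C (by rw [eq_inv_of_mul_eq_one_left e, d.e2.inv])))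
    (fun v hv => d.ct_mem hv) (fun v hv => d.π_ct hv) (fun z hz => d.π_on hz) hw h

/-- extremal conjugates of `t` in `W T` lie in `W t` -/
theorem claimA {g : G} (hg : ∀ y ∈ s.T, g * y * g⁻¹ ∈ d.W ⊔ s.T) : g * t * g⁻¹ * t ∈ d.W := by
  have ht := d.e2
  have p := Su.p2_VT d.BN d.p2
  obtain ⟨-, h⟩ := s.phi p (Su.VT_nQ d.cQ) (fun r hr h0 h4 => by
    obtain ⟨x, v, hv, rfl | rfl⟩ := ht.dec0 d.BN d.cQ hr h0
    · rw [Su.sqm (d.cQ hv)]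
      exact mul_mem (Su.ι_sqZ x) (d.om (mul_mem hv hv) (Su.sq4 (d.cQ hv) x h4))
    · rw [Su.sqm (mul_mem (d.cQ hv) (s.EcQ ht.mem))]
      refine mul_mem (Su.ι_sqZ x) ?_
      simpa [mul_assoc, ht.inv] using d.nZ hv) s.robB0 fun x hx => hg x (s.B0T hx)
  rcases h t ht.tB0 with k | o
  · obtain ⟨x, v, hv, e | e⟩ := ht.dec0 d.BN d.cQ (hg t ht.tT) k
    · exact (r.no_ty ht (d.cQ hv) (centralizer_le d.YW (d.ab hv)) (e ▸ ht.ty g)).elim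
    · have := r.lemW (d.k0 ▸ r.mu_ne ht.mem ht.ne) ht (centralizer_le d.YW (d.ab hv)) (d.cQ hv) (x := x)
        (by rw [mul_assoc, ← e]; exact ht.ty g)
      rw [e, mul_assoc, mul_assoc, ht.tt, mul_one]
      exact mul_mem (d.ZW (s.ι_mem_Z.2 this)) hv
  obtain ⟨a, -, ha, -⟩ := o.line s
  refine (Su.not_bot fun z hz => ht.rob2 (K := s.Ln a ⊔ d.W) (ht.hL p hg h o) (fun b hb b' hb' k k' => ?_)
    (fun b _ b' _ => cm_ab (ab_sup (s.Ln_comm a) d.ab (d.cQ.trans (centralizer_le (s.Ln_le a))))) hz).elim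
  obtain ⟨x, hx, v, hv, e | e⟩ := ht.outDec d.BN d.cQ hg ha hb k
  · exact .inl (e ▸ mul_mem_sup hx hv)
  obtain ⟨x', hx', v', hv', e' | e'⟩ := ht.outDec d.BN d.cQ hg ha hb' k'
  · exact .inr (.inl (e' ▸ mul_mem_sup hx' hv'))
  refine .inr (.inr ?_)
  rw [← conj_mul, e, e', mul_assoc, ← mul_assoc (v * t),
    ← mem_centralizer_iff.1 (mul_mem (d.cQ hv) (s.EcQ ht.mem)) _ (s.ι_mem x'), mul_assoc, ← mul_assoc]
  refine mul_mem_sup (mul_mem hx hx') ?_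
  simpa [mul_assoc, ht.inv] using mul_mem hv (cj d.tN hv')

theorem syl (h : IsSylowIn 2 (d.W ⊔ s.T) ⊤) : ¬ Su.In2 t :=
  d.e2.trV d.BN (fun _ hv h => s.QleU (s.ZQ (d.cW hv h))) h fun _ => d.claimA

theorem cB {c : G} (hc : c ∈ s.B) (ho : Odd (orderOf c)) (h : c ∈ C[s.Z]) : c ∈ C[d.W] :=
  s.ab' d.p2 d.cQ d.e2.mem d.e2.ne d.tN hc.1 (d.BN hc) ho h

theorem κW {j : ℕ} (h : s.l ^ j * τ (s.l ^ j) = 1) : s.ρ ^ j ∈ C[d.W] :=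
  d.cB (pow_mem s.ρB j) (s.ρodd.of_dvd_nat (orderOf_pow_dvd j))
    (centralizer_le (r.ZY.trans fun y hy => r.mem_D.2 ⟨hy.1, (r.mem_Y.1 hy).2.1⟩) (r.κcD h))

theorem OW : s.O ≤ C[d.W] := fun o ho =>
  d.cB ⟨mem_sup_right (s.OU ho), c_le_n _ (s.OQ ho)⟩ (odd_order_of_mem s.Oodd ho) (centralizer_le s.ZQ (s.OQ ho))

theorem exists_g (h : ¬ IsSylowIn 2 (d.W ⊔ s.T) ⊤) : (∀ w ∈ d.W, t * w * t⁻¹ = w⁻¹) ∧
    ∃ g ∈ N[s.Q], g ∈ N[d.W] ∧ g * t * g⁻¹ * t ∈ d.W ∧ d.π (g * t * g⁻¹ * t) ≠ 1 := by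
  have ht := d.e2
  have p := Su.p2_VT d.BN d.p2
  obtain ⟨P, hP, le, g, hg, n, h⟩ : ∃ P : Subgroup G, IsPGroup 2 P ∧ d.W ⊔ s.T ≤ P ∧ ∃ g ∈ P, g ∈ N[d.W ⊔ s.T] ∧
      g ∉ d.W ⊔ s.T := by
    by_contra! k
    exact h (syl_of_norm p k)
  have w := d.claimA fun y hy => cj n (mem_sup_right hy)
  have πw : d.π (g * t * g⁻¹ * t) ≠ 1 := fun e => by
    obtain ⟨v, hv, e⟩ := d.ker_ct w e
    have := s.mem_T hP (le_sup_right.trans le) (mul_mem (inv_mem (le (mem_sup_left hv))) hg) (ht.mem_C (by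
      calc _ = v⁻¹ * (g * t * g⁻¹ * t * t⁻¹) * v := by group
        _ = t := by rw [← e]; group))
    exact h (by simpa using mul_mem_sup hv this)
  have gQ : g ∈ N[s.Q] := by
    have c : ∀ x, x ∈ C[d.W] → x ∈ s.C → g⁻¹ * x * g ∈ s.C := fun x h1 h2 => by
      rw [s.mem_C_iff ht.mem ht.ne, mem_C1, show g * t * g⁻¹ = g * t * g⁻¹ * t * t⁻¹ by group, ← mul_assoc,
        ← mem_centralizer_iff.1 h1 _ w, mul_assoc _ x, ht.inv, ← mem_centralizer_iff.1 (s.CcE h2) _ ht.mem]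
      group
    refine s.nq (fun x hx => ?_) fun j hj => c _ (d.κW hj) (pow_mem s.ρC j)
    simpa using (s.wcT s.rob_Q (h := g⁻¹) fun x hx => s.mem_T p le_sup_right (cj (inv_mem n) (mem_sup_right (s.QT hx)))
      (by simpa using c x (le_centralizer_iff.1 d.cQ hx) (s.TC (s.QT hx)))).2 x hx
  have iv : ∀ w ∈ d.W, t * w * t⁻¹ = w⁻¹ := by
    have h1 : ∀ w ∈ d.W, d.π w = 1 → t * w * t⁻¹ = w⁻¹ := fun w hw e => by
      obtain ⟨v, hv, rfl⟩ := d.ker_ct hw e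
      simp only [mul_inv_rev, inv_inv, ht.inv, ← mul_assoc]
      rw [mul_assoc _ t t, ht.tt, mul_one]
    have h2 : ∀ a ∈ d.W, ∀ b ∈ d.W, t * a * t⁻¹ = a⁻¹ → t * b * t⁻¹ = b⁻¹ → t * (a * b) * t⁻¹ = (a * b)⁻¹ :=
      fun a ha b hb e e' => by rw [← conj_mul, e, e', d.cw ha hb, mul_inv_rev]
    intro w' hw'
    obtain ⟨v, hv, e, k⟩ := d.π_ind (P := fun w => t * w * t⁻¹ = w⁻¹) h1 h2 (fun w _ e => by
        rw [conj_inv, ← e]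
        conv_lhs => rw [← ht.tc s.ρC]
        group) w (by
        simp only [mul_inv_rev, inv_inv, ht.inv, ← mul_assoc]
        rw [mul_assoc _ t t, ht.tt, mul_one]) πw (s.zi_spec (d.π_mem hw')).1
    have := h2 _ hv _ (mul_mem (inv_mem hv) hw') e (h1 _ (mul_mem (inv_mem hv) hw') (by
      rw [d.π_mul (inv_mem hv) hw', d.π_inv hv, ← (s.zi_spec (d.π_mem hv)).2, k, (s.zi_spec (d.π_mem hw')).2,
        s.sqZ (d.π_mem hw')]))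
    rwa [mul_inv_cancel_left] at this
  refine ⟨iv, g, gQ, mem_n fun v hv => ?_, w, πw⟩
  have c := cj_c gQ (d.cQ hv)
  obtain ⟨x, v', hv', e | e⟩ := ht.dec0 d.BN d.cQ (cj n (mem_sup_left hv)) (s.cQ_le_N0 c)
  · rw [e] at c ⊢
    exact mul_mem (d.ZW (s.QcQ (s.ι_mem x) (by simpa using mul_mem c (inv_mem (d.cQ hv'))))) hv'
  · have c' := mul_mem (d.cQ hv') (s.EcQ ht.mem)
    have z := s.QcQ (s.ι_mem x) (by simpa only [e, mul_inv_cancel_right] using mul_mem c (inv_mem c'))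
    refine d.ZW (cj (s.nQ_nZ gQ) (d.om hv ?_))
    have : g * (v * v) * g⁻¹ = 1 := by
      rw [← conj_mul, e, Su.sqm c', s.sqZ z, one_mul, show v' * t * (v' * t) = v' * (t * v' * t⁻¹) * (t * t) by group,
        iv v' hv', ht.tt, mul_inv_cancel, one_mul]
    simpa using this

end Wd

end RR

end Cfsg.Lib.U3F
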