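import Cfsg.Agent.Lib.U3F.Four2

/-!
# Case IV, step 2: the group `P'`
-/

set_option autoImplicit false

namespace Cfsg.Lib.U3F
open Subgroup Cfsg.Lib Cfsg.Lib.FT Cfsg.Lib.TwoL Cfsg.Lib.U3S

variable {G : Type*} [Group G] {F : Type*} [Field F] {τ : F ≃+* F} [Fact (Function.Involutive τ)] {s : Su G τ}
  {t : G} [Finite G] [Finite F]

/-- `f` is a `ν`-equivariant additive map from `X` onto `k` -/
structure Su.Co (s : Su G τ) (X : Subgroup G) (f : G → F) : Prop where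
  ρN : s.ρ ∈ N[X]
  mul : ∀ x ∈ X, ∀ y ∈ X, f (x * y) = f x + f y
  k : ∀ x ∈ X, τ (f x) = f x
  on : ∀ c, τ c = c → ∃ x ∈ X, f x = c
  ρ : ∀ x ∈ X, f (s.ρ * x * s.ρ⁻¹) = s.l * τ s.l * f x

omit [Finite G] [Finite F] in
theorem Su.Co.div {X : Subgroup G} {f : G → F} (h : s.Co X f) {x y : G} (hx : x ∈ X) (hy : y ∈ X) (e : f x = f y) :
    f (y⁻¹ * x) = 0 := by
  have := h.mul _ hy _ (mul_mem (inv_mem hy) hx)
  rw [mul_inv_cancel_left, e] at this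
  grind

omit [Finite G] [Finite F] in
theorem Su.zi_ρ {z : G} (hz : z ∈ s.Z) : s.zi (s.ρ * z * s.ρ⁻¹) = s.l * τ s.l * s.zi z := by
  obtain ⟨b, hb, rfl⟩ := s.mem_Z.1 hz
  rw [s.ρ_zc hb, s.zi_zc hb, s.zi_zc (by simp [hb, mul_comm])]

omit [Finite G] [Finite F] in
theorem Su.E2.tt' (ht : s.E2 t) (x : G) : t * (t * x) = x := by rw [← mul_assoc, ht.tt, one_mul]

omit [Finite G] in
/-- Hua's lemma for pairings of groups -/
theorem Su.hua_grp {X X' : Subgroup G} {f f' : G → F} (h : s.Co X f) (h' : s.Co X' f') {D : G → G → G}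
    (dZ : ∀ x ∈ X, ∀ y ∈ X', D x y ∈ s.Z) (dl : ∀ a ∈ X, ∀ b ∈ X, ∀ y ∈ X', D (a * b) y = D a y * D b y)
    (dr : ∀ x ∈ X, ∀ a ∈ X', ∀ b ∈ X', D x (a * b) = D x a * D x b)
    (d0 : ∀ x ∈ X, ∀ y ∈ X', f x = 0 ∨ f' y = 0 → D x y = 1)
    (dρ : ∀ x y, D (s.ρ * x * s.ρ⁻¹) (s.ρ * y * s.ρ⁻¹) = s.ρ * D x y * s.ρ⁻¹) :
    ∃ c, τ c = c ∧ ∀ x ∈ X, ∀ y ∈ X', s.zi (D x y) ^ 2 = f x * f' y * c ^ 2 := by
  choose! σ σX σf using h.on
  choose! ω ωX ωf using h'.on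
  have k : ∀ x ∈ X, ∀ y ∈ X', D x y = D (σ (f x)) (ω (f' y)) := fun x hx y hy => by
    have a := σX _ (h.k x hx)
    have b := ωX _ (h'.k y hy)
    have a' := mul_mem (inv_mem a) hx
    have b' := mul_mem (inv_mem b) hy
    conv_lhs => rw [← mul_inv_cancel_left (σ (f x)) x, dl _ a _ a' _ hy,
      d0 _ a' _ hy (.inl (h.div hx a (σf _ (h.k x hx)).symm)), mul_one, ← mul_inv_cancel_left (ω (f' y)) y,
      dr _ a _ b _ b', d0 _ a _ b' (.inr (h'.div hy b (ωf _ (h'.k y hy)).symm)), mul_one]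
  have H := fun a b => @Su.hua1 _ _ _ _ _ _ s _ (fun a b => s.zi (D (σ a) (ω b)))
    (fun a b ha hb => (s.zi_spec (dZ _ (σX a ha) _ (ωX b hb))).1)
    (fun a b c ha hb hc => by
      have := k _ (mul_mem (σX a ha) (σX b hb)) _ (ωX c hc)
      rw [h.mul _ (σX a ha) _ (σX b hb), σf a ha, σf b hb, ωf c hc] at this
      rw [← this, dl _ (σX a ha) _ (σX b hb) _ (ωX c hc),
        s.zi_mul (dZ _ (σX a ha) _ (ωX c hc)) (dZ _ (σX b hb) _ (ωX c hc))])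
    (fun a b c ha hb hc => by
      have := k _ (σX a ha) _ (mul_mem (ωX b hb) (ωX c hc))
      rw [h'.mul _ (ωX b hb) _ (ωX c hc), σf a ha, ωf b hb, ωf c hc] at this
      rw [← this, dr _ (σX a ha) _ (ωX b hb) _ (ωX c hc),
        s.zi_mul (dZ _ (σX a ha) _ (ωX b hb)) (dZ _ (σX a ha) _ (ωX c hc))])
    (fun a b ha hb => by
      have := k _ (cj h.ρN (σX a ha)) _ (cj h'.ρN (ωX b hb))
      rw [h.ρ _ (σX a ha), h'.ρ _ (ωX b hb), σf a ha, ωf b hb] at this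
      rw [← this, dρ, Su.zi_ρ (dZ _ (σX a ha) _ (ωX b hb))]) a b
  exact ⟨_, (s.zi_spec (dZ _ (σX 1 (map_one τ)) _ (ωX 1 (map_one τ)))).1, fun x hx y hy => by
    rw [k x hx y hy, H _ _ (h.k x hx) (h'.k y hy)]⟩

namespace RR.Wd
variable {r : RR s} (d : r.Wd t)

/-- the stabilizer of the chain `W⟨t⟩ > W` in `N₀` -/
def H : Subgroup G where
  carrier := {n | n ∈ s.N0 ∧ n ∈ N[d.W] ∧ n * t * n⁻¹ * t ∈ d.W}
  one_mem' := ⟨one_mem _, one_mem _, by simp [d.e2.tt]⟩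
  mul_mem' := by
    rintro n m ⟨n1, n2, n3⟩ ⟨m1, m2, m3⟩
    refine ⟨mul_mem n1 m1, mul_mem n2 m2, ?_⟩
    have := mul_mem (cj n2 m3) n3
    nth_rw 3 [← d.e2.inv] at this
    convert this using 1
    group
  inv_mem' := by
    rintro n ⟨n1, n2, n3⟩
    refine ⟨inv_mem n1, inv_mem n2, ?_⟩
    have := cj' n2 (inv_mem n3)
    simp only [mul_inv_rev, d.e2.inv] at this
    convert this using 1
    group

/-- the coordinate on `H` -/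
noncomputable def f (n : G) : F := s.zi (d.π (n * t * n⁻¹ * t))

theorem f_mul {n m : G} (hn : n ∈ d.H) (hm : m ∈ d.H) : d.f (n * m) = d.f n + d.f m := by
  have e : n * m * t * (n * m)⁻¹ * t = n * (m * t * m⁻¹ * t) * n⁻¹ * (n * t * n⁻¹ * t) := by
    nth_rw 5 [← d.e2.inv]
    group
  rw [f, e, d.π_mul (cj hn.2.1 hm.2.2) hn.2.2, d.π_cj, cc (s.N0_cZ hn.1) (d.π_mem hm.2.2),
    s.zi_mul (d.π_mem hm.2.2) (d.π_mem hn.2.2), add_comm]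
  rfl

theorem f_k {n : G} (hn : n ∈ d.H) : τ (d.f n) = d.f n := (s.zi_spec (d.π_mem hn.2.2)).1

omit [Finite G] [Finite F] in
include d in
theorem ct_cj {b : G} (hb : b ∈ s.C) (n : G) :
    b * n * b⁻¹ * t * (b * n * b⁻¹)⁻¹ * t = b * (n * t * n⁻¹ * t) * b⁻¹ := by
  conv_lhs => rw [← d.e2.tc hb]
  group

theorem H_cj {b n : G} (hb : b ∈ s.B) (hn : n ∈ d.H) : b * n * b⁻¹ ∈ d.H :=
  ⟨cj (s.nQ_nN0 hb.2) hn.1, mul_mem (mul_mem (d.BN hb) hn.2.1) (inv_mem (d.BN hb)), by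
    rw [d.ct_cj hb.1]; exact cj (d.BN hb) hn.2.2⟩

theorem f_ρ {n : G} (hn : n ∈ d.H) : d.f (s.ρ * n * s.ρ⁻¹) = s.l * τ s.l * d.f n := by
  rw [f, d.ct_cj s.ρC, d.π_ρ hn.2.2, f]

theorem WH : d.W ≤ d.H := fun _ h => ⟨s.cQ_le_N0 (d.cQ h), le_normalizer h, d.ct_mem h⟩

omit [Finite G] [Finite F] in
theorem CH {n : G} (h : n ∈ s.N0) (h' : n ∈ s.C) : n ∈ d.H :=
  ⟨h, d.BN ⟨h', h.1⟩, by rw [d.e2.tc h', d.e2.tt]; exact one_mem _⟩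

theorem f_W {w : G} (h : w ∈ d.W) : d.f w = 0 := by rw [f, d.π_ct h, zi_one]

theorem f_C {c : G} (h : c ∈ s.C) : d.f c = 0 := by rw [f, d.e2.tc h, d.e2.tt, d.π_Z (one_mem _), zi_one]

theorem f_inv {n : G} (hn : n ∈ d.H) : d.f n⁻¹ = d.f n := by
  have := d.f_mul hn (inv_mem hn)
  rw [mul_inv_cancel, d.f_W (one_mem _)] at this
  have := s.two
  grind

theorem f_ker {n : G} (hn : n ∈ d.H) (h : d.f n = 0) : ∃ v ∈ d.W, ∃ b ∈ s.B0, ∃ o ∈ s.O, n = v * b * o := by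
  obtain ⟨v, hv, e⟩ := d.ker_ct hn.2.2 ((zi_eq_zero (d.π_mem hn.2.2)).1 h)
  obtain ⟨b, hb, o, ho, k⟩ := s.c2 (mul_mem (inv_mem (d.WH hv).1) hn.1) (d.e2.mem_C (by
    calc _ = v⁻¹ * (n * t * n⁻¹ * t * t⁻¹) * v := by group
      _ = t := by rw [← e]; group))
  exact ⟨v, hv, b, hb, o, ho, by rw [mul_assoc, ← k, mul_inv_cancel_left]⟩

theorem f_on {g : G} (gQ : g ∈ N[s.Q]) (gW : g ∈ N[d.W]) (hw : g * t * g⁻¹ * t ∈ d.W) (n : d.π (g * t * g⁻¹ * t) ≠ 1)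
    {c : F} (hc : τ c = c) : ∃ n ∈ d.H, d.f n = c := by
  obtain ⟨j, -, -, h0⟩ := s.exists_conj_pow gQ
  have ρW := d.BN s.ρB
  have w' := cj' gW (inv_mem hw)
  have e : g * s.ρ * g⁻¹ * (s.ρ ^ j)⁻¹ * t * (g * s.ρ * g⁻¹ * (s.ρ ^ j)⁻¹)⁻¹ * t =
      g * (s.ρ * (g⁻¹ * (g * t * g⁻¹ * t)⁻¹ * g) * s.ρ⁻¹ * (g⁻¹ * (g * t * g⁻¹ * t)⁻¹ * g)⁻¹) * g⁻¹ := by
    have a := d.e2.tc (inv_mem (pow_mem s.ρC j))
    have b := d.e2.ct (inv_mem s.ρC)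
    generalize s.ρ ^ j = p at a
    calc _ = g * s.ρ * g⁻¹ * (p⁻¹ * t * p⁻¹⁻¹) * g * s.ρ⁻¹ * g⁻¹ * t := by group
      _ = g * s.ρ * g⁻¹ * t * g * (t * s.ρ⁻¹ * t⁻¹) * g⁻¹ * t := by rw [a, b]
      _ = _ := by simp [mul_assoc, d.e2.inv]
  have m := mul_mem (cj ρW w') (inv_mem w')
  have hH : g * s.ρ * g⁻¹ * (s.ρ ^ j)⁻¹ ∈ d.H :=
    ⟨h0, mul_mem (mul_mem (mul_mem gW ρW) (inv_mem gW)) (inv_mem (pow_mem ρW j)), e ▸ cj gW m⟩
  refine s.closed_k (V := fun c => ∃ n ∈ d.H, d.f n = c) ⟨1, one_mem _, d.f_W (one_mem _)⟩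
    (by rintro _ ⟨n, hn, rfl⟩; exact ⟨_, d.H_cj s.ρB hn, d.f_ρ hn⟩) ⟨_, hH, rfl⟩ (d.f_k hH) (fun z => n ?_) hc
  rw [f, zi_eq_zero (d.π_mem hH.2.2), e, d.π_cj, conj_eq_one_iff, ← zi_eq_zero (d.π_mem m),
    d.π_mul (cj ρW w') (inv_mem w'), s.zi_mul (d.π_mem (cj ρW w')) (d.π_mem (inv_mem w')), d.π_ρ w', d.π_inv w'] at z
  have := s.nu_ne
  have two := s.two
  have : s.zi (d.π (g⁻¹ * (g * t * g⁻¹ * t)⁻¹ * g)) = 0 := by grind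
  rw [zi_eq_zero (d.π_mem w')] at this
  have k := d.π_cj g⁻¹ (g * t * g⁻¹ * t)⁻¹
  rw [← d.π_inv hw, ← conj_eq_one_iff (a := g⁻¹), ← k, inv_inv, this]

theorem H_dec {n : G} (hn : n ∈ d.H) : ∃ x, ∃ m ∈ d.H ⊓ C[s.Q], n = s.ι x * m := by
  obtain ⟨j, j1, j2⟩ := s.exists_w
  have k := d.H_cj (pow_mem s.ρB j) hn
  obtain ⟨v, hv, b, hb, o, ho, e⟩ := d.f_ker (mul_mem k (inv_mem hn)) (by
    rw [d.f_mul k (inv_mem hn), d.f_inv hn, f, d.ct_cj (pow_mem s.ρC j), cc (d.κW j1) hn.2.2]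
    exact s.add_self _)
  obtain ⟨x, m, hm, rfl⟩ := s.mem_QC.1 (s.ca hn.1 j1 j2 (e ▸ mul_mem (mul_mem (mem_sup_right (d.cQ hv))
    (sup_le (s.EcQ.trans le_sup_right) le_sup_left hb)) (mem_sup_right (s.OQ ho))))
  exact ⟨x, m, ⟨by simpa using mul_mem (inv_mem (d.CH (s.Q_le_N0 (s.ι_mem x)) (s.TC (s.QT (s.ι_mem x))))) hn, hm⟩, rfl⟩

omit [Finite G] [Finite F] in
theorem mem_WE {g : G} : g ∈ d.W ⊔ s.E ↔ g ∈ d.W ∨ g * t ∈ d.W := by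
  rw [mem_sup_of_le_normalizer (s.ET.trans (s.TB.trans d.BN))]
  constructor
  · rintro ⟨w, hw, e, he, rfl⟩
    exact (d.e2.eq e he).imp (fun e => by rwa [e, mul_one]) fun e => by rwa [e, mul_assoc, d.e2.tt, mul_one]
  · rintro (h | h)
    · exact ⟨g, h, 1, one_mem _, mul_one g⟩
    · exact ⟨_, h, t, d.e2.mem, by rw [mul_assoc, d.e2.tt, mul_one]⟩

end RR.Wd

/-- the group `P'` -/
structure RR.Md (r : RR s) (t : G) extends r.Wd t where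
  P : Subgroup G
  inv : ∀ w ∈ W, t * w * t⁻¹ = w⁻¹
  pP : IsPGroup 2 P
  PQ : P ≤ C[s.Q]
  BP : s.B ≤ N[P]
  WP : W ≤ P
  PH : P ≤ toWd.H
  on : ∀ c, τ c = c → ∃ p ∈ P, toWd.f p = c
  ker : ∀ p ∈ P, toWd.f p = 0 → p ∈ W
  mx : ∀ n ∈ toWd.H, P2 n → ∃ x, ∃ p ∈ P, n = s.ι x * p ∨ n = s.ι x * (p * t)

theorem RR.Wd.exists_Md {r : RR s} (d : r.Wd t) (h : ¬ IsSylowIn 2 (d.W ⊔ s.T) ⊤) : Nonempty (r.Md t) := by
  obtain ⟨iv, g, gQ, gW, hw, n⟩ := d.exists_g h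
  have ht := d.e2
  have two := s.two
  have EH : s.E ≤ d.H := fun e he => d.CH (s.cQ_le_N0 (s.EcQ he)) (mem_sup_left he)
  have OH : s.O ≤ d.H := fun o ho => d.CH (s.cQ_le_N0 (s.OQ ho)) (mem_sup_right (s.OU ho))
  have on : ∀ c, τ c = c → ∃ n ∈ d.H ⊓ C[s.Q], d.f n = c := fun c hc => by
    obtain ⟨n, hn, rfl⟩ := d.f_on gQ gW hw n hc
    obtain ⟨x, m, hm, rfl⟩ := d.H_dec hn
    have := s.TC (s.QT (s.ι_mem x))
    exact ⟨m, hm, by rw [d.f_mul (d.CH (s.Q_le_N0 (s.ι_mem x)) this) hm.1, d.f_C this, zero_add]⟩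
  have BH : ∀ b ∈ s.B, ∀ n ∈ d.H ⊓ C[s.Q], b * n * b⁻¹ ∈ d.H ⊓ C[s.Q] := fun b hb n hn =>
    ⟨d.H_cj hb hn.1, cj_c hb.2 hn.2⟩
  have ker : ∀ n ∈ d.H ⊓ C[s.Q], d.f n = 0 → ∃ k ∈ d.W ⊔ s.E, ∃ o ∈ s.O, n = k * o := fun n hn z => by
    obtain ⟨v, hv, b, hb, o, ho, rfl⟩ := d.f_ker hn.1 z
    have := s.mem_A_of_p2 (g := b) (by simpa [mul_assoc] using mul_mem (mul_mem (inv_mem (d.cQ hv)) hn.2) (inv_mem (s.OQ ho)))
      (s.TC (s.B0T hb)) (s.p2_B0 hb)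
    exact ⟨_, mul_mem (mem_sup_left hv) (sup_le le_sup_right (d.ZW.trans le_sup_left) this), o, ho, rfl⟩
  have pK : IsPGroup 2 ↥(d.W ⊔ s.E) := (Su.p2_VT d.BN d.p2).to_le (sup_le_sup_left s.ET _)
  have KH : d.W ⊔ s.E ≤ d.H ⊓ C[s.Q] := sup_le (le_inf d.WH d.cQ) (le_inf EH s.EcQ)
  have ν1 : s.l * τ s.l + 1 ≠ 0 := fun e => s.nu_ne (by grind)
  have dv : ∀ m ∈ d.H, d.f (s.ρ * m * s.ρ⁻¹ * m⁻¹) = (s.l * τ s.l + 1) * d.f m := fun m hm => by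
    rw [d.f_mul (d.H_cj s.ρB hm) (inv_mem hm), d.f_ρ hm, d.f_inv hm]; ring
  have kd : ∀ c, τ c = c → τ (c / (s.l * τ s.l + 1)) = c / (s.l * τ s.l + 1) := fun c hc => by simp [hc, mul_comm]
  obtain ⟨M, pM, hM, OM, dec⟩ := stab two pK KH (le_inf OH s.OQ) s.Oodd
    (le_centralizer_iff.1 (sup_le (le_centralizer_iff.1 d.OW) (le_centralizer_iff.1 s.OcE))) s.OO s.ρO
    (mem_n (BH _ s.ρB)) (f := d.f) (fun x hx y hy => d.f_mul hx.1 hy.1)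
    (fun o ho => d.f_C (mem_sup_right (s.OU ho))) ker fun g hg => by
      obtain ⟨m, hm, e⟩ := on _ (kd _ (d.f_k hg.1))
      exact ⟨m, hm, by rw [dv m hm.1, e, mul_div_cancel₀ _ ν1]⟩
  have MH : ∀ m ∈ M, m ∈ d.H ⊓ C[s.Q] := fun m hm => ((hM m).1 hm).1
  have KM : d.W ⊔ s.E ≤ M := fun k hk => (hM k).2 ⟨KH hk, p2_of_mem pK hk⟩
  have BM : s.B ≤ N[M] := fun b hb => mem_n fun m hm => (hM _).2 ⟨BH b hb m (MH m hm), ((hM m).1 hm).2.conj b⟩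
  have onM : ∀ c, τ c = c → ∃ m ∈ M, d.f m = c := fun c hc => by
    obtain ⟨n, hn, rfl⟩ := on c hc
    obtain ⟨m, hm, o, ho, rfl⟩ := dec n hn
    exact ⟨m, hm, by rw [d.f_mul (MH m hm).1 (OH ho), d.f_C (mem_sup_right (s.OU ho)), add_zero]⟩
  have kerM : ∀ m ∈ M, d.f m = 0 → m ∈ d.W ⊔ s.E := fun m hm z => by
    obtain ⟨k, hk, o, ho, rfl⟩ := ker m (MH m hm) z
    rwa [P2.eq_one (x := o) (p2_of_mem pM (by simpa using mul_mem (inv_mem (KM hk)) hm))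
      (odd_order_of_mem s.Oodd ho), mul_one]
  have ty : ∀ w ∈ d.W, s.Ty (w * t) := fun w hw => by
    obtain ⟨m, hm, e⟩ := onM _ (s.zi_spec (d.π_mem hw)).1
    have w1 := (MH m hm).1.2.2
    obtain ⟨v, hv, k⟩ := d.ker_sq (mul_mem hw (inv_mem w1)) (by
      rw [d.π_mul hw (inv_mem w1), d.π_inv w1, ← (s.zi_spec (d.π_mem w1)).2, show s.zi (d.π _) = _ from e,
        (s.zi_spec (d.π_mem hw)).2, s.sqZ (d.π_mem hw)])
    convert ht.ty (v * m) using 1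
    have a := iv _ (inv_mem hv)
    have b := d.cw w1 hv
    calc w * t = v * v * (m * t * m⁻¹ * t) * t := by rw [k]; group
      _ = v * (m * t * m⁻¹ * t * v⁻¹⁻¹) * t := by rw [inv_inv, b]; group
      _ = _ := by rw [← a]; simp [mul_assoc, ht.inv, ht.tt, ht.tt']
  have sqM : ∀ m ∈ M, m * m ∈ d.W := fun m hm =>
    (d.mem_WE.1 (kerM _ (mul_mem hm hm) (by rw [d.f_mul (MH m hm).1 (MH m hm).1, s.add_self]))).resolve_right fun k =>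
      (ty _ k).not_sq s (y := m) (by rw [mul_assoc, ht.tt, mul_one])
  let V : AddSubgroup F :=
    { carrier := {a | a = 0 ∨ a = 1}
      zero_mem' := .inl rfl
      add_mem' := fun {a b} (ha : a = 0 ∨ a = 1) (hb : b = 0 ∨ b = 1) => show a + b = 0 ∨ a + b = 1 by grind
      neg_mem' := fun {a} (ha : a = 0 ∨ a = 1) => show -a = 0 ∨ -a = 1 by grind }
  classical
  obtain ⟨ε, ε1, ε2, ε3, ε4⟩ := ext_hom two KM (f₀ := fun g => if g ∈ d.W then 0 else 1)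
    (fun x hx y hy => by
      by_cases a : x ∈ d.W <;> by_cases b : y ∈ d.W
      · simp [a, b, mul_mem a b]
      · simp [a, b, mul_mem_cancel_left a]
      · simp [a, b, mul_mem_cancel_right b]
      · have := mul_mem ((d.mem_WE.1 hx).resolve_left a) (cj d.tN ((d.mem_WE.1 hy).resolve_left b))
        rw [show x * t * (t * (y * t) * t⁻¹) = x * (t * t) * y by group, ht.tt, mul_one] at this
        simp [a, b, this, s.add_self])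
    (fun x hx => ⟨mem_sup_left (sqM x hx), if_pos (sqM x hx)⟩) (V := V)
    (fun x _ => show _ ∨ _ by split_ifs <;> simp) (BM s.ρB)
    (mem_n fun k hk => d.mem_WE.2 ((d.mem_WE.1 hk).imp (cj (d.BN s.ρB)) fun k => by
      have := cj (d.BN s.ρB) k
      rwa [← conj_mul, ht.tc s.ρC] at this)) s.ρodd (c := 1) (one_pow _) (fun _ h => by rwa [one_mul])
    fun x _ => by simp only [← mem_normalizer_iff.1 (d.BN s.ρB) x, one_mul]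
  have εW : ∀ w ∈ d.W, ε w = 0 := fun w hw => by rw [ε2 w (mem_sup_left hw), if_pos hw]
  have εt : ε t = 1 := by rw [ε2 t (mem_sup_right ht.mem), if_neg d.tW]
  have εi : ∀ m ∈ M, ε m⁻¹ = ε m := fun m hm => by
    have := ε1 m hm _ (inv_mem hm)
    rw [mul_inv_cancel, εW 1 (one_mem _)] at this
    grind
  have tM := KM (mem_sup_right ht.mem)
  let P : Subgroup G :=
    { carrier := {m | m ∈ M ∧ ε m = 0}
      one_mem' := ⟨one_mem _, εW 1 (one_mem _)⟩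
      mul_mem' := by rintro a b ⟨ha, a1⟩ ⟨hb, b1⟩; exact ⟨mul_mem ha hb, by rw [ε1 a ha b hb, a1, b1, add_zero]⟩
      inv_mem' := by rintro a ⟨ha, a1⟩; exact ⟨inv_mem ha, by rw [εi a ha, a1]⟩ }
  have mP : ∀ m ∈ M, m ∈ P ∨ m * t ∈ P := fun m hm => (ε3 m hm).imp (⟨hm, ·⟩) fun e =>
    ⟨mul_mem hm tM, by rw [ε1 m hm t tM, e, εt, s.add_self]⟩
  have kerP : ∀ p ∈ P, d.f p = 0 → p ∈ d.W := fun p hp z => by
    have := hp.2
    rw [ε2 p (kerM p hp.1 z)] at this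
    by_contra k
    simp [k] at this
  have ερ : ∀ i, ∀ m ∈ M, ε (s.ρ ^ i * m * (s.ρ ^ i)⁻¹) = ε m := fun i m hm => by
    induction i with
    | zero => simp
    | succ i ih =>
      rw [show s.ρ ^ (i + 1) * m * (s.ρ ^ (i + 1))⁻¹ = s.ρ * (s.ρ ^ i * m * (s.ρ ^ i)⁻¹) * s.ρ⁻¹ by
        rw [pow_succ']; group, ε4 _ (cj (pow_mem (BM s.ρB) i) hm), one_mul, ih]
  refine ⟨{ d with
    P := P
    inv := iv
    pP := pM.to_le fun _ h => h.1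
    PQ := fun p hp => (MH p hp.1).2
    BP := fun b hb => mem_n fun p hp => ⟨cj (BM hb) hp.1, ?_⟩
    WP := fun w hw => ⟨KM (mem_sup_left hw), εW w hw⟩
    PH := fun p hp => (MH p hp.1).1
    on := fun c hc => ?_
    ker := kerP
    mx := fun n hn n2 => ?_ }⟩
  · obtain ⟨m, hm, e⟩ := onM _ (kd _ (d.f_k (MH p hp.1).1))
    have m1 := cj (BM s.ρB) hm
    have c : s.ρ * m * s.ρ⁻¹ * m⁻¹ ∈ P := ⟨mul_mem m1 (inv_mem hm), by
      rw [ε1 _ m1 _ (inv_mem hm), ε4 m hm, εi m hm, one_mul, s.add_self]⟩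
    have k := kerP _ (mul_mem (inv_mem c) hp) (by
      rw [d.f_mul (inv_mem (MH _ c.1).1) (MH p hp.1).1, d.f_inv (MH _ c.1).1, dv m (MH m hm).1, e, mul_div_cancel₀ _ ν1,
        s.add_self])
    obtain ⟨i, hi⟩ := s.bor' hb
    have m2 := cj (BM hb) hm
    have := hi _ (MH _ m2).2 (le_centralizer_iff.1 OM (MH _ m2))
    have m3 := cj (pow_mem (BM s.ρB) i) m2
    rw [show b * p * b⁻¹ = b * s.ρ * b⁻¹ * (b * m * b⁻¹) * (b * s.ρ * b⁻¹)⁻¹ * (b * m * b⁻¹)⁻¹ *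
      (b * ((s.ρ * m * s.ρ⁻¹ * m⁻¹)⁻¹ * p) * b⁻¹) by group, this,
      ε1 _ (mul_mem m3 (inv_mem m2)) _ (KM (mem_sup_left (cj (d.BN hb) k))), εW _ (cj (d.BN hb) k),
      ε1 _ m3 _ (inv_mem m2), ερ i _ m2, εi _ m2, s.add_self, add_zero]
  · obtain ⟨m, hm, rfl⟩ := onM c hc
    rcases mP m hm with k | k
    · exact ⟨m, k, rfl⟩
    · exact ⟨_, k, by rw [d.f_mul (MH m hm).1 (EH ht.mem), d.f_C ht.tB.1, add_zero]⟩
  · obtain ⟨x, m', hm', rfl⟩ := d.H_dec hn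
    obtain ⟨m, hm, o, ho, rfl⟩ := dec m' hm'
    have c := mem_centralizer_iff.1 (MH m hm).2 _ (s.ι_mem x)
    rw [← mul_assoc] at n2
    rw [P2.eq_one_of_mul ((p2_of_mem s.pQ (s.ι_mem x)).mul (p2_of_mem pM hm) c) n2 (by
      rw [mul_assoc, mem_centralizer_iff.1 (OM ho) _ (MH m hm), ← mul_assoc,
        mem_centralizer_iff.1 (s.OQ ho) _ (s.ι_mem x), mul_assoc]) (odd_order_of_mem s.Oodd ho), mul_one]
    rcases mP m hm with k | k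
    · exact ⟨x, m, k, .inl rfl⟩
    · exact ⟨x, _, k, .inr (by rw [mul_assoc, ht.tt, mul_one])⟩

end Cfsg.Lib.U3F
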