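import Cfsg.Agent.Lib.U3F.Four3

/-!
# Case IV, end of step 2: `W = Y` and coordinates on `P'`
-/

set_option autoImplicit false

namespace Cfsg.Lib.U3F
open Subgroup Cfsg.Lib Cfsg.Lib.FT Cfsg.Lib.TwoL Cfsg.Lib.U3S

variable {G : Type*} [Group G] {F : Type*} [Field F] {τ : F ≃+* F} [Fact (Function.Involutive τ)] {s : Su G τ}
  {t : G} [Finite G] [Finite F]

omit [Finite G] in
/-- commutator pairings -/
theorem Su.hua_cm {X X' : Subgroup G} {f f' : G → F} (h : s.Co X f) (h' : s.Co X' f') (hX : X ≤ C[s.Z])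
    (hX' : X' ≤ C[s.Z]) (dZ : ∀ x ∈ X, ∀ y ∈ X', x * y * x⁻¹ * y⁻¹ ∈ s.Z)
    (d0 : ∀ x ∈ X, ∀ y ∈ X', f x = 0 ∨ f' y = 0 → x * y * x⁻¹ * y⁻¹ = 1) :
    ∃ c, τ c = c ∧ ∀ x ∈ X, ∀ y ∈ X', s.zi (x * y * x⁻¹ * y⁻¹) ^ 2 = f x * f' y * c ^ 2 :=
  Su.hua_grp h h' (D := fun x y => x * y * x⁻¹ * y⁻¹) dZ
    (fun a ha b hb y hy => by
      rw [mem_centralizer_iff.1 (s.QcZ (s.ZQ (dZ b hb y hy))) _ (dZ a ha y hy), ← cc (hX ha) (dZ b hb y hy)]; group)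
    (fun x hx a ha b hb => by rw [← cc (hX' ha) (dZ x hx b hb)]; group) d0 fun x y => by group

omit [Finite G] in
theorem Su.hua_ab {X : Subgroup G} {f : G → F} (h : s.Co X f) (hX : X ≤ C[s.Z])
    (dZ : ∀ x ∈ X, ∀ y ∈ X, x * y * x⁻¹ * y⁻¹ ∈ s.Z) (d0 : ∀ x ∈ X, f x = 0 → x ∈ C[X]) : X ≤ C[X] := by
  obtain ⟨c, -, k⟩ := Su.hua_cm h h hX hX dZ fun x hx y hy e => e.elim
    (fun e => by rw [cc (d0 x hx e) hy, mul_inv_cancel]) fun e => by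
      rw [mem_centralizer_iff.1 (d0 y hy e) x hx]; group
  obtain ⟨x, hx, e⟩ := h.on 1 (map_one τ)
  have := k x hx x hx
  rw [e, mul_inv_cancel_right, mul_inv_cancel, RR.Wd.zi_one] at this
  refine fun a ha => mem_c fun b hb => ?_
  have := k a ha b hb
  rw [show c ^ 2 = 0 by grind, mul_zero, pow_eq_zero_iff two_ne_zero, RR.Wd.zi_eq_zero (dZ a ha b hb)] at this
  exact mul_inv_eq_one.1 this

section bz
omit [Finite G] [Finite F]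

/-- the commutator form -/
noncomputable def Su.bz (s : Su G τ) (a b : G) : F := s.zi (a * b * a⁻¹ * b⁻¹)

/-- groups centralizing `Z` with squares in `Z` -/
structure Su.Cl (s : Su G τ) (X : Subgroup G) : Prop where
  cZ : X ≤ C[s.Z]
  sq : ∀ x ∈ X, x * x ∈ s.Z

variable {X : Subgroup G} (h : s.Cl X) {a b c : G}
include h

theorem Su.Cl.cm (ha : a ∈ X) (hb : b ∈ X) : a * b * a⁻¹ * b⁻¹ ∈ s.Z := comm_mem_of_sq h.sq ha hb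

theorem Su.Cl.bz_l (ha : a ∈ X) (hb : b ∈ X) (hc : c ∈ X) : s.bz (a * b) c = s.bz a c + s.bz b c := by
  rw [Su.bz, Su.bz, Su.bz, add_comm, ← s.zi_mul (h.cm hb hc) (h.cm ha hc), ← cc (h.cZ ha) (h.cm hb hc)]
  congr 1; group

theorem Su.Cl.bz_r (ha : a ∈ X) (hb : b ∈ X) (hc : c ∈ X) : s.bz a (b * c) = s.bz a b + s.bz a c := by
  rw [Su.bz, Su.bz, Su.bz, ← s.zi_mul (h.cm ha hb) (h.cm ha hc), ← cc (h.cZ hb) (h.cm ha hc)]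
  congr 1; group

theorem Su.Cl.bz_symm (ha : a ∈ X) (hb : b ∈ X) : s.bz a b = s.bz b a := by
  rw [Su.bz, Su.bz, ← inv_of_sq (s.sqZ (h.cm ha hb))]
  congr 1; group

theorem Su.Cl.bz_k (ha : a ∈ X) (hb : b ∈ X) : τ (s.bz a b) = s.bz a b := (s.zi_spec (h.cm ha hb)).1

theorem Su.Cl.bz_zero (ha : a ∈ X) (hb : b ∈ X) : s.bz a b = 0 ↔ a * b = b * a := by
  rw [Su.bz, RR.Wd.zi_eq_zero (h.cm ha hb), mul_inv_eq_one, mul_inv_eq_iff_eq_mul]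

end bz

namespace RR.Md
variable {r : RR s} (d : r.Md t)

theorem coP : s.Co d.P d.f :=
  ⟨d.BP s.ρB, fun _ hx _ hy => d.f_mul (d.PH hx) (d.PH hy), fun _ hx => d.f_k (d.PH hx), d.on,
    fun _ hx => d.f_ρ (d.PH hx)⟩

theorem coW : s.Co d.W fun w => s.zi (d.π w) :=
  ⟨d.BN s.ρB, fun _ hx _ hy => by rw [d.π_mul hx hy, s.zi_mul (d.π_mem hx) (d.π_mem hy)],
    fun _ hx => (s.zi_spec (d.π_mem hx)).1,
    fun c hc => let ⟨w, hw, e⟩ := d.π_on (s.zc_mem c); ⟨w, hw, by rw [e, s.zi_zc hc]⟩, fun _ hx => d.π_ρ hx⟩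

theorem PZ : d.P ≤ C[s.Z] := d.PQ.trans (centralizer_le s.ZQ)

theorem sqW {p : G} (hp : p ∈ d.P) : p * p ∈ d.W :=
  d.ker _ (mul_mem hp hp) (by rw [d.coP.mul p hp p hp, s.add_self])

theorem δ_mem {p w : G} (hp : p ∈ d.P) (hw : w ∈ d.W) : p * w * p⁻¹ * w⁻¹ ∈ d.W :=
  mul_mem (cj (d.PH hp).2.1 hw) (inv_mem hw)

theorem δ_mul {p a b : G} (hp : p ∈ d.P) (ha : a ∈ d.W) (hb : b ∈ d.W) :
    p * (a * b) * p⁻¹ * (a * b)⁻¹ = p * a * p⁻¹ * a⁻¹ * (p * b * p⁻¹ * b⁻¹) := by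
  conv_rhs => rw [← cc (d.ab ha) (d.δ_mem hp hb)]
  group

theorem π_δ {p w : G} (hp : p ∈ d.P) (hw : w ∈ d.W) : d.π (p * w * p⁻¹ * w⁻¹) = 1 := by
  rw [d.π_mul (cj (d.PH hp).2.1 hw) (inv_mem hw), d.π_cj, cc (d.PZ hp) (d.π_mem hw), d.π_inv hw, s.sqZ (d.π_mem hw)]

theorem nab : ¬ d.P ≤ C[d.W] := fun h => by
  have ab := Su.hua_ab d.coP d.PZ (fun a ha b hb => by
    have m := comm_mem_of_sq (fun _ => d.sqW) ha hb
    refine d.om m ?_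
    conv_lhs => lhs; rw [← cc (h ha) m]
    rw [show a * (a * b * a⁻¹ * b⁻¹) * a⁻¹ * (a * b * a⁻¹ * b⁻¹) = a * a * (b * (a * a)⁻¹ * b⁻¹) by group,
      cc (h hb) (inv_mem (d.sqW ha)), mul_inv_cancel]) fun x hx e => le_centralizer_iff.1 h (d.ker x hx e)
  obtain ⟨p, hp, e⟩ := d.on 1 (map_one τ)
  rw [d.f_W (d.max _ d.pP d.WP d.PQ ab d.BP hp)] at e
  exact zero_ne_one e

theorem bil {j : ℕ} (hj : ∀ p ∈ d.P, ∀ w ∈ d.W, (p * w * p⁻¹ * w⁻¹) ^ 2 ^ (j + 1) = 1) :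
    (∀ p ∈ d.P, ∀ w ∈ d.W, (p * w * p⁻¹ * w⁻¹) ^ 2 ^ j ∈ s.Z) ∧ ∃ c, τ c = c ∧ ∀ p ∈ d.P, ∀ w ∈ d.W,
      s.zi ((p * w * p⁻¹ * w⁻¹) ^ 2 ^ j) ^ 2 = d.f p * s.zi (d.π w) * c ^ 2 := by
  have dZ : ∀ p ∈ d.P, ∀ w ∈ d.W, (p * w * p⁻¹ * w⁻¹) ^ 2 ^ j ∈ s.Z := fun p hp w hw =>
    d.om (pow_mem (d.δ_mem hp hw) _) (by rw [← pow_two, ← pow_mul, ← pow_succ, hj p hp w hw])
  refine ⟨dZ, Su.hua_grp d.coP d.coW (D := fun p w => (p * w * p⁻¹ * w⁻¹) ^ 2 ^ j) dZ (fun a ha b hb y hy => ?_)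
    (fun p hp a ha b hb => ?_) (fun p hp w hw e => ?_) fun x y => by rw [← conj_pow]; congr 1; group⟩
  · rw [← cc (d.PZ ha) (dZ b hb y hy), ← conj_pow,
      ← Commute.mul_pow (d.cw (d.δ_mem ha hy) (cj (d.PH ha).2.1 (d.δ_mem hb hy))),
      d.cw (d.δ_mem ha hy) (cj (d.PH ha).2.1 (d.δ_mem hb hy))]
    congr 1; group
  · rw [d.δ_mul hp ha hb, Commute.mul_pow (d.cw (d.δ_mem hp ha) (d.δ_mem hp hb))]
  · rcases e with e | e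
    · rw [cc (d.ab (d.ker p hp e)) hw, mul_inv_cancel, one_pow]
    · obtain ⟨v, hv, rfl⟩ := d.ker_sq hw ((Wd.zi_eq_zero (d.π_mem hw)).1 e)
      rw [d.δ_mul hp hv hv, ← pow_two, ← pow_mul, ← pow_succ', hj p hp v hv]

theorem k_eq : d.k = 0 ∧ ∀ p ∈ d.P, d.π (p * p) = 1 := by
  have ht := d.e2
  obtain ⟨j, ⟨p₀, hp₀, w₀, hw₀, j1⟩, j2⟩ := exists_last'
    (P := fun j => ∃ p ∈ d.P, ∃ w ∈ d.W, (p * w * p⁻¹ * w⁻¹) ^ 2 ^ j ≠ 1)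
    (by
      by_contra! k
      exact d.nab fun p hp => mem_c fun w hw => mul_inv_eq_one.1 (by simpa using k p hp w hw))
    ⟨d.k + 1, fun ⟨p, hp, w, hw, k⟩ => k (d.π_δ hp hw)⟩
  push Not at j2
  obtain ⟨dZ, c, -, hc⟩ := d.bil j2
  have c0 : c ≠ 0 := fun e => j1 (by
    have := hc _ hp₀ _ hw₀
    rwa [e, zero_pow two_ne_zero, mul_zero, pow_eq_zero_iff two_ne_zero, Wd.zi_eq_zero (dZ _ hp₀ _ hw₀)] at this)
  have sq : ∀ p ∈ d.P, d.π (p * p) = 1 := fun p hp => by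
    have := hc p hp _ (d.sqW hp)
    rw [show p * (p * p) * p⁻¹ * (p * p)⁻¹ = 1 by group, one_pow, Wd.zi_one, zero_pow two_ne_zero, eq_comm,
      mul_eq_zero, mul_eq_zero, Wd.zi_eq_zero (d.π_mem (d.sqW hp))] at this
    rcases this with (e | e) | e
    · exact d.π_sq (d.ker p hp e)
    · exact e
    · exact (pow_ne_zero 2 c0 e).elim
  refine ⟨?_, sq⟩
  obtain ⟨p, hp, e⟩ := d.on 1 (map_one τ)
  have ππ : ∀ v : G, (v * v) ^ 2 ^ d.k = d.π v := fun v => by rw [← pow_two, ← pow_mul, ← pow_succ']; rfl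
  have cp := (d.PH hp).2.2
  have k1 : (p * (p * t * p⁻¹ * t) * p⁻¹ * (p * t * p⁻¹ * t)⁻¹) ^ 2 ^ d.k ≠ 1 := fun k => by
    have a := d.inv _ (inv_mem (d.sqW hp))
    have b : p * p * (p * p) =
        p * (p * t * p⁻¹ * t) * p⁻¹ * (p * t * p⁻¹ * t)⁻¹ * (p * t * p⁻¹ * t * (p * t * p⁻¹ * t)) := by
      rw [inv_inv] at a
      conv_lhs => rhs; rw [← a]
      simp [mul_assoc, ht.inv, ht.tt']
    have := ππ (p * p)
    rw [b, Commute.mul_pow (d.cw (d.δ_mem hp cp) (mul_mem cp cp)), k, ππ, one_mul, sq p hp] at this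
    rw [Wd.f, this, Wd.zi_one] at e
    exact zero_ne_one e
  obtain rfl : j = d.k := by
    rcases lt_trichotomy j d.k with h | h | h
    · obtain ⟨n, h⟩ := Nat.exists_eq_add_of_le h
      exact (k1 (by rw [h, Nat.succ_eq_add_one, pow_add, pow_mul, j2 p hp _ cp, one_pow])).elim
    · exact h
    · obtain ⟨n, h⟩ := Nat.exists_eq_add_of_le h
      exact (j1 (by rw [h, Nat.succ_eq_add_one, pow_add, pow_mul, ← Wd.π, d.π_δ hp₀ hw₀, one_pow])).elim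
  by_contra k
  have key : ∀ b, τ b = b → b ≠ 0 → b = c ^ 2 := fun b hb b0 => by
    obtain ⟨w, hw, e'⟩ := d.coW.on b hb
    obtain ⟨v, hv, ev⟩ := d.ker_sq (d.δ_mem hp hw) (d.π_δ hp hw)
    have h1 := hc p hp w hw
    have h2 := hc p hp v hv
    have vv := mul_mem hv hv
    have z : p * v * p⁻¹ * v⁻¹ * (v * v) ∈ s.Z := d.om (mul_mem (d.δ_mem hp hv) vv) (by
      rw [mul_assoc, ← mul_assoc (v * v), d.cw vv (d.δ_mem hp hv), mul_assoc _ (v * v), ← mul_assoc,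
        ← d.δ_mul hp hv hv, ev,
        show p * (p * w * p⁻¹ * w⁻¹) * p⁻¹ * (p * w * p⁻¹ * w⁻¹)⁻¹ * (p * w * p⁻¹ * w⁻¹ * (p * w * p⁻¹ * w⁻¹)) =
          p * p * w * (p * p)⁻¹ * w⁻¹ * (w * (p * w⁻¹ * p⁻¹ * w⁻¹⁻¹) * w⁻¹ * (p * w * p⁻¹ * w⁻¹)) by group,
        cc (d.ab (d.sqW hp)) hw, cc (d.ab hw) (d.δ_mem hp (inv_mem hw)), ← d.δ_mul hp (inv_mem hw) hw]
      group)
    have z' : (p * v * p⁻¹ * v⁻¹ * (v * v)) ^ 2 ^ d.k = 1 := by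
      obtain ⟨n, hn⟩ := Nat.exists_eq_succ_of_ne_zero k
      rw [hn, Nat.succ_eq_add_one, pow_succ', pow_mul, pow_two, s.sqZ z, one_pow]
    rw [Commute.mul_pow (d.cw (d.δ_mem hp hv) vv), ππ, mul_eq_one_iff_eq_inv, inv_of_sq (s.sqZ (d.π_mem hv))] at z'
    rw [← ev, ππ, e, e'] at h1
    rw [z', e] at h2
    grind
  obtain ⟨a, a1, a2, a3⟩ := s.four
  exact a3 ((key a a1 a2).trans (key 1 (map_one τ) one_ne_zero).symm)

theorem π_eq (w : G) : d.π w = w * w := by rw [Wd.π, d.k_eq.1, zero_add, pow_one, pow_two]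

theorem W_eq : d.W = r.Y := le_antisymm (fun w hw => d.cW' hw (by
  have := d.π_mem hw
  have a := d.inv _ (inv_mem hw)
  rw [inv_inv, d.e2.inv] at a
  rwa [d.π_eq, ← a, ← mul_assoc, ← mul_assoc, a] at this)) d.YW

end RR.Md

/-- the final shape of `P'` -/
structure RR.Pd (r : RR s) (t : G) where
  P : Subgroup G
  X : G → F
  Yc : G → F
  c : F
  e2 : s.E2 t
  k0 : r.k0 = r.mu t
  pP : IsPGroup 2 P
  PQ : P ≤ C[s.Q]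
  BP : s.B ≤ N[P]
  YP : r.Y ≤ P
  X_mul : ∀ x ∈ P, ∀ y ∈ P, X (x * y) = X x + X y
  Yc_mul : ∀ x ∈ P, ∀ y ∈ P, Yc (x * y) = Yc x + Yc y
  X_k : ∀ x ∈ P, τ (X x) = X x
  Yc_k : ∀ x ∈ P, τ (Yc x) = Yc x
  X_Y : ∀ y ∈ r.Y, X y = 0
  Yc_Y : ∀ y ∈ r.Y, Yc y = r.lam y
  ker : ∀ p ∈ P, X p = 0 → p ∈ r.Y
  on : ∀ a b, τ a = a → τ b = b → ∃ p ∈ P, X p = a ∧ Yc p = b
  sq : ∀ p ∈ P, p * p ∈ s.Z
  cm : ∀ p ∈ P, ∀ p' ∈ P, s.bz p p' ^ 2 = c * (X p * Yc p' + X p' * Yc p)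
  ct : ∀ p ∈ P, p * t * p⁻¹ * t ∈ r.Y ∧ r.lam (p * t * p⁻¹ * t) * r.mu t = X p
  mx : ∀ n ∈ s.N0, n ∈ N[r.Y] → n * t * n⁻¹ * t ∈ r.Y → P2 n → ∃ x, ∃ p ∈ P, n = s.ι x * p ∨ n = s.ι x * (p * t)

theorem RR.Md.exists_Pd {r : RR s} (d : r.Md t) : Nonempty (r.Pd t) := by
  have two := s.two
  have W := d.W_eq
  have YP : r.Y ≤ d.P := W ▸ d.WP
  have sq : ∀ p ∈ d.P, p * p ∈ s.Z := fun p hp => d.om (d.sqW hp) (by rw [← d.π_eq, d.k_eq.2 p hp])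
  have mk := r.mu_k t (r.ER d.e2.mem)
  have πY : ∀ y ∈ r.Y, s.zi (d.π y) = r.lam y * r.mu t := fun y hy => by
    rw [d.π_eq, r.sqY4 d.k0 hy, s.zi_zc (by rw [map_mul, mk, r.lam_k y hy.1])]
  let V : AddSubgroup F :=
    { carrier := {a | τ a = a}
      zero_mem' := map_zero τ
      add_mem' := fun {a b} (ha : τ a = a) (hb : τ b = b) => show τ (a + b) = a + b by rw [map_add, ha, hb]
      neg_mem' := fun {a} (ha : τ a = a) => show τ (-a) = -a by rw [map_neg, ha] }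
  obtain ⟨Y, h1, h2, h3, h4⟩ := ext_hom s.two YP (f₀ := r.lam) (fun x hx y hy => r.lam_mul x hx.1 y hy.1)
    (fun x hx => ⟨r.ZY (sq x hx), r.lam_Z (sq x hx)⟩) (V := V) (fun y hy => r.lam_k y hy.1) (d.BP s.ρB) r.ρ_nY s.ρodd
    (c := s.l * τ s.l) (by rw [mul_pow, ← map_pow, s.l_pow, map_one, one_mul])
    (fun v (hv : τ v = v) => show τ (s.l * τ s.l * v) = s.l * τ s.l * v by simp [hv, mul_comm])
    fun x hx => r.ρlam x hx.1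
  have fY : ∀ y ∈ r.Y, d.f y = 0 := fun y hy => d.f_W (d.YW hy)
  have dec : ∀ p ∈ d.P, ∀ b, τ b = b → ∃ y ∈ r.Y, d.f (p * y) = d.f p ∧ Y (p * y) = b ∧ r.lam y = Y p + b :=
    fun p hp b hb => by
      obtain ⟨y, hy, e⟩ := r.exists_Y (c := Y p + b) (by rw [map_add, hb, show τ (Y p) = Y p from h3 p hp])
      exact ⟨y, hy, by rw [d.coP.mul p hp y (YP hy), fY y hy, add_zero], by
        rw [h1 p hp y (YP hy), h2 y hy, e]; grind, e⟩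
  have on : ∀ a b, τ a = a → τ b = b → ∃ p ∈ d.P, d.f p = a ∧ Y p = b := fun a b ha hb => by
    obtain ⟨p, hp, rfl⟩ := d.on a ha
    obtain ⟨y, hy, e1, e2, -⟩ := dec p hp b hb
    exact ⟨_, mul_mem hp (YP hy), e1, e2⟩
  have Yi : ∀ p ∈ d.P, Y p⁻¹ = Y p := fun p hp => by
    have := h1 p hp _ (inv_mem hp)
    rw [mul_inv_cancel, h2 1 (one_mem _), r.lam_one] at this
    grind
  let P0 : Subgroup G :=
    { carrier := {p | p ∈ d.P ∧ Y p = 0}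
      one_mem' := ⟨one_mem _, by rw [h2 1 (one_mem _), r.lam_one]⟩
      mul_mem' := by rintro a b ⟨ha, a1⟩ ⟨hb, b1⟩; exact ⟨mul_mem ha hb, by rw [h1 a ha b hb, a1, b1, add_zero]⟩
      inv_mem' := by rintro a ⟨ha, a1⟩; exact ⟨inv_mem ha, by rw [Yi a ha, a1]⟩ }
  have cz := fun a ha b hb => comm_mem_of_sq sq (x := a) (y := b) ha hb
  have ab := Su.hua_ab (X := P0) (f := d.f)
    ⟨mem_n fun p hp => ⟨cj (d.BP s.ρB) hp.1, by rw [h4 p hp.1, hp.2, mul_zero]⟩,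
      fun x hx y hy => d.coP.mul x hx.1 y hy.1, fun x hx => d.coP.k x hx.1,
      fun c hc => let ⟨p, hp, e1, e2⟩ := on c 0 hc (map_zero τ); ⟨p, ⟨hp, e2⟩, e1⟩, fun x hx => d.coP.ρ x hx.1⟩
    (fun p hp => d.PZ hp.1) (fun a ha b hb => cz a ha.1 b hb.1) fun x hx e => by
      have y : x ∈ r.Y := W ▸ d.ker x hx.1 e
      exact mem_centralizer_iff.2 fun p hp => (mem_centralizer_iff.1 (d.PZ hp.1) x
        (r.mem_Z.2 ⟨y.1, (r.mem_Y.1 y).2.1, by rw [← h2 x y, hx.2], (r.mem_Y.1 y).2.2⟩)).symm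
  obtain ⟨-, c, -, hc⟩ := d.bil (j := 0) fun p hp w hw => by simpa [d.π_eq, pow_two] using d.π_δ hp hw
  simp only [pow_zero, pow_one] at hc
  refine ⟨⟨d.P, d.f, Y, r.mu t * c ^ 2, d.e2, d.k0, d.pP, d.PQ, d.BP, YP, d.coP.mul, h1, d.coP.k, h3, fY, h2,
    fun p hp e => W ▸ d.ker p hp e, on, sq, fun p hp p' hp' => ?_,
    fun p hp => ⟨W ▸ (d.PH hp).2.2, (πY _ (W ▸ (d.PH hp).2.2)).symm⟩,
    fun n h1 h2 h3 h4 => d.mx n ⟨h1, W ▸ h2, W ▸ h3⟩ h4⟩⟩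
  obtain ⟨y, hy, e1, e2, e3⟩ := dec p hp 0 (map_zero τ)
  obtain ⟨y', hy', e1', e2', e3'⟩ := dec p' hp' 0 (map_zero τ)
  have m := mul_mem hp (YP hy)
  have m' := mul_mem hp' (YP hy')
  have a := hc _ m _ (d.YW (inv_mem hy'))
  have b := hc _ m' _ (d.YW (inv_mem hy))
  have cl : s.Cl d.P := ⟨d.PZ, sq⟩
  have yi := YP (inv_mem hy)
  have yi' := YP (inv_mem hy')
  have k := (cl.bz_zero m m').2 (mem_centralizer_iff.1 (ab (⟨m', e2'⟩ : _ ∈ P0)) _ (⟨m, e2⟩ : _ ∈ P0))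
  have k' := (cl.bz_zero yi yi').2 (mem_centralizer_iff.1 (r.YY (inv_mem hy')) _ (inv_mem hy))
  rw [πY _ (inv_mem hy'), r.lam_inv hy'.1, e1, e3', ← Su.bz] at a
  rw [πY _ (inv_mem hy), r.lam_inv hy.1, e1', e3, ← Su.bz] at b
  conv_lhs => rw [← mul_inv_cancel_right p y, ← mul_inv_cancel_right p' y', cl.bz_l m yi (mul_mem m' yi'),
    cl.bz_r m m' yi', cl.bz_r yi m' yi', k, k', cl.bz_symm yi m']
  grind

end Cfsg.Lib.U3F
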