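import Cfsg.Agent.Lib.U3F.Four4

/-!
# Case IV, step 3: the groups `R* = Q P'` and `S = P' T`
-/

set_option autoImplicit false

namespace Cfsg.Lib.U3F.RR.Pd
open Subgroup Cfsg.Lib Cfsg.Lib.FT Cfsg.Lib.TwoL Cfsg.Lib.U3S

variable {G : Type*} [Group G] {F : Type*} [Field F] {τ : F ≃+* F} [Fact (Function.Involutive τ)] {s : Su G τ}
  {t : G} [Finite G] [Finite F] {r : RR s} (d : r.Pd t)

/-- `R* = Q P'` -/
abbrev Rs : Subgroup G := s.Q ⊔ d.P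

/-- `S = P' T` -/
abbrev S : Subgroup G := d.P ⊔ s.T

theorem mem_Rs {g : G} : g ∈ d.Rs ↔ ∃ x, ∃ p ∈ d.P, s.ι x * p = g :=
  (mem_sup_of_le_normalizer (d.PQ.trans (c_le_n _))).trans
    ⟨by rintro ⟨_, ⟨x, rfl⟩, h⟩; exact ⟨x, h⟩, fun ⟨x, h⟩ => ⟨_, ⟨x, rfl⟩, h⟩⟩

theorem ZP : s.Z ≤ d.P := r.ZY.trans d.YP

theorem PR : d.P ≤ d.Rs := le_sup_right

theorem QR : s.Q ≤ d.Rs := le_sup_left

theorem cl : s.Cl d.Rs := ⟨sup_le s.QcZ (d.PQ.trans (centralizer_le s.ZQ)), fun g hg => by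
  obtain ⟨x, p, hp, rfl⟩ := d.mem_Rs.1 hg
  rw [Su.sqm (d.PQ hp)]
  exact mul_mem (Su.ι_sqZ x) (d.sq p hp)⟩

theorem RN0 : d.Rs ≤ s.N0 := sup_le s.Q_le_N0 (d.PQ.trans s.cQ_le_N0)

theorem RS : d.Rs ≤ d.S := sup_le (s.QT.trans le_sup_right) le_sup_left

theorem p2S : IsPGroup 2 d.S := Su.p2_VT d.BP d.pP

theorem SQ : d.S ≤ N[s.Q] := Su.VT_nQ d.PQ

theorem SP : d.S ≤ N[d.P] := sup_le le_normalizer (s.TB.trans d.BP)

theorem nR {g : G} (h : g ∈ N[s.Q]) (h' : g ∈ N[d.P]) : g ∈ N[d.Rs] := mem_n fun x hx => by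
  obtain ⟨x, p, hp, rfl⟩ := d.mem_Rs.1 hx
  rw [← conj_mul]
  exact mul_mem_sup (cj h (s.ι_mem x)) (cj h' hp)

theorem SR : d.S ≤ N[d.Rs] := fun _ h => d.nR (d.SQ h) (d.SP h)

theorem tS : t ∈ d.S := mem_sup_right d.e2.tT

include d in
theorem ctY {y : G} (hy : y ∈ r.Y) : y * t * y⁻¹ * t = y * y := by
  have := r.comm y hy.1 t (r.ER d.e2.mem)
  rw [(r.mem_Y.1 hy).2.1, (r.mem_Y.1 hy).2.2, d.e2.inv, map_zero] at this
  rw [this, r.sqY4 d.k0 hy]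
  simp

theorem kerZ {p : G} (hp : p ∈ d.P) (h1 : d.X p = 0) (h2 : d.Yc p = 0) : p ∈ s.Z :=
  have y := d.ker p hp h1
  r.mem_Z.2 ⟨y.1, (r.mem_Y.1 y).2.1, by rw [← d.Yc_Y p y, h2], (r.mem_Y.1 y).2.2⟩

theorem ctZ {p : G} (hp : p ∈ d.P) (h : p * t * p⁻¹ * t ∈ s.Z) : p ∈ r.Y :=
  d.ker p hp (by rw [← (d.ct p hp).2, r.lam_Z h, zero_mul])

theorem cP {p : G} (hp : p ∈ d.P) (h : p ∈ s.C) : p ∈ s.Z := by
  have e : p * t * p⁻¹ * t = 1 := by rw [d.e2.tc h, d.e2.tt]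
  have y := d.ctZ hp (e ▸ one_mem _)
  exact r.omY d.e2 d.k0 y (by rw [← d.ctY y, e])

theorem cR {g : G} (hg : g ∈ d.Rs) (h : g ∈ s.C) : g ∈ s.Q := by
  obtain ⟨x, p, hp, rfl⟩ := d.mem_Rs.1 hg
  exact mul_mem (s.ι_mem x) (s.ZQ (d.cP hp (by simpa using mul_mem (inv_mem (s.TC (s.QT (s.ι_mem x)))) h)))

theorem tR : t ∉ d.Rs := fun h => d.e2.nU (s.QleU (d.cR h d.e2.tB.1))

theorem ptsq {p : G} (hp : p ∈ d.P) (h : p * t * (p * t) ∈ s.Z) : p ∈ r.Y := by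
  refine d.ctZ hp ?_
  have := mul_mem h (inv_mem (cj (c_le_n _ (s.EcZ d.e2.mem)) (d.sq p hp)))
  simpa [mul_assoc, d.e2.inv, d.e2.tt'] using this

theorem ptsq' {x : U3S τ} {p : G} (hp : p ∈ d.P) (h : s.ι x * (p * t) * (s.ι x * (p * t)) ∈ s.Z) : p ∈ r.Y := by
  rw [Su.sqm (mul_mem (d.PQ hp) (s.EcQ d.e2.mem))] at h
  exact d.ptsq hp (by simpa only [inv_mul_cancel_left] using mul_mem (inv_mem (Su.ι_sqZ x)) h)

theorem tY {y : G} (hy : y ∈ r.Y) : ∃ p ∈ d.P, p * t * p⁻¹ = y * t := by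
  have m0 := r.mu_ne d.e2.mem d.e2.ne
  obtain ⟨p, hp, e, -⟩ := d.on (r.lam y * r.mu t) 0
    (by rw [map_mul, r.lam_k y hy.1, r.mu_k t (r.ER d.e2.mem)]) (map_zero τ)
  obtain ⟨c1, c2⟩ := d.ct p hp
  have z := r.same c1.1 hy.1 (by rw [(r.mem_Y.1 c1).2.1, (r.mem_Y.1 hy).2.1]) (mul_right_cancel₀ m0 (c2.trans e))
    (by rw [(r.mem_Y.1 c1).2.2, (r.mem_Y.1 hy).2.2])
  obtain ⟨y', hy', k⟩ := r.conj_eZ d.e2.mem d.e2.ne z
  refine ⟨p * y', mul_mem hp (d.YP hy'), ?_⟩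
  have := cc (d.cl.cZ (d.PR hp)) z
  calc _ = p * (y' * t * y'⁻¹) * p⁻¹ := by group
    _ = p * t * p⁻¹ * (p * ((p * t * p⁻¹ * t)⁻¹ * y) * p⁻¹) := by rw [k]; group
    _ = p * t * p⁻¹ * t * (t⁻¹ * ((p * t * p⁻¹ * t)⁻¹ * y) * t⁻¹⁻¹) * t⁻¹ := by rw [this]; group
    _ = _ := by rw [cc (inv_mem (s.EcZ d.e2.mem)) z, d.e2.inv]; group

theorem noTy {g : G} (hg : g ∈ d.Rs) : ¬ s.Ty g := fun h => by
  obtain ⟨x, p, hp, rfl⟩ := d.mem_Rs.1 hg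
  by_cases z : p ∈ s.Z
  · exact r.no_ty d.e2 (d.PQ hp) (centralizer_le r.YR (le_centralizer_iff.1 r.RcZ z)) h
  obtain ⟨c, c1, c2, c3⟩ := s.four
  obtain ⟨p', hp', e1, e2⟩ := d.on (c * d.X p) (c * d.Yc p) (by rw [map_mul, c1, d.X_k p hp])
    (by rw [map_mul, c1, d.Yc_k p hp])
  have two := s.two
  have cm := d.cm p' hp' p hp
  rw [e1, e2] at cm
  rcases d.e2.arQ h (d.PQ hp) (d.PQ hp') ((d.cl.bz_zero (d.PR hp') (d.PR hp)).1 (by grind)) (d.sq p' hp') with k | k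
  · rw [d.X_Y _ (r.ZY k)] at e1
    rw [d.Yc_Y _ (r.ZY k), r.lam_Z k] at e2
    exact z (d.kerZ hp (by grind) (by grind))
  · have a := d.X_mul _ hp _ (d.ZP k)
    have b := d.Yc_mul _ hp _ (d.ZP k)
    rw [mul_inv_cancel_left, d.X_Y _ (r.ZY k)] at a
    rw [mul_inv_cancel_left, d.Yc_Y _ (r.ZY k), r.lam_Z k] at b
    exact z (d.kerZ hp (by grind) (by grind))

theorem tyT {g : G} (hg : g * t ∈ d.Rs) (h : s.Ty g) : g * t ∈ r.Y := by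
  obtain ⟨x, p, hp, e⟩ := d.mem_Rs.1 hg
  have e' : g = s.ι x * (p * t) := by rw [← mul_assoc, e, mul_assoc, d.e2.tt, mul_one]
  have y := d.ptsq' (x := x) hp (by rw [← e', h.sq s]; exact one_mem _)
  have := r.lemW (d.k0 ▸ r.mu_ne d.e2.mem d.e2.ne) d.e2 (r.YY y) (d.PQ hp) (x := x) (by rwa [mul_assoc, ← e'])
  exact e ▸ mul_mem (r.ZY (s.ι_mem_Z.2 this)) y

theorem fusT {g : G} (h : g * t * g⁻¹ * t ∈ d.Rs) : ∃ p ∈ d.P, p⁻¹ * g ∈ s.C := by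
  obtain ⟨p, hp, e⟩ := d.tY (d.tyT h (d.e2.ty g))
  rw [mul_assoc _ t t, d.e2.tt, mul_one] at e
  exact ⟨p, hp, d.e2.mem_C (by
    calc _ = p⁻¹ * (g * t * g⁻¹) * p := by group
      _ = t := by rw [← e]; group)⟩

theorem dec {g : G} (h : g ∈ d.S) (h0 : g ∈ s.N0) : g ∈ d.Rs ∨ g * t ∈ d.Rs := by
  obtain ⟨x, p, hp, rfl | rfl⟩ := d.e2.dec0 d.BP d.PQ h h0
  · exact .inl (d.mem_Rs.2 ⟨x, p, hp, rfl⟩)
  · exact .inr (d.mem_Rs.2 ⟨x, p, hp, by rw [mul_assoc, mul_assoc, d.e2.tt, mul_one]⟩)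

theorem phiS {g : G} (hg : ∀ y ∈ s.T, g * y * g⁻¹ ∈ d.S) :
    g ∈ N[s.Z] ∧ ∀ x ∈ s.B0, g * x * g⁻¹ ∈ s.N0 ∨ s.Out (g * x * g⁻¹) :=
  s.phi d.p2S d.SQ (fun r' hr h0 h4 => by
    obtain ⟨x, p, hp, rfl | rfl⟩ := d.e2.dec0 d.BP d.PQ hr h0
    · exact d.cl.sq _ (d.mem_Rs.2 ⟨x, p, hp, rfl⟩)
    · have c := mul_mem (d.PQ hp) (s.EcQ d.e2.mem)
      rw [Su.sqm c]
      refine mul_mem (Su.ι_sqZ x) (r.omY d.e2 d.k0 ?_ (Su.sq4 c x h4))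
      have := mul_mem (d.ct p hp).1 (r.ZY (cj (c_le_n _ (s.EcZ d.e2.mem)) (d.sq p hp)))
      simpa [mul_assoc, d.e2.inv, d.e2.tt'] using this) s.robB0 fun x hx => hg x (s.B0T hx)

theorem ext1 {g : G} (hg : ∀ y ∈ s.T, g * y * g⁻¹ ∈ d.S) : g * t * g⁻¹ * t ∈ d.Rs ∨ s.Out (g * t * g⁻¹) :=
  ((d.phiS hg).2 t d.e2.tB0).imp_left fun h => (d.dec (hg t d.e2.tT) h).resolve_left fun k => d.noTy k (d.e2.ty g)

theorem R_stb : d.Rs ≤ stb d.P s.Z := fun _ hg =>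
  ⟨d.SP (d.RS hg), c_le_n _ (d.cl.cZ hg), fun _ hp => d.cl.cm hg (d.PR hp)⟩

theorem t_stb : t ∉ stb d.P s.Z := fun h => by
  obtain ⟨p, hp, e, -⟩ := d.on 1 0 (map_one τ) (map_zero τ)
  have := d.ctZ hp (by simpa [mul_assoc, d.e2.inv] using inv_mem (h.2.2 p hp))
  rw [d.X_Y p this] at e
  exact zero_ne_one e

theorem out_mul {x x' : G} (hx : x ∈ d.S) (hx' : x' ∈ d.S) (o : s.Out x) (o' : s.Out x') (a : x ∈ stb d.P s.Z)
    (a' : x' ∈ stb d.P s.Z) : x * x' ∈ d.Rs :=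
  (d.dec (mul_mem hx hx') (o.mul s o' (p2_of_mem d.p2S (mul_mem hx hx')))).resolve_right fun k =>
    d.t_stb (by simpa only [inv_mul_cancel_left] using mul_mem (inv_mem (mul_mem a a')) (d.R_stb k))

section c0
variable {h : G} (hh : ∀ y ∈ s.T, h * y * h⁻¹ ∈ d.S) (o : s.Out (h * t * h⁻¹)) {a : F}
  (ha : ∀ x : U3S τ, h * t * h⁻¹ * s.ι x * (h * t * h⁻¹)⁻¹ * (s.ι x)⁻¹ ∈ s.Z ↔ s.ι x ∈ s.Ln a)
include hh o ha

theorem c0A {b : G} (hb : b ∈ s.B0) (k : h * b * h⁻¹ ∈ s.N0) : ∃ u ∈ s.Ln a, ∃ p ∈ d.P, h * b * h⁻¹ = u * p := by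
  have ht := d.e2
  obtain ⟨hZ, hB⟩ := d.phiS hh
  have sqt : ∀ b ∈ s.B0, ∀ x, ∀ p ∈ d.P, h * b * h⁻¹ = s.ι x * (p * t) → p ∈ r.Y := fun b hb x p hp e =>
    d.ptsq' (x := x) hp (by rw [← e, conj_mul]; exact cj hZ (s.sq_B0 hb))
  obtain ⟨x₀, hx₀, p₀, hp₀, e₀ | e₀⟩ := ht.outDec d.BP d.PQ hh ha hb k
  · exact ⟨_, hx₀, _, hp₀, e₀⟩
  have sw : ∀ x x' : U3S τ, ∀ m ∈ C[s.Q], ∀ m', s.ι x * m * (s.ι x' * m') = s.ι (x * x') * (m * m') :=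
    fun x x' m hm m' => by
      rw [mul_assoc, ← mul_assoc m, ← mem_centralizer_iff.1 hm _ (s.ι_mem x'), map_mul]; group
  have y0 : ∀ b ∈ s.B0, ∀ x, s.ι x ∈ s.Ln a → ∀ p ∈ d.P, h * b * h⁻¹ = s.ι x * p → h * b * h⁻¹ ∈ s.Ln a ⊔ r.Y :=
    fun b' hb' x hx p hp e => by
      have := sqt _ (mul_mem hb' hb) (x * x₀) _ (mul_mem hp hp₀) (by
        rw [← conj_mul, e, e₀, sw _ _ _ (d.PQ hp), mul_assoc p])
      exact e ▸ mul_mem_sup hx (by simpa using mul_mem this (inv_mem (sqt b hb _ _ hp₀ e₀)))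
  refine (Su.not_bot fun z hz => ht.rob2 (K := s.Ln a ⊔ r.Y) (ht.hL d.p2S hh hB o) (fun b hb b' hb' k k' => ?_)
    (fun b _ b' _ => cm_ab (ab_sup (s.Ln_comm a) r.YY (r.YcQ.trans (centralizer_le (s.Ln_le a))))) hz).elim
  obtain ⟨x, hx, v, hv, e | e⟩ := ht.outDec d.BP d.PQ hh ha hb k
  · exact .inl (y0 b hb x hx v hv e)
  obtain ⟨x', hx', v', hv', e' | e'⟩ := ht.outDec d.BP d.PQ hh ha hb' k'
  · exact .inr (.inl (y0 b' hb' x' hx' v' hv' e'))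
  refine .inr (.inr ?_)
  rw [← conj_mul, e, e', sw _ _ _ (mul_mem (d.PQ hv) (s.EcQ ht.mem)), map_mul]
  refine mul_mem_sup (mul_mem hx hx') ?_
  simpa [mul_assoc, ht.inv] using mul_mem (sqt b hb x v hv e) (cj (r.B_nY ht.tB) (sqt b' hb' x' v' hv' e'))

theorem c0c {b v : G} (hb : b ∈ s.B0) (k : h * b * h⁻¹ ∈ s.N0) (hv : v ∈ s.Ln a) :
    h⁻¹ * v * h * b = b * (h⁻¹ * v * h) := by
  obtain ⟨u, hu, p, hp, e⟩ := d.c0A hh o ha hb k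
  have : v * (u * p) = u * p * v := by
    rw [← mul_assoc, mem_centralizer_iff.1 (s.Ln_comm a hu) v hv, mul_assoc,
      mem_centralizer_iff.1 (d.PQ hp) v (s.Ln_le a hv), mul_assoc]
  rw [← e] at this
  calc _ = h⁻¹ * (v * (h * b * h⁻¹)) * h := by group
    _ = _ := by rw [this]; group

theorem c0B {p : G} (hp : p ∈ d.P) : ∃ b ∈ s.B0, ∃ u ∈ s.Ln a, h * b * h⁻¹ = u * p := by
  have ht := d.e2
  have hL := ht.hL d.p2S hh (d.phiS hh).2 o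
  have : ∀ c, ∃ x : U3S τ, x.a = c ∧ ∃ e ∈ s.E, ∃ u ∈ s.Ln a, ∃ p ∈ d.P, h * (s.ι x * e) * h⁻¹ = u * p := fun c => by
    obtain ⟨x, hx⟩ := s.exists_a c
    have m : s.ι x ∈ s.B0 := mem_sup_right (s.ι_mem x)
    rcases hL _ m with k | k
    · exact ⟨x, hx, 1, one_mem _, by rw [mul_one]; exact d.c0A hh o ha m k⟩
    · exact ⟨x, hx, t, ht.mem, d.c0A hh o ha (mul_mem m ht.tB0) k⟩
  choose x xa e eE u uL q qP k using this
  have m : ∀ c, s.ι (x c) * e c ∈ s.B0 := fun c => mul_mem (mem_sup_right (s.ι_mem _)) (mem_sup_left (eE c))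
  have co : ∀ p ∈ d.P, ∀ p' ∈ d.P, d.X p + d.Yc p * s.l = d.X p' + d.Yc p' * s.l → p⁻¹ * p' ∈ s.Z :=
    fun p hp p' hp' e => by
      have e' := congrArg τ e
      simp only [map_add, map_mul, d.X_k p hp, d.X_k p' hp', d.Yc_k p hp, d.Yc_k p' hp'] at e'
      have i := mul_mem (inv_mem hp) hp'
      have a := d.X_mul _ hp _ i
      have b := d.Yc_mul _ hp _ i
      rw [mul_inv_cancel_left] at a b
      have := s.lτ
      exact d.kerZ i (by grind) (by grind)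
  have inj : Function.Injective fun c => d.X (q c) + d.Yc (q c) * s.l := fun c c' e' => by
    have z := co _ (qP c) _ (qP c') e'
    have v : h * ((s.ι (x c) * e c)⁻¹ * (s.ι (x c') * e c')) * h⁻¹ ∈ s.Ln a := by
      rw [← conj_mul, ← conj_inv, k, k, show (u c * q c)⁻¹ * (u c' * q c') =
        (q c)⁻¹ * ((u c)⁻¹ * u c') * (q c)⁻¹⁻¹ * ((q c)⁻¹ * q c') by group,
        cc (inv_mem (d.PQ (qP c))) (s.Ln_le a (mul_mem (inv_mem (uL c)) (uL c')))]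
      exact mul_mem (mul_mem (inv_mem (uL c)) (uL c')) (s.Z_le_Ln a z)
    have cq : (s.ι (x c) * e c)⁻¹ * (s.ι (x c') * e c') ∈ C[s.Q] := mem_centralizer_iff.2 fun y hy => by
      have b := mul_mem (inv_mem (m c)) (m c')
      generalize (s.ι (x c) * e c)⁻¹ * (s.ι (x c') * e c') = w at *
      have y0 : y ∈ s.B0 := mem_sup_right hy
      rcases hL y y0 with k | k
      · simpa [mul_assoc] using (d.c0c hh o ha y0 k v).symm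
      · have := d.c0c hh o ha (mul_mem y0 ht.tB0) k v
        rw [show h⁻¹ * (h * w * h⁻¹) * h = w by group, mul_assoc y,
          mem_centralizer_iff.1 (s.CcE (s.TC (s.B0T b))) t ht.mem, ← mul_assoc, ← mul_assoc] at this
        exact (mul_right_cancel this).symm
    have := s.QcQ (mul_mem (inv_mem (s.ι_mem (x c))) (s.ι_mem (x c')))
      (by simpa [mul_assoc] using mul_mem (mul_mem (s.EcQ (eE c)) cq) (inv_mem (s.EcQ (eE c'))))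
    rw [← map_inv, ← map_mul, s.ι_mem_Z, mul_a, inv_a, xa, xa] at this
    grind
  obtain ⟨c, e'⟩ := Finite.injective_iff_surjective.1 inj (d.X p + d.Yc p * s.l)
  have z := co _ hp _ (qP c) e'.symm
  refine ⟨_, m c, u c * (p⁻¹ * q c), mul_mem (uL c) (s.Z_le_Ln a z), ?_⟩
  rw [k, mul_assoc, mem_centralizer_iff.1 (d.cl.cZ (d.PR hp)) _ z, mul_inv_cancel_left]

theorem c0S : h * t * h⁻¹ ∈ stb d.P s.Z := by
  have m := hh t d.e2.tT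
  refine ⟨d.SP m, s.nQ_nZ o.1, fun p hp => ?_⟩
  obtain ⟨b, hb, u, hu, e⟩ := d.c0B hh o ha hp
  have c : h * t * h⁻¹ * (h * b * h⁻¹) * (h * t * h⁻¹)⁻¹ = h * b * h⁻¹ := by
    conv_rhs => rw [← d.e2.ct (s.TC (s.B0T hb))]
    group
  generalize h * t * h⁻¹ = x at *
  refine s.QcQ ?_ (d.PQ (mul_mem (cj (d.SP m) hp) (inv_mem hp)))
  rw [e, ← conj_mul] at c
  rw [show x * p * x⁻¹ * p⁻¹ = (x * u * x⁻¹)⁻¹ * (x * u * x⁻¹ * (x * p * x⁻¹)) * p⁻¹ by group, c]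
  simpa [mul_assoc] using mul_mem (inv_mem (cj o.1 (s.Ln_le a hu))) (s.Ln_le a hu)

variable (iv : ∀ v ∈ s.Ln a, h * t * h⁻¹ * v * (h * t * h⁻¹)⁻¹ = v⁻¹)
include iv

theorem c0Y {v : G} (hv : v ∈ s.Ln a) : h⁻¹ * v * h ∈ r.Y := by
  have ht := d.e2
  obtain ⟨hZ, hB⟩ := d.phiS hh
  have hL := ht.hL d.p2S hh hB o
  have v2 : v * v ∈ s.Z := by obtain ⟨x, -, rfl⟩ := hv; exact Su.ι_sqZ x
  have w2 : h⁻¹ * v * h * (h⁻¹ * v * h) ∈ s.Z := by simpa [mul_assoc] using cj' hZ v2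
  have wt : h⁻¹ * v * h * t * (h⁻¹ * v * h)⁻¹ * t = h⁻¹ * v * h * (h⁻¹ * v * h) := by
    have := iv _ (inv_mem hv)
    rw [inv_inv] at this
    conv_rhs => rhs; rw [← this]
    simp [mul_assoc, ht.inv]
  have cc' := fun b hb k => d.c0c hh o ha (b := b) hb k hv
  by_cases z : v ∈ s.Z
  · exact r.ZY (cj' hZ z)
  have n1 : h⁻¹ * v * h * (h⁻¹ * v * h) ≠ 1 := fun e => z (s.mem_Z_of_sq (s.Ln_le a hv) (by
    rw [← conj_eq_one_iff (a := h⁻¹), ← e]; group))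
  generalize h⁻¹ * v * h = w at *
  have tr : ∀ b ∈ s.B0, w * b * w⁻¹ * b⁻¹ ∈ s.Z := fun b hb => by
    rcases hL b hb with k | k
    · rw [cc' b hb k, mul_inv_cancel_right, mul_inv_cancel]; exact one_mem _
    · have := cc' _ (mul_mem hb ht.tB0) k
      rw [show w * b * w⁻¹ * b⁻¹ = w * (b * t) * w⁻¹ * (w * t⁻¹ * w⁻¹ * t) * (b * t)⁻¹ by group, this, ht.inv, wt,
        mul_inv_cancel_right]
      exact cj (s.nQ_nZ (s.TN (s.B0T (mul_mem hb ht.tB0)))) w2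
  have wR : w ∈ r.R := r.max w (s.mem_N0.2 ⟨mem_n fun x hx => by
      simpa using mul_mem (s.ZQ (tr x (mem_sup_right hx))) hx, fun x hx => tr x (mem_sup_right hx)⟩)
    (fun e he => by simpa only [inv_of_sq (s.sqE e he)] using tr e (mem_sup_left he))
    ⟨2, by rw [show (2 : ℕ) ^ 2 = 2 * 2 from rfl, pow_mul, pow_two, pow_two, s.sqZ w2]⟩
  have tR := r.ER ht.mem
  have two := s.two
  have a0 : r.aa w = 0 := by
    by_contra k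
    have : ∀ β, τ β = β → β ≠ 0 → β = r.lam w * r.mu t := fun β hβ β0 => by
      obtain ⟨c, e⟩ := s.exists_tr k hβ
      obtain ⟨x, rfl⟩ := s.exists_a c
      have m : s.ι x ∈ s.B0 := mem_sup_right (s.ι_mem x)
      rcases hL _ m with k | k
      · have := (r.comm_iff wR (r.ιR x)).1 (cc' _ m k)
        rw [bf, r.aa_ι, r.lam_ι, r.mu_ι] at this
        grind
      · have := (r.comm_iff wR (mul_mem (r.ιR x) tR)).1 (cc' _ (mul_mem m ht.tB0) k)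
        rw [bf, r.aa_mul _ (r.ιR x) _ tR, r.lam_mul _ (r.ιR x) _ tR, r.mu_mul _ (r.ιR x) _ tR, r.aa_ι, r.lam_ι, r.mu_ι,
          r.aa_E t ht.mem, r.lam_E t ht.mem, add_zero] at this
        grind
    obtain ⟨c, c1, c2, c3⟩ := s.four
    exact c3 ((this c c1 c2).trans (this 1 (map_one τ) one_ne_zero).symm)
  refine r.mem_Y.2 ⟨wR, a0, ?_⟩
  obtain ⟨e, he, m⟩ := r.rng w wR
  rcases ht.eq e he with rfl | rfl
  · rw [m, r.mu_one]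
  · exact (n1 ((r.sq_iff wR).2 (by rw [qf, a0, m, d.k0, s.add_self]; ring))).elim

variable (a0 : a ≠ 0)
include a0

theorem c0Q {q : G} (hq : q ∈ s.Q) : h * q * h⁻¹ ∈ d.Rs := by
  have ht := d.e2
  obtain ⟨hZ, hB⟩ := d.phiS hh
  have m : q ∈ s.B0 := mem_sup_right hq
  rcases ht.hL d.p2S hh hB o q m with k | k
  · obtain ⟨u, hu, p, hp, e⟩ := d.c0A hh o ha m k
    exact e ▸ mul_mem_sup (s.Ln_le a hu) hp
  obtain ⟨x, hx⟩ := s.exists_a a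
  have v : s.ι x ∈ s.Ln a := ⟨x, ⟨1, map_one τ, by rw [hx, one_mul]⟩, rfl⟩
  have y := d.c0Y hh o ha iv v
  have c := d.c0c hh o ha (mul_mem m ht.tB0) k v
  rw [← mul_assoc, ← mem_centralizer_iff.1 (r.YcQ y) q hq, mul_assoc q, mul_assoc q, mul_right_inj] at c
  have := cj hZ (d.cP (d.YP y) (ht.mem_C (mul_inv_eq_iff_eq_mul.2 c)))
  rw [show h * (h⁻¹ * s.ι x * h) * h⁻¹ = s.ι x by group, s.ι_mem_Z, hx] at this
  exact (a0 this).elim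

theorem c0L {y : G} (hy : y ∈ r.Y) : h * y * h⁻¹ ∈ s.Ln a := by
  have hZ := (d.phiS hh).1
  obtain ⟨b, hb, e⟩ := s.mem_Z.1 (cj hZ (r.sqYZ hy))
  obtain ⟨c, c1, c2⟩ := s.exists_norm a0 hb
  obtain ⟨x, hx⟩ := s.exists_a (c * a)
  have v : s.ι x ∈ s.Ln a := ⟨x, ⟨c, c1, hx⟩, rfl⟩
  have w := d.c0Y hh o ha iv v
  have k : h⁻¹ * s.ι x * h * (h⁻¹ * s.ι x * h) = y * y := by
    calc _ = h⁻¹ * (s.ι x * s.ι x) * h := by group
      _ = _ := by rw [s.ι_sq, hx, c2, e]; group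
  have z := r.omY d.e2 d.k0 (mul_mem (inv_mem w) hy) (by
    generalize h⁻¹ * s.ι x * h = w' at w k
    rw [mul_assoc, ← mul_assoc y, mem_centralizer_iff.1 (r.YY (inv_mem w)) y hy, mul_assoc, ← k]; group)
  have := mul_mem v (s.Z_le_Ln a (cj hZ z))
  convert this using 1
  group

theorem c0R (L2 : ∀ x ∈ s.Q, h * t * h⁻¹ * x * (h * t * h⁻¹)⁻¹ * x⁻¹ ∈ s.Ln a) : h ∈ N[d.Rs] := by
  have ht := d.e2
  have hZ := (d.phiS hh).1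
  have st := d.c0S hh o ha
  suffices h⁻¹ ∈ N[d.Rs] by simpa using inv_mem this
  refine mem_n fun g hg => ?_
  rw [inv_inv]
  have tr : ∀ q ∈ s.Q, h⁻¹ * g * h * q * (h⁻¹ * g * h)⁻¹ * q⁻¹ ∈ s.Z := fun q hq => by
    convert cj' hZ (d.cl.cm hg (d.c0Q hh o ha iv a0 hq)) using 1
    group
  obtain ⟨x, p, hp, e | e⟩ := d.mx (h⁻¹ * g * h)
    (s.mem_N0.2 ⟨mem_n fun x hx => by simpa using mul_mem (s.ZQ (tr x hx)) hx, tr⟩)
    (mem_n fun y hy => by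
      have v := d.c0L hh o ha iv a0 hy
      convert d.c0Y hh o ha iv (mul_mem (s.Z_le_Ln a (d.cl.cm hg (d.QR (s.Ln_le a v)))) v) using 1
      group)
    (by
      obtain ⟨x, p, hp, rfl⟩ := d.mem_Rs.1 hg
      have z := cj (c_le_n _ (s.QcZ (s.ι_mem x))) (inv_mem (st.2.2 p hp))
      convert d.c0Y hh o ha iv (mul_mem (s.Z_le_Ln a z) (inv_mem (L2 _ (s.ι_mem x)))) using 1
      simp [mul_assoc, ht.inv, ht.tt'])
    (by simpa using (p2_of_mem d.p2S (d.RS hg)).conj h⁻¹)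
  · exact d.mem_Rs.2 ⟨x, p, hp, e.symm⟩
  have y := d.ptsq' (x := x) hp (by rw [← e]; simpa [mul_assoc] using cj' hZ (d.cl.sq g hg))
  refine (o.not_mem s (d.RN0 ?_)).elim
  have := mul_mem (inv_mem (mul_mem (d.c0Q hh o ha iv a0 (s.ι_mem x)) (d.QR (s.Ln_le a (d.c0L hh o ha iv a0 y))))) hg
  rw [show g = h * (h⁻¹ * g * h) * h⁻¹ by group, e] at this
  convert this using 1
  group

end c0

/-- outer extremal conjugates of `t` in `S` -/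
theorem c0 {h : G} (hh : ∀ y ∈ s.T, h * y * h⁻¹ ∈ d.S) (o : s.Out (h * t * h⁻¹)) :
    h ∈ N[d.Rs] ∧ h * t * h⁻¹ ∈ stb d.P s.Z ∧ ∃ a,
      (∀ x : U3S τ, h * t * h⁻¹ * s.ι x * (h * t * h⁻¹)⁻¹ * (s.ι x)⁻¹ ∈ s.Z → s.ι x ∈ s.Ln a) ∧
      ∀ y ∈ r.Y, h * y * h⁻¹ ∈ s.Ln a := by
  obtain ⟨a, a0, L1, L2, -, L4⟩ := o.line s
  have iv := L4 (by rw [(d.e2.ty h).sq s]; exact one_mem _)
  exact ⟨d.c0R hh o L1 iv a0 L2, d.c0S hh o L1, a, fun x => (L1 x).1, fun y hy => d.c0L hh o L1 iv a0 hy⟩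

end Cfsg.Lib.U3F.RR.Pd
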