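import Cfsg.Agent.Lib.U3F.Four5

/-!
# Case IV, step 3: action on `Z`
-/

set_option autoImplicit false

namespace Cfsg.Lib.U3F
open Subgroup Cfsg.Lib Cfsg.Lib.FT Cfsg.Lib.TwoL Cfsg.Lib.U3S

variable {G : Type*} [Group G] {F : Type*} [Field F] {τ : F ≃+* F} [Fact (Function.Involutive τ)] {s : Su G τ}
  {t : G}

/-- extension of `K` by an element `σ` with square in `K` -/
def ext2 {K : Subgroup G} {σ : G} (h : σ ∈ N[K]) (h2 : σ * σ ∈ K) : Subgroup G where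
  carrier := {y | y ∈ K ∨ y * σ ∈ K}
  one_mem' := .inl (one_mem _)
  mul_mem' := by
    rintro y y' (a | a) (b | b)
    · exact .inl (mul_mem a b)
    · exact .inr (by rw [mul_assoc]; exact mul_mem a b)
    · exact .inr (by convert mul_mem a (cj' h b) using 1; group)
    · exact .inl (by convert mul_mem (mul_mem a (cj' h b)) (inv_mem h2) using 1; group)
  inv_mem' := by
    rintro y (a | a)
    · exact .inl (inv_mem a)
    · exact .inr (by convert mul_mem (cj h (inv_mem a)) h2 using 1; group)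

variable [Finite G] [Finite F]

theorem Su.cZ_N0 {y : G} (hy : y ∈ N[s.Q]) (h : y ∈ C[s.Z]) (h2 : P2 y) : y ∈ s.N0 ∨ s.Out y := by
  obtain ⟨m, -, σ, c, a, z⟩ := s.act hy
  have k : ∀ b, τ b = b → m * τ m * σ b = b := fun b hb =>
    s.zc_inj (by rw [map_mul, map_mul, ττ, c, hb, mul_comm (τ m)]) hb (by rw [← z b hb, cc h (s.zc_mem b)])
  have m1 : m * τ m = 1 := by simpa using k 1 (map_one τ)
  simp only [m1, one_mul] at k
  have e1 := k (s.l + τ s.l) (by simp [add_comm])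
  have e2 := k (s.l * τ s.l) (by simp [mul_comm])
  rw [map_add] at e1
  rw [map_mul] at e2
  have : σ s.l = s.l ∨ σ s.l = τ s.l := by grind
  rcases this with e | e
  · refine .inl (s.scal hy (c := m) (fun x x' k' => ?_) h2)
    obtain ⟨c, d, c1, d1, e'⟩ := s.span x.a
    rw [a x x' k', e', map_add, map_mul, k c c1, k d d1, e]
  · refine .inr ⟨hy, m, m1, fun x x' k' => ?_⟩
    obtain ⟨c, d, c1, d1, e'⟩ := s.span x.a
    rw [a x x' k', e', map_add, map_mul, k c c1, k d d1, e, map_add, map_mul, c1, d1]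

namespace RR.Pd
variable {r : RR s} (d : r.Pd t)

theorem bz_eq (u u' : U3S τ) {p p' : G} (hp : p ∈ d.P) (hp' : p' ∈ d.P) :
    s.bz (s.ι u * p) (s.ι u' * p') = u.a * τ u'.a + τ u.a * u'.a + s.bz p p' := by
  have a := d.QR (s.ι_mem u)
  have a' := d.QR (s.ι_mem u')
  have b := d.PR hp
  have b' := d.PR hp'
  rw [d.cl.bz_l a b (mul_mem a' b'), d.cl.bz_r a a' b', d.cl.bz_r b a' b',
    (d.cl.bz_zero a b').2 (mem_centralizer_iff.1 (d.PQ hp') _ (s.ι_mem u)),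
    (d.cl.bz_zero b a').2 (mem_centralizer_iff.1 (d.PQ hp) _ (s.ι_mem u')).symm, Su.bz, s.ι_comm,
    s.zi_zc (by simp [add_comm, mul_comm])]
  ring

theorem smul {c : F} (hc : τ c = c) {g : G} (hg : g ∈ d.Rs) : ∃ g' ∈ d.Rs, ∀ v ∈ d.Rs, s.bz v g' = c * s.bz v g := by
  obtain ⟨u, p, hp, rfl⟩ := d.mem_Rs.1 hg
  obtain ⟨u', hu⟩ := s.exists_a (c * u.a)
  obtain ⟨p', hp', e1, e2⟩ := d.on (c ^ 2 * d.X p) (c ^ 2 * d.Yc p) (by rw [map_mul, map_pow, hc, d.X_k p hp])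
    (by rw [map_mul, map_pow, hc, d.Yc_k p hp])
  refine ⟨_, d.mem_Rs.2 ⟨u', p', hp', rfl⟩, fun v hv => ?_⟩
  obtain ⟨w, q, hq, rfl⟩ := d.mem_Rs.1 hv
  rw [d.bz_eq _ _ hq hp', d.bz_eq _ _ hq hp, hu, map_mul, hc, s.sq_inj (a := s.bz q p') (b := c * s.bz q p) (by
    rw [mul_pow, d.cm q hq p' hp', d.cm q hq p hp, e1, e2]; ring)]
  ring

theorem semi {g : G} (h : g ∈ N[d.Rs]) (hZ : g ∈ N[s.Z]) : ∃ m : F, τ m = m ∧ m ≠ 0 ∧ ∃ i : ℕ, ∀ b, τ b = b →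
    g * s.zc b * g⁻¹ = s.zc (m * b ^ 2 ^ i) := by
  have two := s.two
  have cl := d.cl
  let ζ : F → F := fun b => s.zi (g * s.zc b * g⁻¹)
  have sp := fun b => s.zi_spec (cj hZ (s.zc_mem b))
  have cv : ∀ v ∈ d.Rs, ∀ w ∈ d.Rs, s.bz (g * v * g⁻¹) (g * w * g⁻¹) = ζ (s.bz v w) := fun v hv w hw => by
    simp only [ζ, Su.bz]
    rw [(s.zi_spec (cl.cm hv hw)).2]
    congr 1; group
  have n1 : ζ 1 ≠ 0 := fun e => s.zc_one_ne (by simpa using (Wd.zi_eq_zero (cj hZ (s.zc_mem 1))).1 e)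
  obtain ⟨i, hi⟩ := s.semiK (ζ := ζ) (fun a _ => (sp a).1)
    (fun a b ha hb => by simp only [ζ]; rw [s.zc_add ha hb, ← conj_mul, s.zi_mul (cj hZ (s.zc_mem _)) (cj hZ (s.zc_mem _))])
    n1 fun a b ha hb => by
      obtain ⟨c, e⟩ := s.exists_tr one_ne_zero (map_one τ)
      obtain ⟨x, rfl⟩ := s.exists_a c
      obtain ⟨y, hy⟩ := s.exists_a 1
      have hv := d.QR (s.ι_mem x)
      have hw := d.QR (s.ι_mem y)
      have e1 : s.bz (s.ι x) (s.ι y) = 1 := by rw [Su.bz, s.ι_comm, hy, e, s.zi_zc (map_one τ)]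
      generalize s.ι x = v at hv e1
      generalize s.ι y = w at hw e1
      obtain ⟨v', hv', k1⟩ := d.smul ha hv
      obtain ⟨w', hw', k2⟩ := d.smul hb hw
      have gv := cj h hv
      have gv' := cj h hv'
      have ker : ∀ u ∈ d.Rs, s.bz (g * v * g⁻¹) u = 0 → s.bz (g * v' * g⁻¹) u = 0 := fun u hu e => by
        have hu' := cj' h hu
        rw [show u = g * (g⁻¹ * u * g) * g⁻¹ by group] at e ⊢
        rw [cl.bz_zero gv (cj h hu'), conj_mul, conj_mul, mul_left_inj, mul_right_inj, ← cl.bz_zero hv hu',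
          cl.bz_symm hv hu'] at e
        rw [cl.bz_zero gv' (cj h hu'), conj_mul, conj_mul, mul_left_inj, mul_right_inj, ← cl.bz_zero hv' hu',
          cl.bz_symm hv' hu', k1 _ hu', e, mul_zero]
      obtain ⟨u1, h1, k3⟩ := d.smul (sp 1).1 (cj h hw')
      obtain ⟨u2, h2, k4⟩ := d.smul (sp b).1 (cj h hw)
      have a1 : s.bz v w' = b := by rw [k2 v hv, e1, mul_one]
      have a2 : s.bz v' w = a := by rw [cl.bz_symm hv' hw, k1 w hw, cl.bz_symm hw hv, e1, mul_one]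
      have := ker _ (mul_mem h1 h2) (by
        rw [cl.bz_r gv h1 h2, k3 _ gv, k4 _ gv, cv v hv w' hw', cv v hv w hw, a1, e1]; simp only [ζ]; grind)
      rw [cl.bz_r gv' h1 h2, k3 _ gv', k4 _ gv', cv v' hv' w' hw', cv v' hv' w hw, k2 v' hv', a2, mul_comm b] at this
      simp only [ζ] at this ⊢
      grind
  exact ⟨ζ 1, (sp 1).1, n1, i, fun b hb => by rw [← hi b hb, (sp b).2]⟩

theorem cm_cZ {a b : G} (ha : a ∈ N[d.Rs]) (ha' : a ∈ N[s.Z]) (hb : b ∈ N[d.Rs]) (hb' : b ∈ N[s.Z])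
    (h2 : P2 (a * b * a⁻¹ * b⁻¹)) : a * b * a⁻¹ * b⁻¹ ∈ C[s.Z] := by
  obtain ⟨m, m1, m0, i, hi⟩ := d.semi ha ha'
  obtain ⟨n, n1, n0, j, hj⟩ := d.semi hb hb'
  obtain ⟨μ, μ1, e⟩ : ∃ μ, τ μ = μ ∧ μ * (n * m ^ 2 ^ j) = m * n ^ 2 ^ i :=
    ⟨m * n ^ 2 ^ i / (n * m ^ 2 ^ j), by simp [m1, n1], div_mul_cancel₀ _ (mul_ne_zero n0 (pow_ne_zero _ m0))⟩
  have k : ∀ c, τ c = c → a * b * a⁻¹ * b⁻¹ * s.zc c * (a * b * a⁻¹ * b⁻¹)⁻¹ = s.zc (μ * c) := fun c hc => by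
    obtain ⟨c', hc', e'⟩ := s.mem_Z.1 (cj' (mul_mem hb' ha') (s.zc_mem c))
    have e1 : s.zc c = b * (a * s.zc c' * a⁻¹) * b⁻¹ := by rw [e']; group
    have e2 : a * b * a⁻¹ * b⁻¹ * s.zc c * (a * b * a⁻¹ * b⁻¹)⁻¹ = a * (b * s.zc c' * b⁻¹) * a⁻¹ := by rw [e']; group
    rw [hi c' hc', hj _ (by simp [m1, hc'])] at e1
    rw [e2, hj c' hc', hi _ (by simp [n1, hc']), s.zc_inj hc (by simp [m1, n1, hc']) e1, mul_pow, mul_pow,
      ← mul_assoc, ← mul_assoc n, ← mul_assoc μ, e, ← pow_mul, ← pow_mul, mul_comm (2 ^ i)]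
  generalize a * b * a⁻¹ * b⁻¹ = c at k h2
  have k' : ∀ N : ℕ, c ^ N * s.zc 1 * (c ^ N)⁻¹ = s.zc (μ ^ N) := fun N => by
    induction N with
    | zero => simp
    | succ N ih => rw [pow_succ' μ, ← k _ (by simp [μ1]), ← ih, pow_succ']; group
  obtain ⟨N, hN⟩ := h2
  have := k' (2 ^ N)
  rw [hN, one_mul, inv_one, mul_one] at this
  have := s.eq_one_of_pow (s.zc_inj (map_one τ) (by simp [μ1]) this).symm
  refine mem_c fun z hz => ?_
  obtain ⟨b, hb, rfl⟩ := s.mem_Z.1 hz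
  rw [k b hb, this, one_mul]

theorem cmS {a b : G} (ha : a ∈ d.S) (hb : b ∈ d.S) : a * b * a⁻¹ * b⁻¹ ∈ d.Rs := by
  obtain ⟨p, hp, x, hx, rfl⟩ := (Su.mem_VT d.BP).1 ha
  obtain ⟨q, hq, y, hy, rfl⟩ := (Su.mem_VT d.BP).1 hb
  have m := mul_mem (mul_mem (mul_mem hx hy) (inv_mem hx)) (inv_mem hy)
  have := s.mem_Q_of_U (s.TN0 m (s.comm_mem_N0 (s.TN hx) (s.TN hy) (p2_of_mem s.syl.isPGroup m)))
    (s.comm_mem_U (s.TC hx) (s.TC hy))
  convert mul_mem (mul_mem (mul_mem (mul_mem (d.PR hp) (d.PR (cj (d.BP (s.TB hx)) hq))) (d.QR this))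
    (d.PR (cj (d.BP (s.TB hy)) (inv_mem hp)))) (d.PR (inv_mem hq)) using 1
  group

/-- `t` is not a square modulo `R*` -/
theorem nsq {y : G} (hy : y ∈ N[d.Rs]) : t * (y * y)⁻¹ ∉ d.Rs := fun h => by
  obtain ⟨p, hp, c⟩ := d.fusT (g := y) (by
    have := mul_mem (cj hy h) (inv_mem h)
    simpa [mul_assoc, d.e2.inv] using this)
  have n := mul_mem (inv_mem (d.SR (mem_sup_left hp))) hy
  generalize e : p⁻¹ * y = c' at c n
  obtain rfl : y = p * c' := by rw [← e]; group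
  have k := s.QleU (d.cR (mul_mem h (mul_mem (d.PR hp) (cj n (d.PR hp)))) (by
    convert s.C.mul_mem d.e2.tB.1 (inv_mem (mul_mem c c)) using 1; group))
  exact d.e2.nU (by convert mul_mem k (s.sq_mem_U c) using 1; group)

/-- involutions swapping `Y` and a line and centralizing `Z` -/
theorem swp {a : G} (hS : a ∉ d.S) (hZ : a ∈ C[s.Z]) {b : F} (h : ∀ y ∈ r.Y, a * y * a⁻¹ ∈ s.Ln b) : ¬ s.Ty a :=
  fun ty => by
  have ab := ab_sup (s.Ln_comm b) r.YY (r.YcQ.trans (centralizer_le (s.Ln_le b)))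
  let V : Subgroup G :=
    { carrier := {v | v ∈ s.Ln b ⊔ r.Y ∧ v * v = 1 ∧ v ∈ C1[a]}
      one_mem' := ⟨one_mem _, mul_one _, one_mem _⟩
      mul_mem' := by
        rintro v w ⟨hv, v1, v2⟩ ⟨hw, w1, w2⟩
        exact ⟨mul_mem hv hw, TwoL.sq_mul (mem_centralizer_iff.1 (ab hw) v hv) v1 w1, mul_mem v2 w2⟩
      inv_mem' := by
        rintro v ⟨hv, v1, v2⟩
        exact ⟨inv_mem hv, by rw [← mul_inv_rev, v1, inv_one], inv_mem v2⟩ }
  have c := (s.rk (V := V) (fun v hv => hv.2.1) ty fun v hv => hv.2.2).2 t d.e2 fun k =>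
    hS (d.RS (sup_le ((s.Ln_le b).trans d.QR) (d.YP.trans d.PR) k.1))
  have ZV : s.Z ≤ V := fun z hz => ⟨mem_sup_right (r.ZY hz), s.sqZ hz, mem_C1.2 (mem_centralizer_iff.1 hZ z hz)⟩
  have c' := relIndex_mul_card ZV
  have i : Idx2 s.Z V := idx2_of_relIndex ZV (by
    have := Nat.card_pos (α := s.Z)
    have := Nat.card_pos (α := V)
    have : s.Z.relIndex V ≤ 2 := by nlinarith
    have : s.Z.relIndex V ≠ 0 := fun e => by rw [e] at c'; omega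
    omega)
  have cy : ∀ y ∈ r.Y, ∀ y' ∈ r.Y, a * y * a⁻¹ * y' = y' * (a * y * a⁻¹) := fun y hy y' hy' =>
    mem_centralizer_iff.1 (r.YcQ hy') _ (s.Ln_le b (h y hy))
  have m : ∀ y ∈ r.Y, a * y * a⁻¹ * y ∈ V := fun y hy => ⟨mul_mem_sup (h y hy) hy, by
      rw [mul_assoc, ← mul_assoc y, ← cy y hy y hy, mul_assoc _ y y, ← mul_assoc, conj_mul, cc hZ (r.sqYZ hy),
        s.sqZ (r.sqYZ hy)], mem_C1.2 (by
      conv_rhs => rw [cy y hy y hy]
      simp [mul_assoc, inv_of_sq (ty.sq s), ← mul_assoc a a, ty.sq s])⟩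
  have n : ∀ y ∈ r.Y, a * y * a⁻¹ * y ∈ s.Z → r.lam y = 0 := fun y hy k =>
    (r.mem_Q.1 (by simpa only [inv_mul_cancel_left] using mul_mem (inv_mem (s.Ln_le b (h y hy))) (s.ZQ k))).2.1
  obtain ⟨c, c1, c2, c3⟩ := s.four
  obtain ⟨y, hy, e⟩ := r.exists_Y (map_one τ)
  obtain ⟨y', hy', e'⟩ := r.exists_Y c1
  rcases i.2 _ (m y hy) _ (m y' hy') with k | k | k
  · exact one_ne_zero (e ▸ n y hy k)
  · exact c2 (e' ▸ n y' hy' k)
  · have := n _ (mul_mem hy hy') (by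
      rwa [mul_assoc, ← mul_assoc y, ← cy y' hy' y hy, mul_assoc _ y y', ← mul_assoc, conj_mul] at k)
    rw [r.lam_mul _ hy.1 _ hy'.1, e, e'] at this
    have := s.two
    grind

end RR.Pd

end Cfsg.Lib.U3F
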