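import Cfsg.Agent.Lib.U3F.RApi

/-!
# The action of `N(R)` on the singular points of `R/Z` (sketch in `notes/S3151_PLAN.md`)
-/

set_option autoImplicit false

namespace Cfsg.Lib.U3F.RR
open Subgroup Cfsg.Lib Cfsg.Lib.FT Cfsg.Lib.TwoL Cfsg.Lib.U3S

variable {G : Type*} [Group G] {F : Type*} [Field F] {τ : F ≃+* F} [Fact (Function.Involutive τ)] {s : Su G τ}
  (r : RR s)

/-- the points: `Y` is the point at infinity -/
def mobV : Option F → Subgroup G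
  | none => r.Y
  | some u => r.Pt u

/-- `g` moves the point `p` to `p'` -/
def Mv (g : G) (p p' : Option F) : Prop := ∀ x ∈ r.mobV p, g * x * g⁻¹ ∈ r.mobV p'

/-- the image of the pair `(0, ∞)` -/
def MPair (p p' : Option F) : Prop := ∃ g ∈ N[r.R], r.Mv g (some 0) p ∧ r.Mv g none p'

theorem mobV_le (p : Option F) : r.mobV p ≤ r.R := by
  cases p
  · exact r.YR
  · exact r.PtR _

theorem exists_mu_ne : ∃ e ∈ s.E, r.mu e ≠ 0 := by
  obtain ⟨⟨e, he⟩, h1⟩ := ne_bot_iff_exists_ne_one.1 s.neE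
  exact ⟨e, he, fun h => h1 (Subtype.ext (r.mu_inj e he h))⟩

theorem mobV_nz (p : Option F) : ∃ x ∈ r.mobV p, x ∉ s.Z := by
  cases p with
  | none =>
    obtain ⟨y, h1, h2, h3, h4⟩ := r.onto 1 (map_one τ)
    exact ⟨y, r.mem_Y.2 ⟨h1, h2, h4⟩, fun h => one_ne_zero (h3.symm.trans (r.mem_Z.1 h).2.2.1)⟩
  | some u =>
    obtain ⟨e, he, h1⟩ := r.exists_mu_ne
    obtain ⟨x, hx, x1, x2, x3⟩ := r.exists_elt (u * r.mu e) (c := u * τ u * r.mu e)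
      (by simp only [map_mul, ττ, r.mu_k e (r.ER he)]; ring) he
    exact ⟨x, r.mem_Pt.2 ⟨hx, by rw [x1, x3], by rw [x2, x3]⟩, fun h => h1 (x3.symm.trans (r.mem_Z.1 h).2.2.2)⟩

theorem pt_mu {u : F} {x : G} (h : x ∈ r.Pt u) (hZ : x ∉ s.Z) : r.mu x ≠ 0 := fun e => by
  obtain ⟨h1, h2, h3⟩ := r.mem_Pt.1 h
  exact hZ (r.mem_Z.2 ⟨h1, by rw [h2, e, mul_zero], by rw [h3, e, mul_zero], e⟩)

theorem mobV_disj {p p' : Option F} {x : G} (h : x ∈ r.mobV p) (h' : x ∈ r.mobV p') (hZ : x ∉ s.Z) : p = p' := by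
  cases p <;> cases p'
  · rfl
  · exact absurd (r.mem_Y.1 h).2.2 (r.pt_mu h' hZ)
  · exact absurd (r.mem_Y.1 h').2.2 (r.pt_mu h hZ)
  · exact congrArg some (mul_right_cancel₀ (r.pt_mu h hZ) ((r.mem_Pt.1 h).2.1.symm.trans (r.mem_Pt.1 h').2.1))

theorem bf_pt {u : F} {v : G} (hv : v ∈ r.Pt u) (x : G) :
    r.bf x v = r.mu v * (r.aa x * τ u + τ (r.aa x) * u + r.lam x + u * τ u * r.mu x) := by
  obtain ⟨h1, h2, h3⟩ := r.mem_Pt.1 hv
  simp only [bf, h2, h3, map_mul, r.mu_k v h1]; ring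

theorem bf_Y {v : G} (hv : v ∈ r.Y) (x : G) : r.bf x v = r.lam v * r.mu x := by
  obtain ⟨-, h2, h3⟩ := r.mem_Y.1 hv
  simp [bf, h2, h3]

theorem bf_pp {u u' : F} {v v' : G} (hv : v ∈ r.Pt u) (hv' : v' ∈ r.Pt u') :
    r.bf v v' = r.mu v * r.mu v' * ((u + u') * τ (u + u')) := by
  obtain ⟨h1, h2, h3⟩ := r.mem_Pt.1 hv
  rw [r.bf_pt hv', h2, h3]
  simp only [map_mul, map_add, r.mu_k v h1]; ring

theorem bf_symm (x y : G) : r.bf x y = r.bf y x := by simp only [bf]; ring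

theorem mobV_perp {p : Option F} {v v' x : G} (hv : v ∈ r.mobV p) (hZ : v ∉ s.Z) (hv' : v' ∈ r.mobV p)
    (h : r.bf x v = 0) : r.bf x v' = 0 := by
  cases p with
  | none =>
    obtain ⟨h1, h2, h3⟩ := r.mem_Y.1 hv
    rw [r.bf_Y hv] at h
    rw [r.bf_Y hv', (mul_eq_zero.1 h).resolve_left fun e => hZ (r.mem_Z.2 ⟨h1, h2, e, h3⟩), mul_zero]
  | some u =>
    rw [r.bf_pt hv] at h
    rw [r.bf_pt hv', (mul_eq_zero.1 h).resolve_left (r.pt_mu hv hZ), mul_zero]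

theorem mobV_qf (h0 : r.k0 = 0) {p : Option F} {v : G} (hv : v ∈ r.mobV p) : r.qf v = 0 := by
  cases p with
  | none =>
    obtain ⟨-, h2, h3⟩ := r.mem_Y.1 hv
    simp [qf, h2, h3, h0]
  | some u =>
    obtain ⟨h1, h2, h3⟩ := r.mem_Pt.1 hv
    simp only [qf, h2, h3, h0, map_mul, r.mu_k v h1]
    linear_combination (u * τ u * r.mu v ^ 2) * s.two

theorem Mv.one (p : Option F) : r.Mv 1 p p := fun x hx => by simpa using hx

theorem Mv.mul {g h : G} {p p' p'' : Option F} (a : r.Mv g p p') (b : r.Mv h p' p'') : r.Mv (h * g) p p'' :=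
  fun x hx => by simpa [mul_assoc] using b _ (a x hx)

theorem ρ_pow_co (j : ℕ) {x : G} (hx : x ∈ r.R) :
    r.aa (s.ρ ^ j * x * (s.ρ ^ j)⁻¹) = s.l ^ j * r.aa x ∧
      r.lam (s.ρ ^ j * x * (s.ρ ^ j)⁻¹) = s.l ^ j * τ (s.l ^ j) * r.lam x ∧
        r.mu (s.ρ ^ j * x * (s.ρ ^ j)⁻¹) = r.mu x := by
  induction j with
  | zero => simp
  | succ j ih =>
    have e : s.ρ ^ (j + 1) * x * (s.ρ ^ (j + 1))⁻¹ = s.ρ * (s.ρ ^ j * x * (s.ρ ^ j)⁻¹) * s.ρ⁻¹ := by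
      rw [pow_succ']; group
    have m := cj (pow_mem r.ρN j) hx
    rw [e, r.ρaa _ m, r.ρlam _ m, r.ρmu _ m, ih.1, ih.2.1, ih.2.2]
    refine ⟨by ring, ?_, rfl⟩
    simp only [pow_succ, map_mul]; ring

theorem mv_ρ_none (j : ℕ) : r.Mv (s.ρ ^ j) none none := fun x hx => by
  obtain ⟨h1, h2, h3⟩ := r.mem_Y.1 hx
  obtain ⟨a, -, c⟩ := r.ρ_pow_co j h1
  exact r.mem_Y.2 ⟨cj (pow_mem r.ρN j) h1, by rw [a, h2, mul_zero], by rw [c, h3]⟩

theorem mv_ρ_some (j : ℕ) (u : F) : r.Mv (s.ρ ^ j) (some u) (some (s.l ^ j * u)) := fun x hx => by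
  obtain ⟨h1, h2, h3⟩ := r.mem_Pt.1 hx
  obtain ⟨a, b, c⟩ := r.ρ_pow_co j h1
  exact r.mem_Pt.2 ⟨cj (pow_mem r.ρN j) h1, by rw [a, c, h2]; ring, by rw [b, c, h3, map_mul]; ring⟩

theorem MPair.base : r.MPair (some 0) none := ⟨1, one_mem _, Mv.one r _, Mv.one r _⟩

theorem MPair.mv {p p' a a' : Option F} (h : r.MPair p p') {k : G} (hk : k ∈ N[r.R]) (h1 : r.Mv k p a)
    (h2 : r.Mv k p' a') : r.MPair a a' := by
  obtain ⟨g, hg, g1, g2⟩ := h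
  exact ⟨k * g, mul_mem hk hg, g1.mul r h1, g2.mul r h2⟩

theorem MPair.pw {a b : F} (h : r.MPair (some a) (some b)) (j : ℕ) :
    r.MPair (some (s.l ^ j * a)) (some (s.l ^ j * b)) :=
  h.mv r (pow_mem r.ρN j) (r.mv_ρ_some j a) (r.mv_ρ_some j b)

variable [Finite G] [Finite F]

theorem cj_nZ {g x : G} (hg : g ∈ N[r.R]) (hx : x ∉ s.Z) : g * x * g⁻¹ ∉ s.Z := fun h =>
  hx (by simpa [mul_assoc] using cj' (r.nR_nZ hg) h)

theorem Mv.uniq {g : G} (hg : g ∈ N[r.R]) {p p' p'' : Option F} (a : r.Mv g p p') (b : r.Mv g p p'') : p' = p'' := by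
  obtain ⟨x, hx, hZ⟩ := r.mobV_nz p
  exact r.mobV_disj (a x hx) (b x hx) (r.cj_nZ hg hZ)

theorem exists_mv (h0 : r.k0 = 0) {g : G} (hg : g ∈ N[r.R]) (p : Option F) : ∃ p', r.Mv g p p' := by
  have m : ∀ x ∈ r.mobV p, g * x * g⁻¹ ∈ (r.mobV p).map (MulAut.conj g).toMonoidHom := fun x hx => ⟨x, hx, rfl⟩
  have := r.pts h0 (V := (r.mobV p).map (MulAut.conj g).toMonoidHom) ?_ ?_ ?_
  · rcases this with h | ⟨u, h⟩
    · exact ⟨none, fun x hx => h (m x hx)⟩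
    · exact ⟨some u, fun x hx => h (m x hx)⟩
  · rintro _ ⟨x, hx, rfl⟩; exact cj hg (r.mobV_le p hx)
  · rintro _ ⟨x, hx, rfl⟩
    have := (r.sq_iff (r.mobV_le p hx)).2 (r.mobV_qf h0 hx)
    change g * x * g⁻¹ * (g * x * g⁻¹) = 1
    rw [show g * x * g⁻¹ * (g * x * g⁻¹) = g * (x * x) * g⁻¹ by group, this]; group
  · rintro _ ⟨v, hv, rfl⟩ hZ _ ⟨v', hv', rfl⟩ x hx h
    have e : x = g * (g⁻¹ * x * g) * g⁻¹ := by group
    change r.bf x (g * v * g⁻¹) = 0 at h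
    change r.bf x (g * v' * g⁻¹) = 0
    rw [e, r.bf_conj hg (cj' hg hx) (r.mobV_le p hv)] at h
    rw [e, r.bf_conj hg (cj' hg hx) (r.mobV_le p hv')]
    exact r.mobV_perp hv (fun h' => hZ (cj (r.nR_nZ hg) h')) hv' h

theorem Mv.inv (h0 : r.k0 = 0) {g : G} (hg : g ∈ N[r.R]) {p p' : Option F} (a : r.Mv g p p') : r.Mv g⁻¹ p' p := by
  obtain ⟨p'', h⟩ := r.exists_mv h0 (inv_mem hg) p'
  have := a.mul r h
  rw [inv_mul_cancel] at this
  rwa [Mv.uniq r (one_mem _) (Mv.one r p) this]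

/-- the action on `Z` -/
theorem exists_zeta {g : G} (hg : g ∈ N[r.R]) : ∃ ζ : F → F,
    (∀ a b, τ a = a → τ b = b → ζ (a + b) = ζ a + ζ b) ∧ (∀ a, τ a = a → ζ a = 0 → a = 0) ∧
    (∀ x ∈ r.R, ∀ y ∈ r.R, r.bf (g * x * g⁻¹) (g * y * g⁻¹) = ζ (r.bf x y)) ∧
    ∀ x ∈ r.R, r.qf (g * x * g⁻¹) = ζ (r.qf x) := by
  have h : ∀ b : F, ∃ c, τ c = c ∧ s.zc c = g * s.zc b * g⁻¹ := fun b =>
    s.mem_Z.1 (cj (r.nR_nZ hg) (s.zc_mem b))
  choose ζ h1 h2 using h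
  refine ⟨ζ, fun a b ha hb => s.zc_inj (h1 _) (by rw [map_add, h1, h1]) ?_, fun a ha e => ?_,
    fun x hx y hy => s.zc_inj (r.bf_k (cj hg hx) (cj hg hy)) (h1 _) ?_,
    fun x hx => s.zc_inj (r.qf_k (cj hg hx)) (h1 _) ?_⟩
  · rw [s.zc_add (h1 _) (h1 _), h2, h2, h2, s.zc_add ha hb]; group
  · have := h2 a
    rw [e, s.zc_zero] at this
    exact (s.zc_eq_one ha).1 (by simpa [mul_assoc] using congrArg (fun x => g⁻¹ * x * g) this.symm)
  · rw [h2, ← r.comm' hx hy, ← r.comm' (cj hg hx) (cj hg hy)]; group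
  · rw [h2, ← r.sq' hx, ← r.sq' (cj hg hx)]; group

/-- the standing assumption: `N(R) ∩ N(Y)` fixes the point `0` -/
structure MH : Prop where
  h0 : r.k0 = 0
  fx : ∀ g ∈ N[r.R], r.Mv g none none → r.Mv g (some 0) (some 0)

namespace MH
variable {r} (H : r.MH)
include H

theorem fx' {g : G} (hg : g ∈ N[r.R]) (h : r.Mv g (some 0) (some 0)) : r.Mv g none none := fun x hx =>
  cj (r.nA_nY H.h0 hg (mem_n (by simpa [Mv, mobV, r.Pt_zero] using h))) hx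

theorem func {p p' p'' : Option F} (a : r.MPair p p') (b : r.MPair p p'') : p' = p'' := by
  obtain ⟨g, hg, g1, g2⟩ := a
  obtain ⟨h, hh, h1, h2⟩ := b
  have := (H.fx' (mul_mem (inv_mem hh) hg) (g1.mul r (h1.inv r H.h0 hh))).mul r h2
  rw [mul_inv_cancel_left] at this
  exact g2.uniq r hg this

theorem inj {p p' p'' : Option F} (a : r.MPair p' p) (b : r.MPair p'' p) : p' = p'' := by
  obtain ⟨g, hg, g1, g2⟩ := a
  obtain ⟨h, hh, h1, h2⟩ := b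
  have := (H.fx _ (mul_mem (inv_mem hh) hg) (g2.mul r (h2.inv r H.h0 hh))).mul r h1
  rw [mul_inv_cancel_left] at this
  exact g1.uniq r hg this

theorem ne {p : Option F} (a : r.MPair p p) : False := by
  obtain ⟨g, hg, g1, g2⟩ := a
  simpa using (g1.inv r H.h0 hg).uniq r (inv_mem hg) (g2.inv r H.h0 hg)

theorem back {p p' p'' : Option F} (a : r.MPair p p') (b : r.MPair p' p'') : p'' = p := by
  obtain ⟨g, hg, g1, g2⟩ := a
  obtain ⟨h, hh, h1, h2⟩ := b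
  have hk : g⁻¹ * h ∈ N[r.R] := mul_mem (inv_mem hg) hh
  have k1 : r.Mv (g⁻¹ * h) (some 0) none := h1.mul r (g2.inv r H.h0 hg)
  obtain ⟨a, ha⟩ := r.exists_mv H.h0 hk none
  have hρ : s.ρ ^ 1 ∈ N[r.R] := pow_mem r.ρN 1
  have k2 := ((H.fx' (mul_mem (inv_mem hk) (mul_mem hρ hk))
    ((k1.mul r (r.mv_ρ_none 1)).mul r (k1.inv r H.h0 hk))).mul r ha)
  rw [mul_inv_cancel_left] at k2
  have k3 := (ha.inv r H.h0 hk).mul r k2
  rw [mul_inv_cancel_right] at k3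
  have a0 : a = some 0 := by
    cases a with
    | none => simpa using (k1.inv r H.h0 hk).uniq r (inv_mem hk) (ha.inv r H.h0 hk)
    | some b =>
      have := Option.some.inj (k3.uniq r hρ (r.mv_ρ_some 1 b))
      by_contra hb
      have b0 : b ≠ 0 := fun e => hb (by rw [e])
      have : s.l = 1 := mul_right_cancel₀ b0 (by rw [one_mul]; simpa using this.symm)
      exact s.lτ (by rw [this, map_one])
  have := (a0 ▸ ha).mul r g1
  rw [mul_inv_cancel_left] at this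
  exact h2.uniq r hh this

/-- the partner of a point `u ≠ 0, ∞` is `c u` with `c ∉ ⟨l⟩` -/
theorem partner {u : F} (hu : u ≠ 0) {p : Option F} (a : r.MPair (some u) p) :
    ∃ c : F, c ≠ 0 ∧ (∀ j : ℕ, s.l ^ j ≠ c) ∧ p = some (c * u) := by
  cases p with
  | none => exact absurd (Option.some.inj (H.inj a (MPair.base r))) hu
  | some v =>
    have v0 : v ≠ 0 := fun e => by cases H.back a (e ▸ MPair.base r)
    refine ⟨v / u, div_ne_zero v0 hu, fun j e => ?_, by rw [div_mul_cancel₀ _ hu]⟩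
    have e1 : s.l ^ j * u = v := by rw [e, div_mul_cancel₀ _ hu]
    have := Option.some.inj (H.back a (e1 ▸ a.pw r j))
    have e2 : s.l ^ j = 1 := s.sq_inj (mul_right_cancel₀ hu (by rw [← e1] at this; linear_combination this))
    rw [e2, one_mul] at e1
    exact H.ne (e1 ▸ a)

omit H in
/-- `F^*/⟨l⟩` has order at most three -/
theorem coset {c : F} (c0 : c ≠ 0) (hc : ∀ j : ℕ, s.l ^ j ≠ c) {x : F} (hx : x ≠ 0) :
    ∃ j : ℕ, x = s.l ^ j ∨ x = s.l ^ j * c ∨ x = s.l ^ j * c ^ 2 := by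
  obtain ⟨γ, hγ⟩ := IsCyclic.exists_monoid_generator (α := Fˣ)
  have pw : ∀ y : F, y ≠ 0 → ∃ n : ℕ, (γ : F) ^ n = y := fun y hy => by
    obtain ⟨n, hn⟩ := hγ (Units.mk0 y hy)
    exact ⟨n, by simpa using congrArg Units.val hn⟩
  obtain ⟨a, rfl⟩ := pw x hx
  obtain ⟨b, rfl⟩ := pw c c0
  have cb : ∀ n m : ℕ, n % 3 = m % 3 → ∃ j : ℕ, (γ : F) ^ n = s.l ^ j * (γ : F) ^ m := fun n m e => by
    obtain ⟨j, hj⟩ := s.cube ((γ : F) ^ (n / 3) / (γ : F) ^ (m / 3)) (by simp)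
    refine ⟨j, ?_⟩
    rw [hj]
    conv_lhs => rw [← Nat.div_add_mod n 3, e]
    conv_rhs => rw [← Nat.div_add_mod m 3]
    simp only [pow_add, pow_mul', Nat.mul_add_div, Nat.mul_add_mod]
    field_simp
    simp [Nat.mul_add_div, Nat.div_eq_of_lt (Nat.mod_lt m (by norm_num : 0 < 3))]
  have b0 : b % 3 ≠ 0 := fun e => by
    obtain ⟨j, hj⟩ := cb b 0 e
    exact hc j (by simpa using hj.symm)
  have : a % 3 = 0 % 3 ∨ a % 3 = b % 3 ∨ a % 3 = (b * 2) % 3 := by omega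
  rcases this with e | e | e <;> obtain ⟨j, hj⟩ := cb _ _ e
  · exact ⟨j, .inl (by simpa using hj)⟩
  · exact ⟨j, .inr (.inl hj)⟩
  · exact ⟨j, .inr (.inr (by rw [hj, pow_mul]))⟩

theorem pairs {u c : F} (hu : u ≠ 0) (c0 : c ≠ 0) (hc : ∀ j : ℕ, s.l ^ j ≠ c) (a : r.MPair (some u) (some (c * u)))
    {p p' : F} (hp : p ≠ 0) (b : r.MPair (some p) (some p')) : p' = c * p ∨ p = c * p' := by
  have A : ∀ (j : ℕ) {x y : F}, r.MPair (some x) (some y) → (x = s.l ^ j * u ∨ y = s.l ^ j * (c * u) → y = c * x) ∧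
      (x = s.l ^ j * (c * u) ∨ y = s.l ^ j * u → x = c * y) := fun j x y h => by
    refine ⟨?_, ?_⟩
    · rintro (e | e)
      · rw [Option.some.inj (H.func h (e ▸ a.pw r j)), e]; ring
      · rw [Option.some.inj (H.inj h (e ▸ a.pw r j)), e]; ring
    · rintro (e | e)
      · have := Option.some.inj (H.back (a.pw r j) (p'' := some y) (e ▸ h))
        rw [this, e]; ring
      · have := Option.some.inj (H.back h (p'' := some (s.l ^ j * (c * u))) (e ▸ a.pw r j))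
        rw [← this, e]; ring
  obtain ⟨d, d0, hd, e⟩ := H.partner hp b
  have e := Option.some.inj e
  obtain ⟨j, h | h | h⟩ := coset c0 hc (div_ne_zero hp hu)
  · exact .inl ((A j b).1 (.inl (by rw [← h]; field_simp)))
  · exact .inr ((A j b).2 (.inl (by rw [← mul_assoc, ← h]; field_simp)))
  obtain ⟨i, k | k | k⟩ := coset c0 hc (div_ne_zero (e ▸ mul_ne_zero d0 hp : p' ≠ 0) hu)
  · exact .inr ((A i b).2 (.inr (by rw [← k]; field_simp)))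
  · exact .inl ((A i b).1 (.inr (by rw [← mul_assoc, ← k]; field_simp)))
  exfalso
  have l0 := s.l_ne
  have o : 0 < orderOf s.ρ := orderOf_pos _
  refine hd (i + j * (orderOf s.ρ - 1)) (mul_right_cancel₀ (pow_ne_zero j l0) ?_)
  rw [← pow_add, show i + j * (orderOf s.ρ - 1) + j = i + orderOf s.ρ * j by
    obtain ⟨n, hn⟩ := Nat.exists_eq_add_of_lt o; rw [hn]; simp; ring, pow_add, pow_mul, s.l_pow, one_pow, mul_one]
  rw [e] at k
  apply mul_right_cancel₀ (pow_ne_zero 2 c0)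
  rw [← k, mul_assoc, ← h]; field_simp

theorem contra {g : G} (hg : g ∈ N[r.R]) {u : F} (hu : u ≠ 0) (g1 : r.Mv g (some 0) (some u)) : False := by
  obtain ⟨p, g2⟩ := r.exists_mv H.h0 hg none
  have a : r.MPair _ _ := ⟨g, hg, g1, g2⟩
  obtain ⟨c, c0, hc, rfl⟩ := H.partner hu a
  have two := s.two
  have nz : ∀ {x : F}, x ≠ 0 → x * τ x ≠ 0 := fun h => mul_ne_zero h (by simpa using h)
  have n1 : (c * u + u) * τ (c * u + u) ≠ 0 := nz fun e => hc 0 (mul_right_cancel₀ hu (by linear_combination e - c * u * two))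
  obtain ⟨ζ, z1, z2, z3, z4⟩ := r.exists_zeta hg
  have EA : ∀ e ∈ s.E, e ∈ r.mobV (some 0) := fun e he => by
    change e ∈ r.Pt 0; rw [r.Pt_zero]; exact mem_sup_left he
  -- elements of `Y`
  have hy : ∀ m : {m : F // τ m = m}, ∃ y ∈ r.Y, r.lam y = m := fun m => by
    obtain ⟨y, h1, h2, h3, h4⟩ := r.onto m m.2
    exact ⟨y, r.mem_Y.2 ⟨h1, h2, h4⟩, h3⟩
  choose y y1 y2 using hy
  have yR := fun m => r.YR (y1 m)
  have onto : ∀ n, τ n = n → ∃ e ∈ s.E, r.mu e = n := fun n hn => by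
    have : Function.Injective fun m : {m : F // τ m = m} =>
        (⟨r.mu (g * y m * g⁻¹), r.mu_k _ (cj hg (yR m))⟩ : {m : F // τ m = m}) := fun m m' e => by
      have e : r.mu (g * y m * g⁻¹) = r.mu (g * y m' * g⁻¹) := congrArg Subtype.val e
      by_contra ne
      refine r.pt_mu (g2 _ (mul_mem (y1 m) (y1 m'))) (r.cj_nZ hg fun h => ne (Subtype.ext ?_)) ?_
      · have := (r.mem_Z.1 h).2.2.1
        rw [r.lam_mul _ (yR m) _ (yR m'), y2, y2] at this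
        linear_combination this - m'.1 * two
      · rw [show g * (y m * y m') * g⁻¹ = g * y m * g⁻¹ * (g * y m' * g⁻¹) by group,
          r.mu_mul _ (cj hg (yR m)) _ (cj hg (yR m')), e, s.add_self]
    obtain ⟨m, hm⟩ := Finite.injective_iff_surjective.1 this ⟨n, hn⟩
    obtain ⟨e, he, h⟩ := r.rng _ (cj hg (yR m))
    exact ⟨e, he, h.symm.trans (congrArg Subtype.val hm)⟩
  have ye : ∀ m, ∀ e ∈ s.E, ζ (m.1 * r.mu e) =
      r.mu (g * y m * g⁻¹) * r.mu (g * e * g⁻¹) * ((c * u + u) * τ (c * u + u)) := fun m e he => by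
    rw [← r.bf_pp (g2 _ (y1 m)) (g1 _ (EA e he)), z3 _ (yR m) _ (r.ER he), r.bf_symm, r.bf_Y (y1 m), y2]
  obtain ⟨e1, he1, m1⟩ := onto 1 (map_one τ)
  have zm : ∀ m n, τ m = m → τ n = n → ζ (m * n) * ζ 1 = ζ m * ζ n := fun m n hm hn => by
    obtain ⟨e, he, rfl⟩ := onto n hn
    have a1 := ye ⟨m, hm⟩ e he
    have a2 := ye ⟨1, map_one τ⟩ e1 he1
    have a3 := ye ⟨m, hm⟩ e1 he1
    have a4 := ye ⟨1, map_one τ⟩ e he
    simp only [m1, mul_one, one_mul] at a1 a2 a3 a4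
    rw [a1, a2, a3, a4]; ring
  have zeta1 := ye ⟨1, map_one τ⟩ e1 he1
  simp only [m1, mul_one] at zeta1
  set y1' := y ⟨1, map_one τ⟩ with hy1'
  have yY : y1' ∈ r.Y := y1 _
  have yl : r.lam y1' = 1 := y2 _
  have z10 : ζ 1 ≠ 0 := fun e => one_ne_zero (z2 1 (map_one τ) e)
  obtain ⟨j, w1, w2⟩ := s.exists_w
  have hκ : s.ρ ^ j ∈ N[r.R] := pow_mem r.ρN j
  have tw : τ (s.l ^ j + τ (s.l ^ j)) = s.l ^ j + τ (s.l ^ j) := by rw [map_add, ττ, add_comm]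
  have t0 : ζ (s.l ^ j + τ (s.l ^ j)) ≠ 0 := fun e => w2 (s.sq_inj (by
    have := z2 _ tw e
    linear_combination w1 + s.l ^ j * this - s.l ^ j * τ (s.l ^ j) * two))
  -- the pulled back points
  have hk : g * s.ρ ^ j * g⁻¹ ∈ N[r.R] := mul_mem (mul_mem hg hκ) (inv_mem hg)
  have cv : ∀ x : G, g * s.ρ ^ j * g⁻¹ * x * (g * s.ρ ^ j * g⁻¹)⁻¹ =
      g * (s.ρ ^ j * (g⁻¹ * x * g) * (s.ρ ^ j)⁻¹) * g⁻¹ := fun x => by group
  have cw : ∀ x : G, x = g * (g⁻¹ * x * g) * g⁻¹ := fun x => by group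
  have tk : ∀ a b : F, τ (a * τ b + τ a * b) = a * τ b + τ a * b := fun a b => by
    simp only [map_add, map_mul, ττ]; ring
  have nk : ∀ a : F, τ (a * τ a) = a * τ a := fun a => by simp only [map_mul, ττ]; ring
  have kE : ∀ x ∈ r.R, r.bf (g * s.ρ ^ j * g⁻¹ * x * (g * s.ρ ^ j * g⁻¹)⁻¹) (g * e1 * g⁻¹) = ζ (r.lam (g⁻¹ * x * g)) ∧
      r.bf x (g * e1 * g⁻¹) = ζ (r.lam (g⁻¹ * x * g)) := fun x hx => by
    obtain ⟨b1, b2, b3⟩ := r.ρ_pow_co j (cj' hg hx)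
    refine ⟨?_, ?_⟩
    · rw [cv, z3 _ (cj hκ (cj' hg hx)) _ (r.ER he1)]
      simp [bf, r.aa_E e1 he1, r.lam_E e1 he1, m1, b2, -map_pow, w1]
    · conv_lhs => rw [cw x, z3 _ (cj' hg hx) _ (r.ER he1)]
      simp [bf, r.aa_E e1 he1, r.lam_E e1 he1, m1]
  have kY : ∀ x ∈ r.R, r.bf (g * s.ρ ^ j * g⁻¹ * x * (g * s.ρ ^ j * g⁻¹)⁻¹) (g * y1' * g⁻¹) = ζ (r.mu (g⁻¹ * x * g)) ∧
      r.bf x (g * y1' * g⁻¹) = ζ (r.mu (g⁻¹ * x * g)) := fun x hx => by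
    obtain ⟨b1, b2, b3⟩ := r.ρ_pow_co j (cj' hg hx)
    refine ⟨?_, ?_⟩
    · rw [cv, z3 _ (cj hκ (cj' hg hx)) _ (r.YR yY), r.bf_Y yY, yl, b3, one_mul]
    · conv_lhs => rw [cw x, z3 _ (cj' hg hx) _ (r.YR yY), r.bf_Y yY, yl, one_mul]
  have kk : ∀ x ∈ r.R, ∀ x' ∈ r.R, (r.bf (g * s.ρ ^ j * g⁻¹ * x * (g * s.ρ ^ j * g⁻¹)⁻¹) x' +
      r.bf (g * s.ρ ^ j * g⁻¹ * x' * (g * s.ρ ^ j * g⁻¹)⁻¹) x) * ζ 1 = ζ (s.l ^ j + τ (s.l ^ j)) *
        ζ (r.aa (g⁻¹ * x * g) * τ (r.aa (g⁻¹ * x' * g)) + τ (r.aa (g⁻¹ * x * g)) * r.aa (g⁻¹ * x' * g)) :=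
    fun x hx x' hx' => by
      obtain ⟨b1, b2, b3⟩ := r.ρ_pow_co j (cj' hg hx)
      obtain ⟨c1, c2, c3⟩ := r.ρ_pow_co j (cj' hg hx')
      rw [cv, cv]
      conv_lhs => enter [1, 1, 3]; rw [cw x']
      conv_lhs => enter [1, 2, 3]; rw [cw x]
      rw [z3 _ (cj hκ (cj' hg hx)) _ (cj' hg hx'), z3 _ (cj hκ (cj' hg hx')) _ (cj' hg hx),
        ← z1 _ _ (r.bf_k (cj hκ (cj' hg hx)) (cj' hg hx')) (r.bf_k (cj hκ (cj' hg hx')) (cj' hg hx)),
        ← zm _ _ tw (tk _ _)]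
      congr 2
      simp only [bf, b1, b2, b3, c1, c2, c3, w1, map_mul]
      linear_combination (r.lam (g⁻¹ * x * g) * r.mu (g⁻¹ * x' * g) + r.lam (g⁻¹ * x' * g) * r.mu (g⁻¹ * x * g)) * two
  have k1 : ∀ x ∈ r.R, r.qf x = 0 → r.bf (g * s.ρ ^ j * g⁻¹ * x * (g * s.ρ ^ j * g⁻¹)⁻¹) x * ζ 1 ^ 2 =
      ζ (s.l ^ j + τ (s.l ^ j)) * (ζ (r.lam (g⁻¹ * x * g)) * ζ (r.mu (g⁻¹ * x * g))) := fun x hx hq => by
    obtain ⟨b1, b2, b3⟩ := r.ρ_pow_co j (cj' hg hx)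
    have q0 : r.qf (g⁻¹ * x * g) = 0 := z2 _ (r.qf_k (cj' hg hx)) (by rw [← z4 _ (cj' hg hx), ← cw, hq])
    rw [cv]
    conv_lhs => enter [1, 3]; rw [cw x]
    rw [z3 _ (cj hκ (cj' hg hx)) _ (cj' hg hx), ← zm _ _ (r.lam_k _ (cj' hg hx)) (r.mu_k _ (cj' hg hx)),
      ← mul_assoc (ζ _), ← zm _ _ tw (by rw [map_mul, r.lam_k _ (cj' hg hx), r.mu_k _ (cj' hg hx)]), pow_two,
      ← mul_assoc (ζ _)]
    congr 3
    simp only [bf, qf, b1, b2, b3, w1, map_mul, H.h0, add_zero] at q0 ⊢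
    linear_combination (s.l ^ j + τ (s.l ^ j)) * q0 + (1 - (s.l ^ j + τ (s.l ^ j))) *
      (r.lam (g⁻¹ * x * g) * r.mu (g⁻¹ * x * g)) * two
  have e1R := r.ER he1
  have yR' := r.YR yY
  have kb : ζ (r.aa (g⁻¹ * e1 * g) * τ (r.aa (g⁻¹ * y1' * g)) + τ (r.aa (g⁻¹ * e1 * g)) * r.aa (g⁻¹ * y1' * g)) * ζ 1 =
      ζ 1 + ζ (r.lam (g⁻¹ * e1 * g)) * ζ (r.mu (g⁻¹ * y1' * g)) +
        ζ (r.lam (g⁻¹ * y1' * g)) * ζ (r.mu (g⁻¹ * e1 * g)) := by
    have := z3 _ (cj' hg e1R) _ (cj' hg yR')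
    have la := r.lam_k _ (cj' hg e1R)
    have lb := r.lam_k _ (cj' hg yR')
    have ma := r.mu_k _ (cj' hg e1R)
    have mb := r.mu_k _ (cj' hg yR')
    rw [← cw, ← cw, r.bf_Y yY, yl, m1, one_mul, bf, z1 _ _ (by rw [map_add, tk, map_mul, la, mb])
      (by rw [map_mul, lb, ma]), z1 _ _ (tk _ _) (by rw [map_mul, la, mb])] at this
    rw [← zm _ _ la mb, ← zm _ _ lb ma]
    linear_combination -ζ 1 * this - (ζ (r.lam (g⁻¹ * e1 * g) * r.mu (g⁻¹ * y1' * g)) +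
      ζ (r.lam (g⁻¹ * y1' * g) * r.mu (g⁻¹ * e1 * g))) * ζ 1 * two
  have P1 := g1 _ (EA e1 he1)
  have P2 := g2 _ yY
  change _ ∈ r.Pt u at P1
  change _ ∈ r.Pt (c * u) at P2
  obtain ⟨A1, A2⟩ := kE _ e1R
  obtain ⟨B1, B2⟩ := kE _ yR'
  obtain ⟨C1', C2⟩ := kY _ e1R
  obtain ⟨D1, D2⟩ := kY _ yR'
  have K0 := k1 _ e1R (r.mobV_qf H.h0 (EA e1 he1))
  have K1 := k1 _ yR' (r.mobV_qf H.h0 (p := none) yY)
  have KK := kk _ e1R _ yR'
  have e0 : e1 ∈ r.Pt 0 := EA e1 he1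
  rw [r.bf_pp e0 P1, m1, zero_add, one_mul] at A2
  rw [r.bf_pp e0 P2, m1, zero_add, one_mul] at C2
  rw [r.bf_symm, r.bf_Y yY, yl, one_mul] at B2 D2
  obtain ⟨p, hp⟩ := r.exists_mv H.h0 hk (some 0)
  obtain ⟨p', hp'⟩ := r.exists_mv H.h0 hk none
  have b : r.MPair p p' := ⟨_, hk, hp, hp'⟩
  have Q1 := hp _ e0
  have Q2 := hp' _ yY
  generalize g * s.ρ ^ j * g⁻¹ * e1 * (g * s.ρ ^ j * g⁻¹)⁻¹ = x0 at *
  generalize g * s.ρ ^ j * g⁻¹ * y1' * (g * s.ρ ^ j * g⁻¹)⁻¹ = x1 at *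
  rw [← A2] at A1 K0 kb
  rw [← B2] at B1 K1 kb
  rw [← C2] at C1' K0 kb
  rw [← D2] at D1 K1 kb
  generalize ζ (r.aa (g⁻¹ * e1 * g) * τ (r.aa (g⁻¹ * y1' * g)) + τ (r.aa (g⁻¹ * e1 * g)) * r.aa (g⁻¹ * y1' * g)) = T
    at KK kb
  generalize ζ (s.l ^ j + τ (s.l ^ j)) = t at *
  have α0 : r.mu (g * e1 * g⁻¹) ≠ 0 := fun e => z10 (by rw [zeta1, e]; ring)
  have β0 : r.mu (g * y1' * g⁻¹) ≠ 0 := fun e => z10 (by rw [zeta1, e]; ring)
  have fin : c + τ c = 0 → False := fun e => by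
    obtain ⟨i, hi⟩ := s.exists_pow (c := c) (by linear_combination e - c * two) c0
    exact hc i hi
  have nu := nz hu
  have nc := nz c0
  have n2 : (c + 1) * τ (c + 1) ≠ 0 := fun e => n1 (by
    simp only [map_add, map_mul, map_one] at e ⊢; linear_combination (u * τ u) * e)
  simp only [map_add, map_mul, map_one] at n2 zeta1 kb K0 C1' n1
  -- `T = Tr c / N (1 + c)`
  have hT : T * ((c + 1) * (τ c + 1)) = c + τ c := by
    apply mul_left_cancel₀ (mul_ne_zero (mul_ne_zero α0 β0) nu)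
    rw [zeta1] at kb
    linear_combination kb + r.mu (g * e1 * g⁻¹) * r.mu (g * y1' * g⁻¹) * (u * τ u) * (c * τ c + 1) * two
  have tt := mul_ne_zero t0 (mul_ne_zero α0 β0)
  cases p' with
  | none =>
    rw [r.bf_Y yY, (r.mem_Y.1 Q2).2.2] at K1
    exact tt (by linear_combination -K1)
  | some p' =>
  cases p with
  | none =>
    have : p' = 0 := Option.some.inj (H.back (MPair.base r) b)
    subst this
    rw [r.bf_Y yY, (r.mem_Y.1 Q1).2.2, r.bf_pp Q2 e0] at KK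
    have : T = 0 := mul_left_cancel₀ t0 (by simpa using KK.symm)
    exact fin (by rw [← hT, this, zero_mul])
  | some p =>
  change _ ∈ r.Pt p at Q1
  change _ ∈ r.Pt p' at Q2
  rw [r.bf_pp Q1 P1] at A1
  rw [r.bf_pp Q1 P2] at C1'
  rw [r.bf_pp Q2 P1] at B1
  rw [r.bf_pp Q2 P2] at D1
  rw [r.bf_pp Q1 e0] at K0
  rw [r.bf_Y yY] at K1
  rw [r.bf_Y yY, r.bf_pp Q2 e0] at KK
  simp only [yl, m1, add_zero, mul_one, one_mul, map_add, map_mul] at A1 C1' B1 D1 K0 K1 KK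
  have zz := pow_ne_zero 2 z10
  have a10 : r.mu x1 ≠ 0 := fun e => tt (by rw [← K1, e, zero_mul])
  have p0 : p ≠ 0 := fun e => mul_ne_zero tt (mul_ne_zero (mul_ne_zero nu nu) nc) (by
    rw [e] at K0; linear_combination -K0)
  have L0 : r.mu x0 * (p * τ p) = r.mu x1 * (c * τ c) * (u * τ u) ^ 2 :=
    mul_right_cancel₀ zz (by linear_combination K0 - c * τ c * (u * τ u) ^ 2 * K1)
  have L1 : r.mu x0 + r.mu x1 * (p' * τ p') = r.mu x1 * (u * τ u) * (c + τ c) :=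
    mul_right_cancel₀ zz (by
      linear_combination ζ 1 * KK - u * τ u * (c + τ c) * K1 + t * T * zeta1 +
        t * r.mu (g * e1 * g⁻¹) * r.mu (g * y1' * g⁻¹) * (u * τ u) * hT)
  have A : r.mu x0 * ((p + u) * (τ p + τ u)) = u * τ u := mul_left_cancel₀ α0 (by linear_combination A1)
  have B : r.mu x1 * ((p' + u) * (τ p' + τ u)) = 1 := mul_left_cancel₀ α0 (by linear_combination B1)
  have C : r.mu x0 * ((p + c * u) * (τ p + τ c * τ u)) = c * τ c * (u * τ u) :=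
    mul_left_cancel₀ β0 (by linear_combination C1')
  have D : r.mu x1 * ((p' + c * u) * (τ p' + τ c * τ u)) = 1 := mul_left_cancel₀ β0 (by linear_combination D1)
  refine fin (mul_left_cancel₀ (mul_ne_zero a10 nu) ?_)
  rcases H.pairs hu c0 hc a p0 b with e | e <;> subst e <;> simp only [map_mul] at *
  · have E1 : r.mu x0 = r.mu x1 * (c * τ c) * (u * τ u) := by
      linear_combination -r.mu x0 * D + r.mu x1 * (c * τ c) * A
    have E2 : p * τ p = u * τ u := mul_left_cancel₀ (mul_ne_zero (mul_ne_zero a10 nc) nu) (by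
      linear_combination L0 - p * τ p * E1)
    linear_combination -L1 + E1 + r.mu x1 * (c * τ c) * E2 + r.mu x1 * (c * τ c) * (u * τ u) * two
  · have E1 : r.mu x0 = r.mu x1 * (u * τ u) := mul_left_cancel₀ nc (by
      linear_combination -r.mu x0 * (c * τ c) * B + r.mu x1 * C)
    have E2 : p' * τ p' = u * τ u := mul_left_cancel₀ (mul_ne_zero (mul_ne_zero a10 nc) nu) (by
      linear_combination L0 - c * τ c * (p' * τ p') * E1)
    linear_combination -L1 + E1 + r.mu x1 * E2 + r.mu x1 * (u * τ u) * two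

end MH

/-- if `N(R)` moves `A` to a point `u ≠ 0`, then so does `N(R) ∩ N(Y)` -/
theorem mob (h0 : r.k0 = 0) {g : G} (h : g ∈ N[r.R]) {u : F} (hu : u ≠ 0) (hA : ∀ a ∈ s.A, g * a * g⁻¹ ∈ r.Pt u) :
    ∃ g' ∈ N[r.R], g' ∈ N[r.Y] ∧ ∃ u' : F, u' ≠ 0 ∧ ∀ a ∈ s.A, g' * a * g'⁻¹ ∈ r.Pt u' := by
  by_contra! hc
  refine MH.contra ⟨h0, fun k hk k1 => ?_⟩ h hu (by simpa [Mv, mobV, r.Pt_zero] using hA)
  obtain ⟨p, hp⟩ := r.exists_mv h0 hk (some 0)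
  cases p with
  | none => simpa using (hp.inv r h0 hk).uniq r (inv_mem hk) (k1.inv r h0 hk)
  | some v =>
    by_cases hv : v = 0
    · exact hv ▸ hp
    obtain ⟨a, ha, h1⟩ := hc k hk (mem_n k1) v hv
    exact absurd (hp a (by change a ∈ r.Pt 0; rwa [r.Pt_zero])) h1

end Cfsg.Lib.U3F.RR
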