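import Cfsg.Agent.Lib.U3F.ModelA
import Cfsg.Agent.Lib.CI2.Final
import Cfsg.Agent.Lib.Quad.ZStarUse

/-!
# Consequences of the coordinates on `PSU(3, q)`
-/

set_option autoImplicit false

namespace Cfsg.Lib.U3F
open Subgroup Cfsg.Lib Cfsg.Lib.FT Cfsg.Lib.Suz

variable {F : Type*} [Field F] {τ : F ≃+* F} [hτ : Fact (Function.Involutive τ)]

theorem u3_sq (h2 : (2 : F) = 0) (x : U3S τ) : x * x = 1 ↔ x.a = 0 := by
  rw [U3S.ext_iff, U3S.sq_a h2, U3S.sq_b h2]; simp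

namespace Mod
variable {X : Type*} [Group X] [Finite X] {u : U3S τ →* X} {k t : X} {l : F} {H : Subgroup X}
  (h : Mod u k t l H) (h2 : (2 : F) = 0)
include h

omit [Finite X] in
theorem conj_pow (i : ℕ) (x : U3S τ) : k ^ i * u x * (k ^ i)⁻¹ = u (scl (l ^ i) x) := by
  induction i with
  | zero => simp [scl]
  | succ i ih =>
    rw [show k ^ (i + 1) * u x * (k ^ (i + 1))⁻¹ = k * (k ^ i * u x * (k ^ i)⁻¹) * k⁻¹ by group, ih, h.conj]
    exact congrArg u (U3S.ext (by simp [scl]; ring) (by simp [scl]; ring))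

include h2

theorem four [IsSimpleGroup X] : ∃ c, τ c = c ∧ c ≠ 0 ∧ c ≠ 1 := by
  by_contra hn
  push Not at hn
  let s : U3S τ := U3S.cen 1 (by simpa [← two_mul] using h2)
  have s2 : u s * u s = 1 := by rw [← map_mul, (u3_sq h2 s).2 rfl, map_one]
  have s1 : u s ≠ 1 := fun e => by simpa [s] using congrArg U3S.b (h.inj (e.trans (map_one u).symm))
  refine Quad.not_isolated_of_simple h.ro.center_eq_bot (u s) ⟨orderOf_eq_prime (by rwa [sq]) s1, fun g hg => ?_⟩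
  have y2 : g * u s * g⁻¹ * (g * u s * g⁻¹) = 1 := by simp [mul_assoc, ← mul_assoc (u s) (u s), s2]
  obtain ⟨x, hx⟩ := h.ro.mem_Q_of_sq (h.ro.mem_H_of_comm ⟨s, rfl⟩ s1 hg.symm) y2
  rw [← hx, ← map_mul, ← map_one u, h.inj.eq_iff, u3_sq h2] at y2
  rw [← hx]
  refine congrArg u (U3S.ext y2 (hn _ (U3S.fix_of_a h2 y2) fun e => s1 ?_))
  rw [show x = 1 from U3S.ext y2 e, map_one] at hx
  simpa [mul_assoc] using congrArg (fun y => g⁻¹ * y * g) hx.symm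

variable (h4 : ∃ c, τ c = c ∧ c ≠ 0 ∧ c ≠ 1) (hω : ∃ ω, τ ω ≠ ω)
include h4

omit [Finite X] h2 in
theorem nu_ne : l * τ l ≠ 1 := fun e => by
  obtain ⟨c, c1, c2, c3⟩ := h4
  obtain ⟨i, hi⟩ := h.gen c c1 c2
  exact c3 (by rw [← hi, e, one_pow])

omit [Finite X] h2 in
theorem fpf {x : U3S τ} (e : scl l x = x) : x = 1 := by
  have h1 : l ≠ 1 := fun e => h.nu_ne h4 (by simp [e])
  exact U3S.ext (eq_zero_of_mul_eq_self_left h1 (congrArg U3S.a e))
    (eq_zero_of_mul_eq_self_left (h.nu_ne h4) (congrArg U3S.b e))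

omit [Finite X] in
theorem rank2 : Rank2 u.range := by
  obtain ⟨c, c1, c2, c3⟩ := h4
  have a : ∀ b, τ b = b → b ≠ 0 → ∃ x : U3S τ, x.b = b ∧ u x * u x = 1 ∧ u x ≠ 1 := fun b hb h0 =>
    ⟨U3S.cen b (by rw [hb, ← two_mul, h2, zero_mul]), rfl, by rw [← map_mul, (u3_sq h2 _).2 rfl, map_one],
      fun e => h0 (congrArg U3S.b (h.inj (e.trans (map_one u).symm)))⟩
  obtain ⟨x, x1, x2, x3⟩ := a 1 (map_one τ) one_ne_zero
  obtain ⟨y, y1, y2, y3⟩ := a c c1 c2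
  exact ⟨_, ⟨x, rfl⟩, _, ⟨y, rfl⟩, x2, y2, x3, y3, fun e => c3 (by rw [← y1, ← h.inj e, x1])⟩

include hω

omit [Finite X] in
theorem lτ : τ l ≠ l := fun e => by
  obtain ⟨c, c1, c2, c3⟩ := h4
  obtain ⟨ω, hω⟩ := hω
  have a : ∀ x : F, τ x ^ 3 = x ^ 3 := fun x => by
    by_cases h0 : x = 0
    · simp [h0]
    obtain ⟨i, hi⟩ := h.cube x h0
    rw [← map_pow, ← hi, map_pow, e]
  have a0 := a ω
  have a1 := a (ω + 1)
  have a2 := a (ω + c)
  rw [map_add, map_one] at a1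
  rw [map_add, c1] at a2
  have : c * (c - 1) * (τ ω - ω) = 0 := by
    linear_combination a2 - c * a1 - (1 - c) * a0 - (c * (c - 1) * (τ ω - ω)) * h2
  simp [c2, sub_eq_zero, c3, hω] at this

omit [Finite X] in
theorem cent {g : X} (hg : ∀ x, g * u x = u x * g) : ∃ x : U3S τ, x.a = 0 ∧ g = u x := by
  obtain ⟨s, hs, -, -, -, -, s1, -⟩ := h.rank2 h2 h4
  obtain ⟨x, i, rfl⟩ := h.dec g (h.ro.mem_H_of_comm hs s1 (by obtain ⟨y, rfl⟩ := hs; exact hg y))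
  obtain ⟨y, hy⟩ := U3S.exists_a hω h2 1
  have h1 : x * scl (l ^ i) y = y * x := h.inj (by
    rw [map_mul, map_mul, ← h.conj_pow, ← mul_assoc, ← mul_assoc, hg]; group)
  have h3 : l ^ i = 1 := by simpa [scl, hy, add_comm] using congrArg U3S.a h1
  rw [h.fa i h3, mul_one] at hg ⊢
  exact ⟨x, (U3S.mem_center_iff hω h2 x).1 (mem_center_iff.2 fun z => h.inj (by simp [hg])), rfl⟩

omit [Finite X] in
theorem fa' : dsub H t ⊓ C[u.range] = ⊥ := eq_bot_iff.2 fun g hg => by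
  obtain ⟨x, -, rfl⟩ := h.cent h2 h4 hω (g := g) fun x => (mem_centralizer_iff.1 hg.2 _ ⟨x, rfl⟩).symm
  exact h.ro.eq_one_of_QD ⟨x, rfl⟩ hg.1

theorem aut_eq (β : X ≃* X) (h1 : ∀ x, β (u x) = u x) (h3 : β k = k) (y : X) : β y = y := by
  have hH : ∀ g ∈ H, β g = g := fun g hg => by
    obtain ⟨x, i, rfl⟩ := h.dec g hg
    rw [map_mul, map_pow, h1, h3]
  have kH := h.ro.D_le h.kD
  have k' := h.ro.D_le (h.ro.tDt h.kD)
  obtain ⟨g, hg, _, ⟨x, rfl⟩, e⟩ := h.ro.bru (β t) fun e => h.ro.t_not (β.injective (hH _ e) ▸ e)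
  have a1 : β t * k = t * k * t * β t := by
    rw [← hH _ k', ← map_mul, mul_assoc, h.ro.tt, mul_one, map_mul, h3]
  have a2 := (h.ro.uniq_bru (mul_mem hg k') (mul_mem k' hg) (h.ro.normQ' kH ⟨x, rfl⟩) ⟨x, rfl⟩ (by
    rw [mul_assoc _ g, mul_assoc _ (g * t), ← e, ← a1, e]; simp [mul_assoc, h.ro.ttl])).2
  obtain rfl : x = 1 := h.fpf h4 (h.inj (by rw [← h.conj]; nth_rewrite 1 [← a2]; group))
  rw [map_one, mul_one] at e
  have b1 : g * t * (g * t) = 1 := by rw [← e, ← map_mul, h.ro.tt, map_one]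
  have gK : g ∈ kset H t := h.ro.mem_K_of_invol hg (by
    calc _ = t * (g * t * (g * t)) * t := by simp [mul_assoc, h.ro.tt]
      _ = 1 := by rw [b1, mul_one, h.ro.tt])
  obtain ⟨s, hs, -, s1⟩ := h.ro.exists_invol
  obtain ⟨a, ha, z, hz, e1⟩ := h.ro.bru _ (h.ro.tst_not hs s1)
  have c1 := congrArg β e1
  simp only [map_mul, e, hH _ ha, hH _ (h.ro.le hz), hH _ (h.ro.le hs)] at c1
  have c2 := (h.ro.uniq_bru (mul_mem (mul_mem hg ha) hg) (mul_mem ha hg) (h.ro.norm g hg z hz) hz (by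
    calc _ = g * a * (g * t) * (g * z * g⁻¹) := by group
      _ = g * (a * t * z) * g⁻¹ := by rw [h.ro.K_mul_t gK]; group
      _ = g * t * s * (g * t) := by rw [← e1, ← gK.2]; simp [mul_assoc, h.ro.ttl]
      _ = _ := by rw [c1]; group)).2
  obtain rfl : g = 1 := by
    by_contra g1
    rw [h.ro.K_fpf gK g1 hz (mul_inv_eq_iff_eq_mul.1 c2), mul_one] at e1
    exact h.ro.t_not (by
      rw [eq_mul_inv_of_mul_eq (mul_right_cancel e1)]; exact mul_mem ha (inv_mem (h.ro.le hs)))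
  by_cases hy : y ∈ H
  · exact hH y hy
  · obtain ⟨a, ha, z, hz, rfl⟩ := h.ro.bru y hy
    rw [map_mul, map_mul, e, hH _ ha, hH _ (h.ro.le hz), one_mul]

theorem aut (α : X ≃* X) (h1 : ∀ x, α (u x) = u x) :
    ∃ w : U3S τ, w.a = 0 ∧ ∀ y, α y = u w * y * (u w)⁻¹ := by
  obtain ⟨z, z0, hz⟩ := h.cent h2 h4 hω (g := k⁻¹ * α k) fun x => by
    have := congrArg α (h.conj x)
    rw [h1, ← h.conj, map_mul, map_mul, map_inv, h1] at this
    calc _ = k⁻¹ * (α k * u x * (α k)⁻¹) * α k := by group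
      _ = _ := by rw [this]; group
  have n1 : l * τ l + 1 ≠ 0 := fun e => h.nu_ne h4 (by linear_combination e - h2)
  have zb := U3S.fix_of_a h2 z0
  let w : U3S τ := U3S.cen (l * τ l * z.b / (l * τ l + 1)) (by
    simp only [map_div₀, map_mul, map_add, map_one, U3S.ττ, zb, mul_comm (τ l) l]
    rw [← two_mul, h2, zero_mul])
  have hw : ∀ x, u x * u w = u w * u x := fun x => by
    rw [← map_mul, ← map_mul, (U3S.comm_iff x w).2 (by simp [w])]
  refine ⟨w, rfl, fun y => ?_⟩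
  have e : scl l (z * w) = w := U3S.ext (by simp [scl, w, z0]) (by
    simp [scl, w, z0]; field_simp; linear_combination ((l * τ l) ^ 2 * z.b) * h2)
  have := h.aut_eq h2 h4 hω (α.trans (MulAut.conj (u w)⁻¹)) (fun x => by simp [h1, mul_assoc, hw]) (by
    rw [MulEquiv.trans_apply, MulAut.conj_apply, ← eq_inv_mul_iff_mul_eq.1 hz.symm]
    nth_rewrite 1 [← e]
    rw [← h.conj, map_mul]; group) y
  calc _ = u w * ((u w)⁻¹ * α y * (u w)⁻¹⁻¹) * (u w)⁻¹ := by group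
    _ = _ := congrArg (fun a => u w * a * (u w)⁻¹) this

end Mod

end Cfsg.Lib.U3F
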