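import Cfsg.Agent.Lib.U3F.Defs
import Cfsg.Agent.Lib.U3F.ModelB
import Cfsg.Agent.Lib.ZD.Mult

/-!
# The set-up `Su` exists (sketch in `notes/S3151_PLAN.md`, section MODEL)
-/

set_option autoImplicit false

namespace Cfsg.Lib.U3F
open Subgroup Cfsg.Lib Cfsg.Lib.FT Cfsg.Lib.TwoL Cfsg.Lib.Suz
open scoped commutatorElement

theorem exists_lift {F : Type*} [Field F] [Fintype F] {τ : F ≃+* F} [Fact (Function.Involutive τ)] {n : ℕ}
    (hF : Fintype.card F = 4 ^ n) (h2 : (2 : F) = 0) (hτ : ∀ x, τ x = x ^ 2 ^ n) (hω : ∃ ω, τ ω ≠ ω)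
    {L : Type*} [Group L] [Finite L] (hq : IsQuasisimple L) (e : (L ⧸ center L) ≃* PSU 3 F (2 ^ n)) :
    ∃ (ι : U3S τ →* L) (ρ : L) (l : F), (∃ c, τ c = c ∧ c ≠ 0 ∧ c ≠ 1) ∧
      (∀ c : F, c ≠ 0 → ∃ i : ℕ, l ^ i = c ^ 3) ∧ (∀ c : F, τ c = c → c ≠ 0 → ∃ i : ℕ, (l * τ l) ^ i = c) ∧
      τ l ≠ l ∧ Function.Injective ι ∧ Odd (orderOf ρ) ∧ (∀ x, ρ * ι x * ρ⁻¹ = ι (scl l x)) ∧
      IsSylowIn 2 ι.range ⊤ ∧ Odd (Nat.card (center L)) ∧
      (∀ α : L ≃* L, (∀ x, α (ι x) = ι x) → ∃ w : U3S τ, w.a = 0 ∧ ∀ y, α y = ι w * y * (ι w)⁻¹) ∧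
      ∀ g ∈ N[ι.range], ∃ (x : U3S τ) (i : ℕ), ∃ o ∈ center L, g = ι x * ρ ^ i * o := by
  obtain ⟨u, k, t, l, H, h⟩ := exists_mod h2 hτ hω e
  have := hq.2
  have h4 := h.four h2
  have rk := h.rank2 h2 h4
  have surj := QuotientGroup.mk'_surjective (center L)
  have ker := QuotientGroup.ker_mk' (center L)
  have hQ := ZD.isSylowIn_of_ro h.ro rk
  obtain ⟨S₀, hS₀⟩ := exists_isSylowIn 2 (u.range.comap (QuotientGroup.mk' (center L)))
  obtain ⟨S, hS, hle⟩ := exists_isSylowIn_ge hS₀.isPGroup le_top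
  have h0 := hS₀.map (QuotientGroup.mk' (center L))
  rw [map_comap_eq_self_of_surjective surj] at h0
  have E : CI2.Ext (QuotientGroup.mk' (center L)) S H u.range t := ⟨h.ro, rk, h.fa' h2 h4 hω, surj, ker.le, hS,
    hQ.maximal _ (hS.isPGroup.map _) le_top ((h0.maximal _ hQ.isPGroup le_rfl h0.le).le.trans (map_mono hle))⟩
  have hna : ∃ x ∈ u.range, ∃ y ∈ u.range, x * y ≠ y * x := by
    obtain ⟨x, hx⟩ := U3S.exists_a hω h2 1
    by_contra hn
    push Not at hn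
    simpa [hx] using (U3S.mem_center_iff hω h2 x).1 (mem_center_iff.2 fun y => h.inj (by
      rw [map_mul, map_mul, hn _ ⟨y, rfl⟩ _ ⟨x, rfl⟩]))
  have hc : Nat.card u.range = Nat.card (zsub u.range) ^ 3 := by
    obtain ⟨P⟩ : Nonempty (Sylow 2 (PSU 3 F (2 ^ n))) := inferInstance
    obtain ⟨e'⟩ := h9_u3_sylow_psu_equiv h2 hτ hω P
    have hU := ((UT.isUT_psu hF P).map e').map (MonoidHom.ofInjective h.inj)
    rw [hU.card, show 8 = 2 ^ 3 from rfl, ← pow_mul, mul_comm, pow_mul, ← hU.cardZ]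
    refine congrArg (· ^ 3) (Nat.card_congr ⟨fun z => ⟨z.1, (h.ro.mem_Z rk).2 ⟨z.1.2, congrArg Subtype.val z.2⟩⟩,
      fun z => ⟨⟨z.1, h.ro.Z_le rk z.2⟩, Subtype.ext ((h.ro.mem_Z rk).1 z.2).2⟩, fun _ => rfl, fun _ => rfl⟩)
  have ho : Odd (Nat.card (center L)) := by
    by_contra ho
    obtain ⟨z, hz, hi⟩ := Bender.exists_isInv_of_even (Nat.not_odd_iff_even.1 ho)
    have := pg_normal_zpowers_of_mem_center hz
    refine hi.1 (mem_bot.1 ((E.commutator_inf_ker hna (E.W_central_cube hna hc)).le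
      ⟨CI2.mem_commutator_of_index (p := 2) (relIndex_top_right S ▸ hS.not_dvd_relIndex) hz
      (hS.le_of_normalizes hi.isPGroup le_top le_normalizer_of_normal (mem_zpowers z))
      ((Group.isPerfect_def.1 hq.1).ge (mem_top z)) hi.sq, ker.ge hz⟩))
  have mZ : ∀ a b, QuotientGroup.mk' (center L) a = QuotientGroup.mk' (center L) b → a⁻¹ * b ∈ center L :=
    fun a b e => QuotientGroup.eq.1 e
  have uq : ∀ a ∈ S, ∀ b ∈ S, QuotientGroup.mk' (center L) a = QuotientGroup.mk' (center L) b → a = b :=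
    fun a ha b hb e => by
    obtain ⟨i, hi⟩ := hS.isPGroup ⟨_, mul_mem (inv_mem ha) hb⟩
    exact inv_mul_eq_one.1 (eq_one_of_pow_of_coprime (mZ a b e) ((Nat.coprime_two_left.2 ho).pow_left i)
      (congrArg Subtype.val hi))
  choose j jS hj using fun x => E.lift (⟨x, rfl⟩ : u x ∈ u.range)
  let ι : U3S τ →* L := MonoidHom.mk' j fun x y => uq _ (jS _) _ (mul_mem (jS _) (jS _)) (by
    rw [map_mul, hj, hj, hj, map_mul])
  have hr : ι.range = S := le_antisymm (by rintro _ ⟨x, rfl⟩; exact jS x) fun s hs => by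
    obtain ⟨x, hx⟩ := E.mem_Q hs
    exact ⟨x, uq _ (jS x) _ hs (by rw [hj, hx])⟩
  obtain ⟨ρ, rfl⟩ := surj k
  refine ⟨ι, ρ, l, h4, h.cube, h.gen, h.lτ h2 h4 hω, fun x y e => h.inj (by rw [← hj, ← hj]; exact congrArg _ e),
    ?_, fun x => uq _ (conj_mem_of_mem_normalizer (E.mem_N (h.ro.D_le h.kD)) (jS x)) _ (jS _) ?_, hr ▸ hS, ho,
    fun α hα => ?_, fun g hg => ?_⟩
  · refine ((h.ro.odd_orderOf_D h.kD).mul ho).of_dvd_nat (orderOf_dvd_of_pow_eq_one ?_)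
    rw [pow_mul]
    exact congrArg Subtype.val (pow_card_eq_one' (x := (⟨_, ker.le (by
      rw [MonoidHom.mem_ker, map_pow, pow_orderOf_eq_one])⟩ : center L)))
  · rw [map_mul, map_mul, map_inv]
    exact (congrArg (_ * · * _) (hj x)).trans ((h.conj x).trans (hj _).symm)
  · obtain ⟨w, w0, hw⟩ := h.aut h2 h4 hω (QuotientGroup.congr _ _ α (characteristic_iff_map_eq.1 inferInstance α))
      fun x => by rw [← hj]; exact congrArg (QuotientGroup.mk' (center L)) (hα x)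
    refine ⟨w, w0, fun y => ?_⟩
    have h1 : ∀ y, ∃ o ∈ center L, α y = MulAut.conj (ι w) y * o := fun y =>
      ⟨_, mZ (MulAut.conj (ι w) y) (α y) (by rw [← hj] at hw; exact (hw (y : L ⧸ center L)).symm), by group⟩
    refine (commutator_le (H₃ := α.toMonoidHom.eqLocus (MulAut.conj (ι w)).toMonoidHom)).2 (fun a _ b _ => ?_)
      ((Group.isPerfect_def.1 hq.1).ge (mem_top y))
    obtain ⟨o, ho, e1⟩ := h1 a
    obtain ⟨o', ho', e2⟩ := h1 b
    change α ⁅a, b⁆ = MulAut.conj (ι w) ⁅a, b⁆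
    rw [map_commutatorElement, map_commutatorElement, e1, e2]
    generalize MulAut.conj (ι w) a = c
    generalize MulAut.conj (ι w) b = d
    calc _ = c * (o * (d * o') * o⁻¹) * (c⁻¹ * o'⁻¹) * d⁻¹ := by simp only [commutatorElement_def]; group
      _ = _ := by
        rw [← mem_center_iff.1 ho, mem_center_iff.1 (inv_mem ho'), commutatorElement_def]; group
  · obtain ⟨s, hs, -, s1⟩ := h.ro.exists_invol
    obtain ⟨s, hs', rfl⟩ := E.lift hs
    obtain ⟨x, i, e⟩ := h.dec _ (h.ro.ti (g := QuotientGroup.mk' (center L) g) hs s1 (h.ro.le (by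
      simpa using E.mem_Q (conj_mem_of_mem_normalizer (hr ▸ hg) hs'))))
    exact ⟨x, i, _, mZ (ι x * ρ ^ i) g (by rw [e, ← hj, map_mul, map_pow]; rfl), by group⟩

theorem exists_su {G : Type*} [Group G] [Finite G] (t : G) (ht : orderOf t = 2) (E U U₀ : Subgroup G)
    (hEU : IsInternalDirectProduct E U (Subgroup.centralizer ({t} : Set G)))
    (hE : IsElementaryAbelian 2 E) (hE1 : E ≠ ⊥)
    (hU₀ : U₀ ≤ U) (hU₀n : (U₀.subgroupOf U).Normal) (hq : IsQuasisimple ↥U₀)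
    {F : Type*} [Field F] [Fintype F] (n : ℕ) (hF : Fintype.card F = 4 ^ n)
    (hUX : Nonempty ((↥U₀ ⧸ Subgroup.center ↥U₀) ≃* PSU 3 F (2 ^ n)))
    (hCU : U ⊓ Subgroup.centralizer (U₀ : Set G) = (Subgroup.center ↥U₀).map U₀.subtype)
    (hC : ∀ e ∈ E, orderOf e = 2 → Subgroup.centralizer ({e} : Set G) = Subgroup.centralizer ({t} : Set G)) :
    ∃ (τ : F ≃+* F) (_ : Fact (Function.Involutive τ)) (s : Su G τ), s.E = E := by
  obtain ⟨h2, τ, hτ, hi, hω, gal⟩ := h9_u3_field hF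
  have := Fact.mk hi
  obtain ⟨ι, ρ, l, h4, cube, gen, lτ, inj, ρodd, ρι, syl, ho, aut, bor⟩ :=
    exists_lift hF h2 hτ hω hq hUX.some
  obtain ⟨-, -, c1, c2, c3⟩ := hEU
  have EU : E ≤ C[U] := fun e he => mem_centralizer_iff.2 fun x hx => (c1 e he x hx).symm
  have UN : U ≤ N[U₀] := (normal_subgroupOf_iff_le_normalizer hU₀).1 hU₀n
  have hr : (U₀.subtype.comp ι).range = ι.range.map U₀.subtype := MonoidHom.range_comp ..
  have QL : (U₀.subtype.comp ι).range ≤ U₀ := hr ▸ map_subtype_le _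
  have sylQ : IsSylowIn 2 (U₀.subtype.comp ι).range U₀ := by
    have := syl.map U₀.subtype
    rwa [← hr, ← MonoidHom.range_eq_map, range_subtype] at this
  have EL : E ≤ C[U₀] := EU.trans (centralizer_le hU₀)
  obtain ⟨T, hT, hle⟩ := exists_isSylowIn_ge (U := E ⊔ (U₀.subtype.comp ι).range) (K := E ⊔ U)
    (IsPGroup.to_sup_of_normal_right' (elemAb_isPGroup hE) sylQ.isPGroup
      (EL.trans ((centralizer_le QL).trans (centralizer_le_normalizer _)))) (sup_le_sup_left (QL.trans hU₀) _)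
  have OC : (center U₀).map U₀.subtype ≤ C[U₀] := hCU ▸ inf_le_right
  refine ⟨τ, this, ⟨E, U, (center U₀).map U₀.subtype, T, U₀.subtype.comp ι, ρ, l, h2, h4,
    (h9_char_two_field (m := 2 * n) (by rw [hF, pow_mul]; rfl)).1, gal, cube, gen, lτ,
    Subtype.val_injective.comp inj, fun e he => by rw [← sq, hE.2 e he], hE1,
    fun e he e1 => (hC e he (orderOf_eq_prime (hE.2 e he) e1)).trans c3.symm, EU,
    fun e he hu => mem_bot.1 (c2.le ⟨he, hu⟩), fun x => hU₀ (ι x).2, hU₀ ρ.2, by rwa [orderOf_coe],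
    fun x => ⟨_, congrArg Subtype.val (ρι x), rfl, rfl⟩, hT, le_sup_left.trans hle, le_sup_right.trans hle, ?_,
    by rwa [card_map_of_injective U₀.subtype_injective], (map_subtype_le _).trans hU₀,
    OC.trans (centralizer_le QL), OC.trans (centralizer_le (map_subtype_le _)),
    le_centralizer_iff.1 OC ρ.2, fun g hg hc => ?_, fun g hg hn => ?_⟩, rfl⟩
  · rw [← sylQ.maximal (T ⊓ U₀) (hT.isPGroup.to_inf_left) inf_le_right (le_inf (le_sup_right.trans hle) QL)]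
    exact le_normalizer_inf le_normalizer (hT.le.trans (sup_le (EL.trans (centralizer_le_normalizer _)) UN))
  · obtain ⟨w, w0, hw⟩ := aut (U₀.normalizerMonoidHom ⟨g, UN hg⟩) fun x => Subtype.ext (by
      exact mul_inv_eq_iff_eq_mul.2 (mem_centralizer_iff.1 hc _ ⟨x, rfl⟩).symm)
    refine ⟨w, w0, (ι w : G)⁻¹ * g, hCU.le ⟨U.mul_mem (U.inv_mem (hU₀ (ι w).2)) hg, mem_centralizer_iff.2 fun y hy => ?_⟩,
      by simp⟩
    have : g * y * g⁻¹ = ι w * y * (ι w : G)⁻¹ := congrArg Subtype.val (hw ⟨y, hy⟩)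
    calc _ = (ι w : G)⁻¹ * (ι w * y * (ι w : G)⁻¹) * g := by group
      _ = _ := by rw [← this]; group
  · have ρN : (ρ : G) ∈ N[(U₀.subtype.comp ι).range] := h9_mem_normalizer_of_conj_mem (by
      rintro _ ⟨x, rfl⟩; exact ⟨_, (congrArg Subtype.val (ρι x)).symm⟩)
    have h1 := mul_mem (mul_mem hn ρN) (inv_mem hn)
    obtain ⟨x, i, o, ho, e⟩ := bor ⟨g * ρ * g⁻¹, conj_mem_of_mem_normalizer (UN hg) ρ.2⟩
      (h9_mem_normalizer_of_conj_mem (by
        rintro _ ⟨x, rfl⟩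
        obtain ⟨y, hy⟩ := conj_mem_of_mem_normalizer h1 ⟨x, rfl⟩
        exact ⟨y, Subtype.ext hy⟩))
    exact ⟨x, i, o, mem_map_of_mem _ ho, congrArg Subtype.val e⟩

end Cfsg.Lib.U3F
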