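import Cfsg.Agent.Lib.U3F.Two4

/-!
# Case II, step 5: transfer (sketch in `notes/S3151_PLAN.md`)
-/

set_option autoImplicit false

namespace Cfsg.Lib.U3F.RR
open Subgroup Cfsg.Lib Cfsg.Lib.FT Cfsg.Lib.TwoL Cfsg.Lib.U3S

variable {G : Type*} [Group G] {F : Type*} [Field F] {τ : F ≃+* F} [Fact (Function.Involutive τ)] {s : Su G τ}
  {r : RR s} [Finite G] [Finite F]

namespace S2
variable (d : r.S2)

/-- one of the two halves of `S₀` -/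
def W : Subgroup G where
  carrier := {x | x ∈ d.S ∧ d.x2 x = 0}
  one_mem' := ⟨one_mem _, d.swap.x1_one⟩
  mul_mem' := by
    rintro x y ⟨hx, a⟩ ⟨hy, b⟩
    exact ⟨mul_mem hx hy, by rw [d.x2_mul x hx y hy, a, b, add_zero]⟩
  inv_mem' := by
    rintro x ⟨hx, a⟩
    exact ⟨inv_mem hx, (d.swap.x1_inv hx).trans a⟩

theorem YW : r.Y ≤ d.W := fun _ h => ⟨d.YS h, d.x2_Y h⟩

theorem ontoW (a : F) : ∃ x ∈ d.W, d.x1 x = a :=
  let ⟨x, hx, h1, h2⟩ := d.ontox a 0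
  ⟨x, ⟨hx, h2⟩, h1⟩

theorem sq_iffA (h : (∀ y ∈ r.Y, d.y2 y = τ (d.y1 y)) ∧ ∀ x ∈ d.S, d.y1 (x * x) = d.x1 x * τ (d.x2 x)) {x : G}
    (hx : x ∈ d.S) : x * x = 1 ↔ d.x1 x = 0 ∨ d.x2 x = 0 := by
  constructor
  · intro e
    have := h.2 x hx
    rw [e, d.y1_one] at this
    simpa using this
  · intro e
    have : d.y1 (x * x) = 0 := by rw [h.2 x hx]; simpa using e
    exact d.kery _ (d.sq_mem hx) this (by rw [h.1 _ (d.sq_mem hx), this, map_zero])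

theorem cm_iffB (h : ∀ x ∈ d.S, d.y1 (x * x) = d.x1 x * τ (d.x1 x) ∧ d.y2 (x * x) = d.x2 x * τ (d.x2 x)) {a b : G}
    (ha : a ∈ d.S) (hb : b ∈ d.S) : a * b = b * a ↔ d.x1 a * τ (d.x1 b) + τ (d.x1 a) * d.x1 b = 0 ∧
      d.x2 a * τ (d.x2 b) + τ (d.x2 a) * d.x2 b = 0 := by
  have two := s.two
  have e1 : d.y1 (a * b * a⁻¹ * b⁻¹) = d.x1 a * τ (d.x1 b) + τ (d.x1 a) * d.x1 b := by
    rw [d.y1_cm ha hb, (h _ (mul_mem ha hb)).1, (h a ha).1, (h b hb).1, d.x1_mul a ha b hb, map_add]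
    grind
  have e2 : d.y2 (a * b * a⁻¹ * b⁻¹) = d.x2 a * τ (d.x2 b) + τ (d.x2 a) * d.x2 b := by
    rw [d.y2_cm ha hb, (h _ (mul_mem ha hb)).2, (h a ha).2, (h b hb).2, d.x2_mul a ha b hb, map_add]
    grind
  rw [← e1, ← e2, ← mul_inv_eq_iff_eq_mul, ← mul_inv_eq_one]
  exact ⟨fun e => by rw [e]; exact ⟨d.y1_one, d.y2_one⟩, fun e => d.kery _ (d.cm ha hb) e.1 e.2⟩

theorem charB (h : ∀ x ∈ d.S, d.y1 (x * x) = d.x1 x * τ (d.x1 x) ∧ d.y2 (x * x) = d.x2 x * τ (d.x2 x)) {x : G}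
    (hx : x ∈ d.S) : (∃ a ∈ d.S, ∃ b ∈ d.S, a * x = x * a ∧ b * x = x * b ∧ a * b ≠ b * a) ↔
      d.x1 x = 0 ∨ d.x2 x = 0 := by
  have two := s.two
  have l := s.lτ
  constructor
  · rintro ⟨a, ha, b, hb, e1, e2, e3⟩
    by_contra! k
    rw [d.cm_iffB h ha hx, s.tr_eq_zero k.1, s.tr_eq_zero k.2] at e1
    rw [d.cm_iffB h hb hx, s.tr_eq_zero k.1, s.tr_eq_zero k.2] at e2
    obtain ⟨⟨c, c1, c2⟩, c', c1', c2'⟩ := e1
    obtain ⟨⟨e, e1, e2⟩, e', e1', e2'⟩ := e2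
    refine e3 ((d.cm_iffB h ha hb).2 ?_)
    rw [c2, c2', e2, e2', map_mul, map_mul, map_mul, map_mul, c1, c1', e1, e1']
    grind
  · rintro (k | k)
    · obtain ⟨a, ha, a1, a2⟩ := d.ontox 1 0
      obtain ⟨b, hb, b1, b2⟩ := d.ontox s.l 0
      refine ⟨a, ha, b, hb, ?_, ?_, ?_⟩
      · simp [d.cm_iffB h ha hx, k, a2]
      · simp [d.cm_iffB h hb hx, k, b2]
      · rw [Ne, d.cm_iffB h ha hb, a1, b1, map_one]; grind
    · obtain ⟨a, ha, a1, a2⟩ := d.ontox 0 1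
      obtain ⟨b, hb, b1, b2⟩ := d.ontox 0 s.l
      refine ⟨a, ha, b, hb, ?_, ?_, ?_⟩
      · simp [d.cm_iffB h ha hx, k, a1]
      · simp [d.cm_iffB h hb hx, k, b1]
      · rw [Ne, d.cm_iffB h ha hb, a2, b2, map_one]; grind

theorem inv {g x : G} (hg : g ∈ N[d.S]) (hx : x ∈ d.S) (h : d.x1 x = 0 ∨ d.x2 x = 0) :
    d.x1 (g * x * g⁻¹) = 0 ∨ d.x2 (g * x * g⁻¹) = 0 := by
  rcases d.alt with k | k
  · rw [← d.sq_iffA k hx] at h
    rw [← d.sq_iffA k (cj hg hx), conj_mul, h, mul_one, mul_inv_cancel]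
  · obtain ⟨a, ha, b, hb, e1, e2, e3⟩ := (d.charB k.2 hx).2 h
    refine (d.charB k.2 (cj hg hx)).1 ⟨_, cj hg ha, _, cj hg hb, by rw [conj_mul, conj_mul, e1],
      by rw [conj_mul, conj_mul, e2], fun e => e3 ?_⟩
    rw [conj_mul, conj_mul] at e
    simpa using e

theorem perm {g : G} (hg : g ∈ N[d.S]) : g ∈ N[d.W] ∨ ∀ w ∈ d.W, g * w * g⁻¹ ∈ d.swap.W := by
  by_contra! h
  obtain ⟨h1, w, hw, h2⟩ := h
  refine h1 (mem_n fun v hv => ⟨cj hg hv.1, by_contra fun k => ?_⟩)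
  replace h2 : d.x1 (g * w * g⁻¹) ≠ 0 := fun e => h2 ⟨cj hg hw.1, e⟩
  have a := (d.inv hg hw.1 (.inr hw.2)).resolve_left h2
  have b := (d.inv hg hv.1 (.inr hv.2)).resolve_right k
  have c := d.inv hg (mul_mem hv hw).1 (.inr (mul_mem hv hw).2)
  rw [← conj_mul, d.x1_mul _ (cj hg hv.1) _ (cj hg hw.1), d.x2_mul _ (cj hg hv.1) _ (cj hg hw.1), a, b] at c
  simp [h2, k] at c

theorem nW {g : G} (hg : g ∈ N[d.S]) (h : g ∈ N[d.W]) : g ∈ N[d.swap.W] := by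
  refine (d.swap.perm hg).resolve_right fun k => ?_
  obtain ⟨w, hw, e⟩ := d.swap.ontoW 1
  have : d.x2 w = 0 := ((mem_normalizer_iff.1 h w).2 (k w hw)).2
  exact zero_ne_one (this.symm.trans e)

theorem idx {P : Subgroup G} (PN : P ≤ N[d.S]) : Idx2 (P ⊓ N[d.W]) P := by
  refine ⟨inf_le_left, fun a ha b hb => ?_⟩
  rcases d.perm (PN hb) with k | k
  · exact .inr (.inl ⟨hb, k⟩)
  rcases d.swap.perm (PN ha) with k' | k'
  · exact .inl ⟨ha, d.swap.nW (PN ha) k'⟩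
  refine .inr (.inr ⟨mul_mem ha hb, mem_n fun w hw => ?_⟩)
  rw [show a * b * w * (a * b)⁻¹ = a * (b * w * b⁻¹) * a⁻¹ by group]
  exact k' _ (k w hw)

/-- in the second case, involutions normalizing `W` fix its squares -/
theorem fixB (h : (∀ y ∈ r.Y, τ (d.y1 y) = d.y1 y ∧ τ (d.y2 y) = d.y2 y) ∧
    ∀ x ∈ d.S, d.y1 (x * x) = d.x1 x * τ (d.x1 x) ∧ d.y2 (x * x) = d.x2 x * τ (d.x2 x)) {a : G} (ha : a ∈ N[d.S])
    (hW : a ∈ N[d.W]) (hW' : a ∈ N[d.swap.W]) (a2 : a * a = 1) {w : G} (hw : w ∈ d.W) :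
    a * (w * w) * a⁻¹ = w * w := by
  have aY := d.nS_nY ha
  obtain ⟨θ, h1, h2⟩ := ind (X := d.W) (f := d.x1) (φ := fun x => d.x1 (a * x * a⁻¹))
    (fun x hx y hy => d.x1_mul x hx.1 y hy.1)
    (fun x hx y hy => by rw [← conj_mul, d.x1_mul _ (cj ha hx.1) _ (cj ha hy.1)])
    fun x hx e => (cj hW' (⟨hx.1, e⟩ : x ∈ d.swap.W)).2
  let Y1 : Subgroup G :=
    { carrier := {y | y ∈ r.Y ∧ d.y2 y = 0}
      one_mem' := ⟨one_mem _, d.y2_one⟩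
      mul_mem' := by
        rintro x y ⟨hx, a⟩ ⟨hy, b⟩
        exact ⟨mul_mem hx hy, by rw [d.y2_mul x hx y hy, a, b, add_zero]⟩
      inv_mem' := by
        rintro x ⟨hx, a⟩
        rw [inv_of_sq (d.sqY hx)]
        exact ⟨hx, a⟩ }
  have sq : ∀ x ∈ d.W, x * x ∈ Y1 := fun x hx => ⟨d.sq_mem hx.1, by rw [(h.2 x hx.1).2, hx.2, zero_mul]⟩
  obtain ⟨ζ, k1, k2⟩ := ind (X := Y1) (f := d.y1) (φ := fun x => d.y1 (a * x * a⁻¹))
    (fun x hx y hy => d.y1_mul x hx.1 y hy.1)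
    (fun x hx y hy => by rw [← conj_mul, d.y1_mul _ (cj aY hx.1) _ (cj aY hy.1)])
    fun x hx e => by rw [d.kery x hx.1 e hx.2, mul_one, mul_inv_cancel, d.y1_one]
  have on : ∀ b, τ b = b → ∃ y ∈ Y1, d.y1 y = b := fun b hb => by
    obtain ⟨c, -, hc⟩ := s.exists_norm one_ne_zero hb
    obtain ⟨x, hx, e⟩ := d.ontoW (c * 1)
    exact ⟨_, sq x hx, by rw [(h.2 x hx.1).1, e, hc]⟩
  have θ2 : ∀ b, θ (θ b) = b := fun b => by
    obtain ⟨x, hx, rfl⟩ := d.ontoW b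
    rw [← h1 x hx, ← h1 _ (cj hW hx), show a * (a * x * a⁻¹) * a⁻¹ = a * a * x * (a * a)⁻¹ by group, a2]
    simp
  obtain ⟨σ, σ1, σ2⟩ := s.sl (θ := θ) (ζ := ζ)
    (fun a b => by
      obtain ⟨x, hx, rfl⟩ := d.ontoW a
      obtain ⟨y, hy, rfl⟩ := d.ontoW b
      exact h2 x hx y hy)
    (fun b e => by
      have := h1 1 (one_mem _)
      simp only [mul_one, mul_inv_cancel, d.x1_one] at this
      rw [← θ2 b, e, ← this])
    (fun a b ha hb => by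
      obtain ⟨x, hx, rfl⟩ := on a ha
      obtain ⟨y, hy, rfl⟩ := on b hb
      exact k2 x hx y hy)
    fun b => by
      obtain ⟨x, hx, rfl⟩ := d.ontoW b
      rw [← h1 x hx, ← (h.2 x hx.1).1, ← k1 _ (sq x hx), ← (h.2 _ (cj ha hx.1)).1, conj_mul]
  generalize θ 1 = m at σ2
  have m1 : m * σ m = 1 := by simpa [σ2] using θ2 1
  have N : ∀ b, θ b * τ (θ b) = b * τ b := fun b => by
    rcases s.gal σ (fun x => by have := θ2 x; rwa [σ2, σ2, map_mul, ← mul_assoc, m1, one_mul] at this) with k | k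
    · rw [k] at m1
      rw [σ2, k, s.sq_inj (a := m) (b := 1) (by linear_combination m1), one_mul]
    · rw [k] at m1
      rw [σ2, k, map_mul, ττ]
      linear_combination b * τ b * m1
  rw [← conj_mul]
  exact d.exty (sq _ (cj hW hw)).1 (sq w hw).1 (by rw [(h.2 _ (cj ha hw.1)).1, (h.2 w hw.1).1, h1 w hw, N])
    ((sq _ (cj hW hw)).2.trans (sq w hw).2.symm)

theorem not_in2 : ¬ Su.In2 d.t := fun hG => by
  obtain ⟨P, hP, TP, SP, PN⟩ := d.exists_syl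
  obtain ⟨g, ⟨aP, aW⟩, -⟩ := Su.E2.transfer s d.e2 hG hP (d.idx PN) (TP d.tT) fun k => by
    obtain ⟨w, hw, e⟩ := d.ontoW 1
    have := (cj k.2 hw).2
    rw [d.x2_t hw.1, e] at this
    exact one_ne_zero this
  have ty := Su.Ty.conj s d.ty g
  have a2 := Su.Ty.sq s ty
  have nc := d.not_cY ty
  generalize g * d.t * g⁻¹ = a at *
  rcases d.alt with h | h
  · have sq : ∀ w ∈ d.W, w * w = 1 := fun w hw => (d.sq_iffA h hw.1).2 (.inr hw.2)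
    have ab : d.W ≤ C[d.W] := fun v hv => mem_centralizer_iff.2 fun w hw => by
      rw [← inv_of_sq (sq _ (mul_mem hw hv)), mul_inv_rev, inv_of_sq (sq v hv), inv_of_sq (sq w hw)]
    have c1 := card_le_sq ab aW (by rw [a2]; exact one_mem _) sq
    have c2 := (s.rk (V := d.W ⊓ C1[a]) (fun v hv => sq v hv.1) ty inf_le_right).2 _ d.e2 fun k => nc (d.cY k.1.1)
    have c3 := relIndex_mul_card d.YW
    have c4 : r.Y.relIndex d.W ≤ 4 := by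
      have := s.four_le_card_Z
      rw [r.card_Y] at c3
      by_contra! k
      have := Nat.pow_le_pow_left c2 2
      nlinarith
    obtain ⟨c, k1, k2, k3⟩ := s.four
    obtain ⟨x, hx, x1⟩ := d.ontoW 1
    obtain ⟨y, hy, y1⟩ := d.ontoW c
    obtain ⟨z, hz, z1⟩ := d.ontoW s.l
    have two := s.two
    have l := s.lτ
    have xy := mul_mem hx hy
    rcases ph4 c4 (fun x hx => d.sq_mem hx.1) hx hy hz with k | k | k | k | k | k | k <;> have := d.x1_Y k <;>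
      simp only [d.x1_mul _ hx.1 _ hy.1, d.x1_mul _ hx.1 _ hz.1, d.x1_mul _ hy.1 _ hz.1, d.x1_mul _ xy.1 _ hz.1,
        x1, y1, z1] at this <;> have := congrArg τ this <;> simp only [map_add, map_one, map_zero] at this <;> grind
  · have aW' := d.nW (PN aP) aW
    refine nc (mem_c fun y hy => ?_)
    obtain ⟨x, hx, rfl⟩ := d.exists_sq hy
    obtain ⟨w, hw, e1⟩ := d.ontoW (d.x1 x)
    obtain ⟨w', hw', e2⟩ := d.swap.ontoW (d.x2 x)
    have f1 := d.fixB h (PN aP) aW aW' a2 hw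
    have f2 := d.swap.fixB ⟨fun y hy => (h.1 y hy).symm, fun x hx => (h.2 x hx).symm⟩ (PN aP) aW' aW a2 hw'
    have : x * x = w * w * (w' * w') := by
      have s1 := d.sq_mem hw.1
      have s2 := d.sq_mem hw'.1
      refine d.exty hy (mul_mem s1 s2) ?_ ?_
      · rw [d.y1_mul _ s1 _ s2, (h.2 x hx).1, (h.2 w hw.1).1, (h.2 w' hw'.1).1, e1, show d.x1 w' = 0 from hw'.2]
        ring
      · rw [d.y2_mul _ s1 _ s2, (h.2 x hx).2, (h.2 w hw.1).2, (h.2 w' hw'.1).2, hw.2, show d.x2 w' = d.x2 x from e2]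
        ring
    rw [this, ← conj_mul, f1, f2]

end S2

variable (r) in
/-- case II: `|E| = 2` and `E` is not contained in some subgroup of index two -/
theorem two (h0 : r.k0 = 0) {g : G} (h : g ∈ N[r.R]) (hY : g ∈ N[r.Y]) {u : F} (hu : u ≠ 0)
    (hA : ∀ a ∈ s.A, g * a * g⁻¹ ∈ r.Pt u) : ∃ t, s.E2 t ∧ ¬ Su.In2 t :=
  let ⟨d⟩ := r.exists_S1 h0 h hY hu hA
  let ⟨d'⟩ := d.exists_S2
  ⟨_, d'.e2, d'.not_in2⟩

end Cfsg.Lib.U3F.RR
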