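import Cfsg.Agent.Lib.U3F.E4
import Cfsg.Agent.Lib.U3F.Mob
import Cfsg.Agent.Lib.U3F.Two
import Cfsg.Agent.Lib.U3F.Four
import Cfsg.Agent.Lib.U3F.Model

/-!
# The theorem on involution centralizers `E × U` with a unitary component in characteristic two
-/

set_option autoImplicit false

namespace Cfsg.Lib.U3F
open Subgroup Cfsg.Lib Cfsg.Lib.FT Cfsg.Lib.TwoL Cfsg.Lib.U3S

variable {G : Type*} [Group G] {F : Type*} [Field F] {τ : F ≃+* F} [Fact (Function.Involutive τ)] {s : Su G τ}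
  [Finite G] [Finite F]

namespace Su
variable (s)

omit [Finite G] [Finite F] in
theorem e2_or_e4 : (∃ t, s.E2 t) ∨ s.E4 := by
  obtain ⟨t, ht, h1⟩ := s.exists_e
  by_cases h : ∀ e ∈ s.E, e = 1 ∨ e = t
  · exact .inl ⟨t, ht, h1, h⟩
  obtain ⟨e, he, e1, e2⟩ : ∃ e ∈ s.E, e ≠ 1 ∧ e ≠ t := by simpa [not_or] using h
  exact .inr ⟨e, he, t, ht, e1, h1, fun h => e2 (by rw [eq_inv_of_mul_eq_one_left h, inv_of_sq (s.sqE t ht)])⟩

omit [Finite G] [Finite F] in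
theorem E2.not_e4 {t : G} (h : s.E2 t) : ¬ s.E4 := fun ⟨e, he, e', he', h1, h2, h3⟩ => h3 (by
  rw [(h.eq e he).resolve_left h1, (h.eq e' he').resolve_left h2, s.sqE t h.mem])

theorem rob_B0 {X : Subgroup G} (hX : X ≤ s.B0) (on : ∀ x, ∃ e ∈ s.E, s.ι x * e ∈ X) : s.Rob X :=
  s.rob_qlike s.EcQ (fun _ h => s.CcE (mem_sup_left h)) (fun e he => by rw [s.sqE e he]; exact one_mem _)
    (fun g hg => by
      obtain ⟨e, he, x, rfl⟩ := s.mem_B0.1 (hX hg)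
      exact ⟨x, e, he, (mem_centralizer_iff.1 (s.EcQ he) _ (s.ι_mem x)).symm⟩) fun a => by
      obtain ⟨x, hx⟩ := s.exists_a a
      exact ⟨x, hx, on x⟩

theorem rob_B0' : s.Rob s.B0 := s.rob_B0 le_rfl fun x => ⟨1, one_mem _, by simpa using mem_sup_right (s.ι_mem x)⟩

omit [Finite G] [Finite F] in
theorem E2.dec_T {t : G} (h : s.E2 t) {x : G} (hx : x ∈ s.T) : x ∈ s.T ⊓ s.U ∨ t * x ∈ s.T ⊓ s.U := by
  obtain ⟨e, he, u, hu, rfl⟩ := s.mem_C.1 (s.TC hx)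
  rcases h.eq e he with rfl | rfl
  · exact .inl ⟨hx, by simpa using hu⟩
  · exact .inr ⟨mul_mem (s.ET he) hx, by rwa [← mul_assoc, s.sqE e he, one_mul]⟩

omit [Finite G] [Finite F] in
theorem idx2_of {M S : Subgroup G} {t : G} (h : M ≤ S) (ht : t * t ∈ M) (hn : ∀ x ∈ M, t⁻¹ * x * t ∈ M)
    (h2 : ∀ x ∈ S, x ∈ M ∨ t * x ∈ M) : Idx2 M S := ⟨h, fun x hx y hy => by
  rcases h2 x hx with a | a
  · exact .inl a
  rcases h2 y hy with b | b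
  · exact .inr (.inl b)
  refine .inr (.inr ?_)
  convert mul_mem (mul_mem (hn _ a) (inv_mem ht)) b using 1
  group⟩

section
variable (h0 : ∀ x ∈ s.A, s.Ty x → x ∈ s.E)
include h0

theorem nE_of_T {g : G} (h : ∀ x ∈ s.T, g * x * g⁻¹ ∈ s.T) : g ∈ N[s.E] := by
  obtain ⟨e, he, h1⟩ := s.exists_e
  have ty : s.Ty (g * e * g⁻¹) := ⟨g, e, he, h1, rfl⟩
  exact s.ti he h1 (h0 _ (s.mem_A_of_sq ((s.wcT s.rob_B0' fun x hx => h x (s.B0T hx)).2 e (mem_sup_left he))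
    (ty.sq s)) ty)

theorem syl0 : IsSylowIn 2 s.T ⊤ := syl_of_norm s.syl.isPGroup fun _ hP hT _ hg hn =>
  s.mem_T hP hT hg (s.mem_C_of_p2 (s.nE_of_T h0 fun _ => cj hn) (p2_of_mem hP hg))

theorem sc0 (h4 : s.E4) : SC G := by
  obtain ⟨P, hP⟩ := (s.syl0 h0).exists_sylow_top
  refine ⟨P, s.E, s.neE, ⟨⟨⟨fun a b => Subtype.ext (s.EE a.2 b.2)⟩⟩, fun a ha => by rw [pow_two, s.sqE a ha]⟩,
    hP ▸ s.ET, fun e he g hg => ?_⟩
  by_cases h1 : e = 1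
  · simp [h1, one_mem]
  rw [hP] at hg
  obtain ⟨e0, he0, n0⟩ := s.exists_e
  obtain ⟨c, hc, h⟩ := s.conj_T (X := s.E.map (MulAut.conj g).toMonoidHom) (s.pE.map _) (g := 1) he0 n0 (by
    rintro _ ⟨x, hx, rfl⟩
    simpa using mem_C1_comm.1 (s.c_ty he h1 hx (mem_C1.2 (mem_centralizer_iff.1 (s.CcE (s.TC hg)) e0 he0))))
  have h' : ∀ x ∈ s.E, c⁻¹ * g * x * (c⁻¹ * g)⁻¹ ∈ s.T := fun x hx => by simpa [mul_assoc] using h _ ⟨x, hx, rfl⟩
  have q : ∀ x ∈ s.E, c⁻¹ * g * x * (c⁻¹ * g)⁻¹ * (c⁻¹ * g * x * (c⁻¹ * g)⁻¹) = 1 := fun x hx => by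
    rw [conj_mul, s.sqE x hx]; simp
  have k : ∀ x ∈ s.E, x ≠ 1 → c⁻¹ * g * x * (c⁻¹ * g)⁻¹ ∈ s.N0 → g * e * g⁻¹ ∈ s.E := fun x hx x1 n => by
    have := cj (s.ti hx x1 (h0 _ (s.mem_A_of_sq (s.TN0 (h' x hx) n) (q x hx)) ⟨_, x, hx, x1, rfl⟩)) he
    convert this using 1
    rw [← cc (s.CcE hc) this]; group
  obtain ⟨x, hx, y, hy, x1, y1, xy⟩ := h4
  rcases (s.idx2_conj (fun x hx => (s.N0_or_Out (s.TN (h' x hx)) (q x hx ▸ one_mem _)).symm) s.pE).2 x hx y hy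
    with a | a | a
  exacts [k x hx x1 a.2, k y hy y1 a.2, k _ (mul_mem hx hy) xy a.2]

theorem e20 {t : G} (h : s.E2 t) : ¬ In2 t := fun hG => by
  have n : t ∉ s.U := fun a => h.ne (s.disj t h.mem a)
  obtain ⟨g, a, b⟩ := h.transfer s hG (s.syl0 h0) (M := s.T ⊓ s.U) (idx2_of inf_le_left
    (by rw [s.sqE t h.mem]; exact one_mem _) (fun x hx => by
      rwa [← inv_inv t, inv_inv t⁻¹, cc (s.EU (inv_mem h.mem)) hx.2]) fun x hx => h.dec_T s hx) (s.ET h.mem)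
    fun a => n a.2
  exact (show s.Ty (g * t * g⁻¹) from ⟨g, t, h.mem, h.ne, rfl⟩).ne s (s.disj _ (cj (s.nE_of_T h0 b) h.mem) a.2)

end

end Su

namespace RR
variable (r : RR s)

theorem ty_R0 {t x : G} (ht : s.E2 t) (hx : x ∈ r.R0) : ¬ s.Ty x := fun ty => by
  obtain ⟨x0, m⟩ := r.mem_R0.1 hx
  have q := (r.sq_iff x0).1 (ty.sq s)
  obtain ⟨c, c1, c2, c3⟩ := s.four
  obtain ⟨b, b0, b1, b2, b3⟩ := r.exists_elt (c * r.aa x) (c := c ^ 2 * r.lam x)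
    (by rw [map_mul, map_pow, c1, r.lam_k x x0]) (one_mem _)
  rw [r.add_one r.mu_mul] at b3
  obtain ⟨a, a0, ha⟩ : ∃ a, a ≠ 0 ∧ ∀ d, τ d = d → d * a * τ (r.aa x) + τ (d * a) * r.aa x = 0 := by
    by_cases h : r.aa x = 0
    · exact ⟨1, one_ne_zero, by simp [h]⟩
    · exact ⟨_, h, fun d hd => by rw [map_mul, hd]; linear_combination (d * r.aa x * τ (r.aa x)) * s.two⟩
  have nZ := ty.not_mem_Z s
  obtain ⟨g, e, he, h1, rfl⟩ := ty
  rw [qf, m] at q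
  obtain ⟨e', he', z, hz, h⟩ := s.ar he h1 a0 (b := b) (by
      rintro _ ⟨u, ⟨d, d1, d2⟩, rfl⟩
      exact mem_C1.2 ((r.comm_iff (r.ιR u) x0).2 (by simpa [bf, r.aa_ι, r.lam_ι, r.mu_ι, d2] using ha d d1)))
    ((r.sq_iff b0).2 (by rw [qf, b1, b2, b3, map_mul, c1]; linear_combination c ^ 2 * q))
    (mem_C1.2 ((r.comm_iff b0 x0).2 (by
      rw [bf, b1, b3, m, map_mul, c1]; linear_combination (c * r.aa (g * e * g⁻¹) * τ (r.aa (g * e * g⁻¹))) * s.two)))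
    (mem_centralizer_iff.2 (by
      rintro _ ⟨u, ⟨d, d1, d2⟩, rfl⟩
      refine (r.comm_iff (r.ιR u) b0).2 ?_
      rw [bf, r.aa_ι, r.lam_ι, r.mu_ι, d2, b1, map_mul τ c, c1]
      linear_combination c * ha d d1))
  obtain ⟨z0, z1, z2, -⟩ := r.mem_Z.1 hz
  rcases ht.eq e' he' with rfl | rfl
  · rw [mul_one, mul_inv_cancel, one_mul] at h
    rw [h, z1] at b1
    rw [h, z2] at b2
    exact nZ (r.ker _ x0 (by simpa [c2] using b1) (by simpa [c2] using b2) m)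
  · rw [← (ht.eq e he).resolve_left h1] at h
    rw [h, r.aa_mul _ x0 z z0, z1] at b1
    rw [h, r.lam_mul _ x0 z z0, z2] at b2
    have c4 : c - 1 ≠ 0 := sub_ne_zero.2 c3
    exact nZ (r.ker _ x0 (mul_left_cancel₀ c4 (by linear_combination -b1))
      (mul_left_cancel₀ (pow_ne_zero 2 c4) (by linear_combination -b2 + (1 - c) * r.lam (g * e * g⁻¹) * s.two)) m)

theorem e21 {t : G} (ht : s.E2 t) (H : r.Hyp) : ¬ Su.In2 t := fun hG => by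
  obtain ⟨P, hP, hT, hR⟩ := r.exists_P
  have nR := H.le_nR hP.isPGroup hT hR
  have dec : ∀ g ∈ P, ∃ y ∈ r.Y, ∃ u ∈ s.T, y * u = g := fun g hg =>
    r.dec_YT hP.isPGroup hT hR hg ((H g (nR hg)).resolve_right fun h => ht.not_e4 s h.2)
  have TY : s.T ≤ N[r.Y] := s.TB.trans r.B_nY
  have mM : ∀ {x}, x ∈ r.Y ⊔ s.T ⊓ s.U ↔ ∃ y ∈ r.Y, ∃ u ∈ s.T ⊓ s.U, y * u = x :=
    mem_sup_of_le_normalizer (inf_le_left.trans TY)
  have tT := s.ET ht.mem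
  obtain ⟨g, a, b⟩ := ht.transfer s hG hP (M := r.Y ⊔ s.T ⊓ s.U) (Su.idx2_of
    (sup_le (r.YR.trans hR) (inf_le_left.trans hT)) (by rw [s.sqE t ht.mem]; exact one_mem _) (fun x hx => by
      obtain ⟨y, hy, u, hu, rfl⟩ := mM.1 hx
      rw [← inv_inv t, inv_inv t⁻¹, ← conj_mul, cc (s.EU (inv_mem ht.mem)) hu.2]
      exact mul_mem_sup (cj (TY (inv_mem tT)) hy) hu) fun x hx => by
      obtain ⟨y, hy, u, hu, rfl⟩ := dec x hx
      refine (ht.dec_T s hu).imp (mul_mem_sup hy) fun h => ?_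
      simpa [mul_assoc] using mul_mem_sup (cj (TY tT) hy) h) (hT tT) fun h => by
      obtain ⟨y, hy, u, hu, e⟩ := mM.1 h
      have : y ∈ s.B0 := r.mem_B0_of_C hy.1 ((mul_mem_cancel_right (s.TC hu.1)).1 (e ▸ s.TC tT))
      exact ht.ne (s.disj t ht.mem (e ▸ mul_mem (s.QleU (r.mem_Q.2 ⟨hy.1, (r.mem_B0.1 this).2, (r.mem_Y.1 hy).2.2⟩)) hu.2))
  obtain ⟨hZ, h1⟩ := H.phi hP.isPGroup hT hR s.rob_B0' fun x hx => ⟨b x (s.B0T hx), nR (b x (s.B0T hx))⟩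
  have tB : t ∈ s.B0 := mem_sup_left ht.mem
  rcases h1 t tB with n | o
  · obtain ⟨y, hy, u, hu, e⟩ := mM.1 a
    have := r.mem_Q.1 (s.mem_Q_of_U (s.TN0 hu.1 ((mul_mem_cancel_left (r.R_le_N0 hy.1)).1 (e ▸ n))) hu.2)
    exact r.ty_R0 ht (r.mem_R0.2 ⟨e ▸ mul_mem hy.1 this.1, by
      rw [← e, r.mu_mul y hy.1 u this.1, this.2.2, (r.mem_Y.1 hy).2.2, add_zero]⟩) ⟨g, t, ht.mem, ht.ne, rfl⟩
  obtain ⟨m, hm, o'⟩ := r.out_aa o (nR (b t tT))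
  have rob : s.Rob (s.B0 ⊓ s.N0.comap (MulAut.conj g).toMonoidHom) := s.rob_B0 inf_le_left fun x => by
    have xB : s.ι x ∈ s.B0 := mem_sup_right (s.ι_mem x)
    rcases h1 _ xB with h | h
    · exact ⟨1, one_mem _, by simpa using ⟨xB, h⟩⟩
    · exact ⟨t, ht.mem, mul_mem xB tB, by
        simpa using h.mul s o (p2_of_mem hP.isPGroup (mul_mem (b _ (s.B0T xB)) (b t tT)))⟩
  have inR : ∀ x ∈ s.B0 ⊓ s.N0.comap (MulAut.conj g).toMonoidHom, g * x * g⁻¹ ∈ r.R := fun x hx =>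
    have := b x (s.B0T hx.1)
    r.mem_R_of hP.isPGroup hT hR this ((H _ (nR this)).resolve_right fun h => ht.not_e4 s h.2) hx.2
  have fx : ∀ x ∈ s.B0 ⊓ s.N0.comap (MulAut.conj g).toMonoidHom, m * τ (r.aa (g * x * g⁻¹)) = r.aa (g * x * g⁻¹) :=
    fun x hx => by
      rw [← o' _ (inR x hx), conj_mul, conj_inv, conj_mul, mem_centralizer_iff.1 (s.CcE (s.TC (s.B0T hx.1))) t ht.mem,
        mul_inv_cancel_right]
  have mt : ∀ x ∈ r.R, r.mu x ≠ 0 → r.mu x = r.mu t := fun x hx n => by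
    obtain ⟨e, he, h⟩ := r.rng x hx
    rcases ht.eq e he with rfl | rfl
    · exact (n (h.trans (r.add_one r.mu_mul))).elim
    · exact h
  have := Su.conj_commutator_le (K := ⊥) (h := g) (fun x hx y hy => by
      rw [r.comm' (inR x hx.1) (inR y hy.1), mem_bot, s.zc_eq_one (r.bf_k (inR x hx.1) (inR y hy.1)), bf,
        (r.mem_R0.1 (show g * x * g⁻¹ ∈ _ from hx.2)).2, (r.mem_R0.1 (show g * y * g⁻¹ ∈ _ from hy.2)).2]
      have m0 : m ≠ 0 := by rintro rfl; simp at hm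
      refine mul_left_cancel₀ m0 ?_
      linear_combination r.aa (g * x * g⁻¹) * fx y hy.1 + r.aa (g * y * g⁻¹) * fx x hx.1 +
        r.aa (g * x * g⁻¹) * r.aa (g * y * g⁻¹) * s.two)
    (rob.2 ((s.B0 ⊓ s.N0.comap (MulAut.conj g).toMonoidHom) ⊓ r.R0.comap (MulAut.conj g).toMonoidHom)
      ⟨inf_le_left, fun x hx y hy => by
        by_cases a : r.mu (g * x * g⁻¹) = 0
        · exact .inl ⟨hx, r.mem_R0.2 ⟨inR x hx, a⟩⟩
        by_cases b : r.mu (g * y * g⁻¹) = 0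
        · exact .inr (.inl ⟨hy, r.mem_R0.2 ⟨inR y hy, b⟩⟩)
        refine .inr (.inr ⟨mul_mem hx hy, r.mem_R0.2 ⟨inR _ (mul_mem hx hy), ?_⟩⟩)
        change r.mu (g * (x * y) * g⁻¹) = 0
        rw [← conj_mul, r.mu_mul _ (inR x hx) _ (inR y hy), mt _ (inR x hx) a, mt _ (inR y hy) b, s.add_self]⟩
      (s.zc_mem 1))
  exact s.zc_one_ne (by simpa using this)

include r in
theorem main : Su.SC G ∨ ∃ t, s.E2 t ∧ ¬ Su.In2 t := by
  by_cases h : ∃ t, s.E2 t ∧ r.k0 = r.mu t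
  · obtain ⟨t, ht, h⟩ := h
    exact .inr ⟨t, ht, r.four ht h⟩
  by_cases h' : r.k0 = 0 ∧ ∃ g ∈ N[r.R], ∃ u, u ≠ 0 ∧ ∀ a ∈ s.A, g * a * g⁻¹ ∈ r.Pt u
  · obtain ⟨h0, g, hg, u, hu, h⟩ := h'
    obtain ⟨g, hg, hY, u, hu, h⟩ := r.mob h0 hg hu h
    exact .inr (r.two h0 hg hY hu h)
  have H : r.Hyp := fun g hg => or_iff_not_imp_left.2 fun n => by
    rcases r.tri hg n with ⟨a, b⟩ | a | a
    · exact (h' ⟨a, g, hg, b⟩).elim
    · refine ⟨a, s.e2_or_e4.resolve_left fun ⟨t, ht⟩ => ?_⟩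
      have c1 : Nat.card r.Y ≤ Nat.card s.A :=
        Nat.card_le_card_of_injective (fun y => ⟨g⁻¹ * y * g, a.2.2 y y.2⟩) fun v w e => Subtype.ext (by simpa using e)
      have c2 := s.card_A_le
      have c3 := s.four_le_card_Z
      rw [ht.card s] at c2
      rw [r.card_Y] at c1
      nlinarith
    · exact (h a).elim
  exact s.e2_or_e4.symm.imp H.sc fun ⟨t, ht⟩ => ⟨t, ht, r.e21 ht H⟩

end RR

theorem Su.main (s : Su G τ) : Su.SC G ∨ (Nat.card s.E = 2 ∧ ∃ H : Subgroup G, IsComplement' s.E H) := by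
  have : Su.SC G ∨ ∃ t, s.E2 t ∧ ¬ Su.In2 t := by
    by_cases h : ∀ x ∈ s.A, s.Ty x → x ∈ s.E
    · exact s.e2_or_e4.symm.imp (s.sc0 h) fun ⟨t, ht⟩ => ⟨t, ht, s.e20 h ht⟩
    obtain ⟨x, hx, ty, n⟩ : ∃ x ∈ s.A, s.Ty x ∧ x ∉ s.E := by simpa using h
    exact (s.exists_rr hx n ty).some.main
  refine this.imp_right fun ⟨t, ht, h⟩ => ⟨ht.card s, ?_⟩
  obtain ⟨φ, hφ⟩ := not_forall.1 h
  refine ⟨φ.ker, isComplement'_of_disjoint_and_mul_eq_univ (disjoint_def.2 fun {e} he h => ?_)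
    (Set.eq_univ_of_forall fun x => ?_)⟩
  · exact (ht.eq e he).resolve_right fun e' => hφ (e' ▸ h)
  · rcases Int.units_eq_one_or (φ x) with e | e
    · exact ⟨1, one_mem _, x, e, one_mul x⟩
    · exact ⟨t, ht.mem, t⁻¹ * x, by
        rw [SetLike.mem_coe, MonoidHom.mem_ker, map_mul, map_inv, e, (Int.units_eq_one_or (φ t)).resolve_left hφ,
          inv_mul_cancel], mul_inv_cancel_left t x⟩

end Cfsg.Lib.U3F
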