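import Cfsg.Agent.Lib.U3F.Api

/-!
# Basic properties of `R = Q ∘ D`
-/

set_option autoImplicit false

namespace Cfsg.Lib.U3F.RR
open Subgroup Cfsg.Lib Cfsg.Lib.FT Cfsg.Lib.TwoL Cfsg.Lib.U3S

variable {G : Type*} [Group G] {F : Type*} [Field F] {τ : F ≃+* F} [Fact (Function.Involutive τ)] {s : Su G τ}
  (r : RR s)

/-- the commutator form -/
def bf (x y : G) : F := r.aa x * τ (r.aa y) + τ (r.aa x) * r.aa y + r.lam x * r.mu y + r.lam y * r.mu x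

/-- the squaring form -/
def qf (x : G) : F := r.aa x * τ (r.aa x) + r.lam x * (r.mu x + r.k0)

theorem bf_k {x y : G} (hx : x ∈ r.R) (hy : y ∈ r.R) : τ (r.bf x y) = r.bf x y := by
  simp only [bf, map_add, map_mul, ττ, r.lam_k x hx, r.lam_k y hy, r.mu_k x hx, r.mu_k y hy]; ring

theorem qf_k {x : G} (hx : x ∈ r.R) : τ (r.qf x) = r.qf x := by
  simp only [qf, map_add, map_mul, ττ, r.lam_k x hx, r.mu_k x hx, r.k0_k]; ring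

theorem comm' {x y : G} (hx : x ∈ r.R) (hy : y ∈ r.R) : x * y * x⁻¹ * y⁻¹ = s.zc (r.bf x y) := r.comm x hx y hy

theorem sq' {x : G} (hx : x ∈ r.R) : x * x = s.zc (r.qf x) := r.sq x hx

theorem comm_iff {x y : G} (hx : x ∈ r.R) (hy : y ∈ r.R) : x * y = y * x ↔ r.bf x y = 0 := by
  rw [← s.zc_eq_one (r.bf_k hx hy), ← r.comm' hx hy, mul_inv_eq_one, mul_inv_eq_iff_eq_mul]

theorem sq_iff {x : G} (hx : x ∈ r.R) : x * x = 1 ↔ r.qf x = 0 := by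
  rw [← s.zc_eq_one (r.qf_k hx), ← r.sq' hx]

theorem aa_inv {x : G} (hx : x ∈ r.R) : r.aa x⁻¹ = r.aa x := r.add_inv r.aa_mul hx
theorem lam_inv {x : G} (hx : x ∈ r.R) : r.lam x⁻¹ = r.lam x := r.add_inv r.lam_mul hx
theorem mu_inv {x : G} (hx : x ∈ r.R) : r.mu x⁻¹ = r.mu x := r.add_inv r.mu_mul hx

theorem ιR (x : U3S τ) : s.ι x ∈ r.R := r.QR ⟨x, rfl⟩

theorem ZR : s.Z ≤ r.R := s.ZQ.trans r.QR

theorem AR : s.A ≤ r.R := sup_le r.ER r.ZR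

theorem mem_Z {x : G} : x ∈ s.Z ↔ x ∈ r.R ∧ r.aa x = 0 ∧ r.lam x = 0 ∧ r.mu x = 0 := ⟨by rintro ⟨x, h, rfl⟩; exact ⟨r.ιR x, by rw [r.aa_ι, h], r.lam_ι x, r.mu_ι x⟩, fun h => r.ker x h.1 h.2.1 h.2.2.1 h.2.2.2⟩

/-- elements with the same coordinates differ by an element of `Z` -/
theorem same {x y : G} (hx : x ∈ r.R) (hy : y ∈ r.R) (h1 : r.aa x = r.aa y) (h2 : r.lam x = r.lam y)
    (h3 : r.mu x = r.mu y) : x⁻¹ * y ∈ s.Z :=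
  r.ker _ (mul_mem (inv_mem hx) hy) (by rw [r.aa_mul _ (inv_mem hx) y hy, r.aa_inv hx, h1, s.add_self])
    (by rw [r.lam_mul _ (inv_mem hx) y hy, r.lam_inv hx, h2, s.add_self])
    (by rw [r.mu_mul _ (inv_mem hx) y hy, r.mu_inv hx, h3, s.add_self])

theorem mem_of_same {V : Subgroup G} (hZ : s.Z ≤ V) {x y : G} (hV : x ∈ V) (hx : x ∈ r.R) (hy : y ∈ r.R)
    (h1 : r.aa x = r.aa y) (h2 : r.lam x = r.lam y) (h3 : r.mu x = r.mu y) : y ∈ V :=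
  (mul_mem_cancel_left (inv_mem hV)).1 (hZ (r.same hx hy h1 h2 h3))

theorem mem_Q {x : G} : x ∈ s.Q ↔ x ∈ r.R ∧ r.lam x = 0 ∧ r.mu x = 0 := by
  refine ⟨by rintro ⟨x, rfl⟩; exact ⟨r.ιR x, r.lam_ι x, r.mu_ι x⟩, fun ⟨h1, h2, h3⟩ => ?_⟩
  obtain ⟨u, hu⟩ := s.exists_a (r.aa x)
  exact r.mem_of_same s.ZQ (s.ι_mem u) (r.ιR u) h1 (by rw [r.aa_ι, hu]) (by rw [r.lam_ι, h2]) (by rw [r.mu_ι, h3])

theorem mem_A {x : G} : x ∈ s.A ↔ x ∈ r.R ∧ r.aa x = 0 ∧ r.lam x = 0 := by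
  refine ⟨fun h => ?_, fun ⟨h1, h2, h3⟩ => ?_⟩
  · obtain ⟨e, he, z, hz, rfl⟩ := s.mem_A.1 h
    obtain ⟨z0, z1, z2, -⟩ := r.mem_Z.1 hz
    exact ⟨r.AR h, by rw [r.aa_mul e (r.ER he) z z0, r.aa_E e he, z1, add_zero],
      by rw [r.lam_mul e (r.ER he) z z0, r.lam_E e he, z2, add_zero]⟩
  obtain ⟨e, he, h⟩ := r.rng x h1
  exact r.mem_of_same le_sup_right (mem_sup_left he) (r.ER he) h1 (by rw [r.aa_E e he, h2]) (by rw [r.lam_E e he, h3])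
    h.symm

theorem mem_B0 {x : G} : x ∈ s.B0 ↔ x ∈ r.R ∧ r.lam x = 0 := by
  refine ⟨fun h => ?_, fun ⟨h1, h2⟩ => ?_⟩
  · obtain ⟨e, he, u, rfl⟩ := s.mem_B0.1 h
    exact ⟨mul_mem (r.ER he) (r.ιR u), by rw [r.lam_mul e (r.ER he) _ (r.ιR u), r.lam_E e he, r.lam_ι, add_zero]⟩
  obtain ⟨e, he, h⟩ := r.rng x h1
  have m := mul_mem (r.ER he) h1
  refine (mul_mem_cancel_left (mem_sup_left he)).1 (mem_sup_right (r.mem_Q.2 ⟨m, ?_, ?_⟩))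
  · rw [r.lam_mul e (r.ER he) x h1, r.lam_E e he, h2, add_zero]
  · rw [r.mu_mul e (r.ER he) x h1, h, s.add_self]

theorem exists_elt (a : F) {c : F} (hc : τ c = c) {e : G} (he : e ∈ s.E) :
    ∃ x ∈ r.R, r.aa x = a ∧ r.lam x = c ∧ r.mu x = r.mu e := by
  obtain ⟨u, hu⟩ := s.exists_a a
  obtain ⟨y, hy, y1, y2, y3⟩ := r.onto c hc
  have m := mul_mem (r.ιR u) hy
  refine ⟨s.ι u * y * e, mul_mem m (r.ER he), ?_, ?_, ?_⟩
  · rw [r.aa_mul _ m e (r.ER he), r.aa_mul _ (r.ιR u) y hy, r.aa_ι, y1, r.aa_E e he, hu]; ring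
  · rw [r.lam_mul _ m e (r.ER he), r.lam_mul _ (r.ιR u) y hy, r.lam_ι, y2, r.lam_E e he]; ring
  · rw [r.mu_mul _ m e (r.ER he), r.mu_mul _ (r.ιR u) y hy, r.mu_ι, y3]; ring

theorem mem_R {x : G} : x ∈ r.R ↔ ∃ u, ∃ d ∈ r.D, s.ι u * d = x := by
  refine ⟨fun h => ?_, by rintro ⟨u, d, hd, rfl⟩; exact mul_mem (r.ιR u) hd.1⟩
  obtain ⟨u, hu⟩ := s.exists_a (r.aa x)
  refine ⟨u, (s.ι u)⁻¹ * x, r.mem_D.2 ⟨mul_mem (inv_mem (r.ιR u)) h, ?_⟩, by group⟩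
  rw [r.aa_mul _ (inv_mem (r.ιR u)) x h, r.aa_inv (r.ιR u), r.aa_ι, hu, s.add_self]

theorem RcZ : r.R ≤ C[s.Z] := fun x hx => mem_centralizer_iff.2 fun z hz => by
  obtain ⟨z0, z1, z2, z3⟩ := r.mem_Z.1 hz
  rw [r.comm_iff z0 hx, bf, z1, z2, z3]; simp

theorem mem_cQ {x : G} (hx : x ∈ r.R) : x ∈ C[s.Q] ↔ r.aa x = 0 := by
  refine ⟨fun h => s.eq_zero_of_tr fun a => ?_, fun h => mem_centralizer_iff.2 ?_⟩
  · obtain ⟨u, rfl⟩ := s.exists_a a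
    simpa [bf, r.aa_ι, r.lam_ι, r.mu_ι] using (r.comm_iff (r.ιR u) hx).1 (mem_centralizer_iff.1 h _ (s.ι_mem u))
  · rintro _ ⟨u, rfl⟩
    rw [r.comm_iff (r.ιR u) hx, bf, h, r.lam_ι, r.mu_ι]; simp

theorem mem_cY {x : G} (hx : x ∈ r.R) : x ∈ C[r.Y] ↔ r.mu x = 0 := by
  refine ⟨fun h => ?_, fun h => mem_centralizer_iff.2 fun y hy => ?_⟩
  · obtain ⟨y, hy, y1, y2, y3⟩ := r.onto 1 (map_one τ)
    simpa [bf, y1, y2, y3] using (r.comm_iff hy hx).1 (mem_centralizer_iff.1 h _ (r.mem_Y.2 ⟨hy, y1, y3⟩))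
  · obtain ⟨y0, y1, y2⟩ := r.mem_Y.1 hy
    rw [r.comm_iff y0 hx, bf, h, y1, y2]; simp

theorem DR : r.D ≤ r.R := fun _ h => h.1
theorem YR : r.Y ≤ r.R := fun _ h => h.1
theorem R0R : r.R0 ≤ r.R := fun _ h => h.1
theorem PtR (u : F) : r.Pt u ≤ r.R := fun _ h => h.1

theorem DcQ : r.D ≤ C[s.Q] := fun _ h => (r.mem_cQ h.1).2 (r.mem_D.1 h).2

theorem YcQ : r.Y ≤ C[s.Q] := fun _ h => (r.mem_cQ h.1).2 (r.mem_Y.1 h).2.1

theorem YY : r.Y ≤ C[r.Y] := fun _ h => (r.mem_cY h.1).2 (r.mem_Y.1 h).2.2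

theorem ZY : s.Z ≤ r.Y := fun _ h => r.mem_Y.2 ⟨r.ZR h, (r.mem_Z.1 h).2.1, (r.mem_Z.1 h).2.2.2⟩

theorem Pt_zero : r.Pt 0 = s.A := by
  ext x; rw [r.mem_Pt, r.mem_A]; simp

variable [Finite G] [Finite F]

theorem R_le_N0 : r.R ≤ s.N0 := fun x hx => by
  obtain ⟨u, d, hd, rfl⟩ := r.mem_R.1 hx
  exact mul_mem (s.Q_le_N0 (s.ι_mem u)) (s.cQ_le_N0 (r.DcQ hd))

theorem rob_R : s.Rob r.R := ⟨fun x hx => by rw [r.sq' hx]; exact s.zc_mem _, fun X' h =>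
    (s.rob_Q.2 _ (h.inf r.QR)).trans (commutator_mono inf_le_left inf_le_left)⟩

theorem nR_nZ : N[r.R] ≤ N[s.Z] := fun g hg => mem_n fun z hz => Su.conj_commutator_le
    (fun x hx y hy => r.rob_R.comm_mem s (cj hg hx) (cj hg hy)) (r.rob_R.2 _ (.refl _) hz)

theorem B_nR : s.B ≤ N[r.R] := fun g hg => r.nR g hg.2 (mem_n fun a ha => by
  obtain ⟨e, he, z, hz, rfl⟩ := s.mem_A.1 ha
  rw [← conj_mul, cc (s.CcE hg.1) he]
  exact mul_mem_sup he (cj (s.nQ_nZ hg.2) hz))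

theorem nD {g : G} (h : g ∈ N[r.R]) (hQ : g ∈ N[s.Q]) : g ∈ N[r.D] := mem_n fun d hd =>
  r.mem_D.2 ⟨cj h hd.1, (r.mem_cQ (cj h hd.1)).1 (cj (normalizer_le_normalizer_centralizer _ hQ) (r.DcQ hd))⟩

theorem cD {c : G} (hc : c ∈ s.B) (ho : Odd (orderOf c)) (h : c ∈ C[s.Z]) : c ∈ C[r.D] := by
  obtain ⟨e, he, h1⟩ := s.exists_e
  exact s.ab' (r.p2.to_le r.DR) r.DcQ he h1 (r.nD (le_normalizer (r.ER he)) (c_le_n _ (s.EcQ he))) hc.1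
    (r.nD (r.B_nR hc) hc.2) ho h

theorem OcR' : s.O ≤ C[r.R] := fun o ho => mem_c fun x hx => by
  obtain ⟨u, d, hd, rfl⟩ := r.mem_R.1 hx
  rw [← conj_mul, cc (s.OQ ho) (s.ι_mem u), cc (r.cD ⟨mem_sup_right (s.OU ho), c_le_n _ (s.OQ ho)⟩
    (odd_order_of_mem s.Oodd ho) (centralizer_le s.ZQ (s.OQ ho))) hd]

omit [Finite G] [Finite F] in
theorem mu_pow (i : ℕ) {x : G} (hx : x ∈ r.R) : r.mu (s.ρ ^ i * x * (s.ρ ^ i)⁻¹) = r.mu x := by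
  induction i with
  | zero => simp
  | succ i ih => rw [← ih, ← r.ρmu _ (cj (pow_mem r.ρN i) hx)]; congr 1; group

theorem B_nD : s.B ≤ N[r.D] := fun _ hg => r.nD (r.B_nR hg) hg.2

theorem B_nY : s.B ≤ N[r.Y] := fun g hg => mem_n fun y hy => by
  obtain ⟨y0, y1, y2⟩ := r.mem_Y.1 hy
  obtain ⟨i, hi⟩ := s.bor' hg
  have n1 : s.l * τ s.l + 1 ≠ 0 := fun e => s.nu_ne (by linear_combination e - s.two)
  obtain ⟨x, x0, x1, x2, x3⟩ := r.onto (r.lam y / (s.l * τ s.l + 1)) (by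
    rw [map_div₀, map_add, map_one, Su.nu_k, r.lam_k y y0])
  have m := cj r.ρN x0
  have hz := r.same (mul_mem m (inv_mem x0)) y0
    (by rw [r.aa_mul _ m _ (inv_mem x0), r.ρaa x x0, r.aa_inv x0, x1, y1]; ring)
    (by rw [r.lam_mul _ m _ (inv_mem x0), r.ρlam x x0, r.lam_inv x0, x2]; field_simp)
    (by rw [r.mu_mul _ m _ (inv_mem x0), r.ρmu x x0, r.mu_inv x0, x3, y2]; ring)
  have d := cj (r.B_nD hg) (r.mem_D.2 ⟨x0, x1⟩)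
  have e := hi _ (r.DcQ d) (le_centralizer_iff.1 r.OcR' d.1)
  have m' := cj (pow_mem r.ρN i) d.1
  have k : s.ρ ^ i * (g * x * g⁻¹) * (s.ρ ^ i)⁻¹ * (g * x * g⁻¹)⁻¹ ∈ r.Y := r.mem_Y.2 ⟨mul_mem m' (inv_mem d.1),
    (r.mem_D.1 (mul_mem (cj (r.B_nD (pow_mem s.ρB i)) d) (inv_mem d))).2,
    by rw [r.mu_mul _ m' _ (inv_mem d.1), r.mu_pow i d.1, r.mu_inv d.1, s.add_self]⟩
  convert mul_mem k (r.ZY (cj (s.nQ_nZ hg.2) hz)) using 1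
  rw [← e]; group

theorem OcR : s.O ≤ C[r.R] := r.OcR'

theorem κcD {j : ℕ} (h : s.l ^ j * τ (s.l ^ j) = 1) : s.ρ ^ j ∈ C[r.D] := r.cD (pow_mem s.ρB j) (s.ρodd.of_dvd_nat (orderOf_pow_dvd j)) (mem_c fun z hz => by
  obtain ⟨b, hb, rfl⟩ := s.mem_Z.1 hz
  rw [s.ρ_pow_zc j hb, mul_pow, ← map_pow, h, one_mul])

omit [Finite G] [Finite F] in
theorem card_eq {V W : Subgroup G} (hV : V ≤ r.R) (hZ : s.Z ≤ V) {f : G → F}
    (hf : ∀ x ∈ r.R, ∀ y ∈ r.R, f (x * y) = f x + f y) (hk : ∀ x ∈ r.R, τ (f x) = f x)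
    (h0 : ∀ v ∈ V, f v = 0 ↔ v ∈ s.Z) (hW : ∀ w, w ∈ W ↔ ∃ v ∈ V, s.zc (f v) = w) :
    Nat.card V = Nat.card W * Nat.card s.Z := by
  let φ : V →* G := MonoidHom.mk' (fun v => s.zc (f v)) fun a b => by
    rw [coe_mul, hf _ (hV a.2) _ (hV b.2), s.zc_add (hk _ (hV a.2)) (hk _ (hV b.2))]
  have h1 : φ.range = W := by
    ext w; rw [hW]; exact ⟨by rintro ⟨v, rfl⟩; exact ⟨v, v.2, rfl⟩, fun ⟨v, hv, e⟩ => ⟨⟨v, hv⟩, e⟩⟩
  have h2 : φ.ker = s.Z.subgroupOf V := by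
    ext v; exact (s.zc_eq_one (hk _ (hV v.2))).trans (h0 v v.2)
  rw [← φ.ker.card_mul_index, index_ker, h1, h2, Nat.card_congr (subgroupOfEquivOfLe hZ).toEquiv, mul_comm]

theorem card_Y : Nat.card r.Y = Nat.card s.Z ^ 2 := by
  rw [pow_two]
  refine r.card_eq r.YR r.ZY r.lam_mul r.lam_k (fun v hv => ?_) fun w => ⟨fun hw => ?_, ?_⟩
  · rw [r.mem_Z]; have := r.mem_Y.1 hv; tauto
  · obtain ⟨b, hb, rfl⟩ := s.mem_Z.1 hw
    obtain ⟨y, y0, y1, y2, y3⟩ := r.onto b hb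
    exact ⟨y, r.mem_Y.2 ⟨y0, y1, y3⟩, by rw [y2]⟩
  · rintro ⟨v, -, rfl⟩; exact s.zc_mem _

theorem card_Pt (u : F) : Nat.card (r.Pt u) = Nat.card s.E * Nat.card s.Z := by
  let φ : s.E →* G := MonoidHom.mk' (fun v => s.zc (r.mu v)) fun a b => by
    rw [coe_mul, r.mu_mul _ (r.ER a.2) _ (r.ER b.2), s.zc_add (r.mu_k _ (r.ER a.2)) (r.mu_k _ (r.ER b.2))]
  have hi : Function.Injective φ := (injective_iff_map_eq_one φ).2 fun e h =>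
    Subtype.ext (r.mu_inj e e.2 ((s.zc_eq_one (r.mu_k _ (r.ER e.2))).1 h))
  rw [Nat.card_congr (MonoidHom.ofInjective hi).toEquiv]
  refine r.card_eq (r.PtR u) (fun z hz => ?_) r.mu_mul r.mu_k (fun v hv => ?_) fun w => ⟨?_, ?_⟩
  · obtain ⟨z0, z1, z2, z3⟩ := r.mem_Z.1 hz
    exact r.mem_Pt.2 ⟨z0, by simp [z1, z3], by simp [z2, z3]⟩
  · obtain ⟨v0, v1, v2⟩ := r.mem_Pt.1 hv
    exact ⟨fun h => r.ker v v0 (by simp [v1, h]) (by simp [v2, h]) h, fun h => (r.mem_Z.1 h).2.2.2⟩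
  · rintro ⟨e, rfl⟩
    obtain ⟨x, x0, x1, x2, x3⟩ := r.exists_elt (u * r.mu e) (c := u * τ u * r.mu e)
      (by rw [map_mul, Su.nu_k, r.mu_k _ (r.ER e.2)]) e.2
    exact ⟨x, r.mem_Pt.2 ⟨x0, by rw [x1, x3], by rw [x2, x3]⟩, by rw [x3]; rfl⟩
  · rintro ⟨v, hv, rfl⟩
    obtain ⟨e, he, h⟩ := r.rng v hv.1
    exact ⟨⟨e, he⟩, by rw [h]; rfl⟩

omit [Finite G] [Finite F] in
/-- `e Z` is a single `Y`-class -/
theorem conj_eZ {e z : G} (he : e ∈ s.E) (h1 : e ≠ 1) (hz : z ∈ s.Z) : ∃ y ∈ r.Y, y * e * y⁻¹ = e * z := by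
  obtain ⟨b, hb, rfl⟩ := s.mem_Z.1 hz
  have m0 : r.mu e ≠ 0 := fun h => h1 (r.mu_inj e he h)
  obtain ⟨y, y0, y1, y2, y3⟩ := r.onto (b / r.mu e) (by rw [map_div₀, hb, r.mu_k e (r.ER he)])
  refine ⟨y, r.mem_Y.2 ⟨y0, y1, y3⟩, ?_⟩
  rw [← mem_centralizer_iff.1 (s.EcZ he) _ (s.zc_mem b), ← mul_inv_eq_iff_eq_mul, r.comm' y0 (r.ER he), bf, y1, y2, y3]
  congr 1; field_simp; simp

/-- `N(R) ∩ N(A) = Y (N(R) ∩ N(E))` -/
theorem nA_dec {g : G} (hA : g ∈ N[s.A]) : ∃ y ∈ r.Y, y⁻¹ * g ∈ N[s.E] := by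
  obtain ⟨e, he, h1⟩ := s.exists_e
  obtain ⟨e', he', z, hz, h⟩ := s.mem_A.1 (cj hA (mem_sup_left he))
  obtain ⟨y, hy, h'⟩ := r.conj_eZ he' (by
    rintro rfl; exact Su.Ty.not_mem_Z s ⟨g, e, he, h1, rfl⟩ (by rwa [← h, one_mul])) hz
  refine ⟨y, hy, s.ti he h1 ?_⟩
  rwa [show y⁻¹ * g * e * (y⁻¹ * g)⁻¹ = y⁻¹ * (g * e * g⁻¹) * y by group, ← h, ← h', show y⁻¹ * (y * e' * y⁻¹) * y = e' by group]

omit [Finite G] [Finite F] in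
theorem mem_B0_of_C {x : G} (hx : x ∈ r.R) (hC : x ∈ s.C) : x ∈ s.B0 := by
  obtain ⟨e, he, h1⟩ := s.exists_e
  have := (r.comm_iff (r.ER he) hx).1 (mem_centralizer_iff.1 (s.CcE hC) e he)
  rw [bf, r.aa_E e he, r.lam_E e he] at this
  exact r.mem_B0.2 ⟨hx, by simpa [show r.mu e ≠ 0 from fun h => h1 (r.mu_inj e he h)] using this⟩

theorem nA_nQ {g : G} (h : g ∈ N[r.R]) (hA : g ∈ N[s.A]) : g ∈ N[s.Q] := by
  obtain ⟨y, hy, hn⟩ := r.nA_dec hA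
  have h' := mul_mem (inv_mem (le_normalizer (r.YR hy))) h
  simpa using mul_mem (c_le_n _ (r.YcQ hy)) (s.nq (fun x hx => r.mem_B0_of_C (cj' h' (r.QR hx))
    (cj' (s.nE_nC hn) (mem_sup_right (s.QleU hx)))) fun j _ => cj' (s.nE_nC hn) (pow_mem s.ρC j))

theorem nA_nY (h0 : r.k0 = 0) {g : G} (h : g ∈ N[r.R]) (hA : g ∈ N[s.A]) : g ∈ N[r.Y] := mem_n fun y hy => by
  obtain ⟨y0, y1, y2⟩ := r.mem_Y.1 hy
  obtain ⟨d0, d1⟩ := r.mem_D.1 (cj (r.nD h (r.nA_nQ h hA)) (r.mem_D.2 ⟨y0, y1⟩))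
  have q := (r.sq_iff d0).1 (by rw [conj_mul, (r.sq_iff y0).2 (by simp [qf, y1, y2, h0])]; simp)
  rw [qf, d1, h0] at q
  rcases mul_eq_zero.1 (by simpa using q : r.lam (g * y * g⁻¹) * r.mu (g * y * g⁻¹) = 0) with e | e
  · have := cj' hA (r.mem_A.2 ⟨d0, d1, e⟩)
    rw [show g⁻¹ * (g * y * g⁻¹) * g = y by group] at this
    exact r.ZY (cj (r.nR_nZ h) (r.ker y y0 y1 (r.mem_A.1 this).2.2 y2))
  · exact r.mem_Y.2 ⟨d0, d1, e⟩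

/-- elements of `R` commuting with `e^g` centralize `A^g` -/
theorem f0 {g e a x : G} (h : g ∈ N[r.R]) (he : e ∈ s.E) (h1 : e ≠ 1) (ha : a ∈ s.A) (hx : x ∈ r.R)
    (hc : r.bf x (g * e * g⁻¹) = 0) : r.bf x (g * a * g⁻¹) = 0 := by
  obtain ⟨e', he', z, hz, rfl⟩ := s.mem_A.1 ha
  rw [← r.comm_iff hx (cj h (r.AR ha)), ← conj_mul, ← mul_assoc,
    mem_C1.1 (s.c_ty he h1 he' (mem_C1.2 ((r.comm_iff hx (cj h (r.ER he))).2 hc))), mul_assoc,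
    ← mem_centralizer_iff.1 (r.RcZ hx) _ (cj (r.nR_nZ h) hz), ← mul_assoc]

/-- proportionality of elements with nested centralizers -/
theorem prop {v v' : G} (hv : v ∈ r.R) (hv' : v' ∈ r.R) (h0 : r.mu v ≠ 0)
    (h : ∀ x ∈ r.R, r.bf x v = 0 → r.bf x v' = 0) :
    r.aa v' * r.mu v = r.aa v * r.mu v' ∧ r.lam v' * r.mu v = r.lam v * r.mu v' := by
  have k := r.mu_k v hv
  have k' := r.mu_k v' hv'
  have h1 : r.aa v' * r.mu v + r.aa v * r.mu v' = 0 := s.eq_zero_of_tr fun u => by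
    obtain ⟨x, x0, x1, x2, x3⟩ := r.exists_elt u (c := (u * τ (r.aa v) + τ u * r.aa v) / r.mu v)
      (by simp only [map_div₀, map_add, map_mul, ττ, k]; ring) (one_mem _)
    rw [r.add_one r.mu_mul] at x3
    have := h x x0 (by rw [bf, x1, x2, x3]; field_simp; linear_combination (u * τ (r.aa v) + τ u * r.aa v) * s.two)
    rw [bf, x1, x2, x3] at this
    field_simp at this
    simp only [map_add, map_mul, k, k']
    linear_combination this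
  have h2 := congrArg τ h1
  simp only [map_add, map_mul, k, k', map_zero] at h2
  have h3 := h v hv ((r.comm_iff hv hv).1 rfl)
  refine ⟨by linear_combination h1 - r.aa v * r.mu v' * s.two, mul_right_cancel₀ h0 ?_⟩
  rw [bf] at h3
  linear_combination r.mu v * h3 - r.aa v * h2 - τ (r.aa v) * h1 +
    (r.aa v * τ (r.aa v) * r.mu v' - r.lam v * r.mu v' * r.mu v) * s.two

/-- for `k0 = 0`, `N(R)` permutes `Y` and the points -/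
theorem pts (h0 : r.k0 = 0) {V : Subgroup G} (hV : V ≤ r.R) (hsq : ∀ v ∈ V, v * v = 1)
    (h : ∀ v ∈ V, v ∉ s.Z → ∀ v' ∈ V, ∀ x ∈ r.R, r.bf x v = 0 → r.bf x v' = 0) : V ≤ r.Y ∨ ∃ u, V ≤ r.Pt u := by
  by_cases h1 : ∀ v ∈ V, r.mu v = 0
  · refine .inl fun v hv => r.mem_Y.2 ⟨hV hv, ?_, h1 v hv⟩
    simpa [qf, h1 v hv, h0] using (r.sq_iff (hV hv)).1 (hsq v hv)
  obtain ⟨v, hv, m0⟩ : ∃ v ∈ V, r.mu v ≠ 0 := by simpa using h1
  refine .inr ⟨r.aa v / r.mu v, fun v' hv' => ?_⟩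
  obtain ⟨a, b⟩ := r.prop (hV hv) (hV hv') m0 (h v hv (fun z => m0 (r.mem_Z.1 z).2.2.2) v' hv')
  have q := (r.sq_iff (hV hv)).1 (hsq v hv)
  rw [qf, h0] at q
  refine r.mem_Pt.2 ⟨hV hv', by field_simp; exact a, ?_⟩
  rw [map_div₀, r.mu_k v (hV hv)]; field_simp
  linear_combination r.mu v * b + r.mu v' * q - r.aa v * τ (r.aa v) * r.mu v' * s.two

theorem bf_conj {g x y : G} (h : g ∈ N[r.R]) (hx : x ∈ r.R) (hy : y ∈ r.R) :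
    r.bf (g * x * g⁻¹) (g * y * g⁻¹) = 0 ↔ r.bf x y = 0 := by
  rw [← r.comm_iff hx hy, ← r.comm_iff (cj h hx) (cj h hy), conj_mul, conj_mul, mul_left_inj, mul_right_inj]

/-- Lemma W: if `k0 ≠ 0`, `E = {1, t}`, `W ≥ Y` is abelian, centralizes `Q` and is normalized by `t`, then conjugates
of `t` in `Q W t` lie in `W t` -/
theorem lemW (h0 : r.k0 ≠ 0) {t : G} (ht : s.E2 t) {w : G} (hw : w ∈ C[r.Y]) (hw' : w ∈ C[s.Q]) {x : U3S τ}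
    (h : s.Ty (s.ι x * w * t)) : x.a = 0 := by
  by_contra x0
  obtain ⟨g, e, he, h1, hg⟩ := h
  have tR := r.ER ht.mem
  have m0 : r.mu t ≠ 0 := fun h => ht.ne (r.mu_inj t ht.mem h)
  have mk := r.mu_k t tR
  have xt := mul_mem (r.ιR x) tR
  have wc : w ∈ C[r.R0] := mem_c fun y hy => by
    obtain ⟨u, d, hd, rfl⟩ := r.mem_R.1 hy.1
    have := (r.mem_R0.1 hy).2
    rw [r.mu_mul _ (r.ιR u) d hd.1, r.mu_ι, zero_add] at this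
    rw [← conj_mul, cc hw' (s.ι_mem u), cc hw (r.mem_Y.2 ⟨hd.1, (r.mem_D.1 hd).2, this⟩)]
  have k : ∀ a, ∃ y ∈ r.R0 ⊓ C1[g * e * g⁻¹], r.aa y = a ∧ r.lam y = (a * τ x.a + τ a * x.a) / r.mu t := fun a => by
    obtain ⟨y, y0, y1, y2, y3⟩ := r.exists_elt a (c := (a * τ x.a + τ a * x.a) / r.mu t)
      (by simp only [map_div₀, map_add, map_mul, ττ, mk]; ring) (one_mem _)
    rw [r.add_one r.mu_mul] at y3
    have c := (r.comm_iff y0 xt).2 (by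
      rw [bf, y1, y2, y3, r.aa_mul _ (r.ιR x) t tR, r.mu_mul _ (r.ιR x) t tR, r.aa_ι, r.mu_ι, r.aa_E t ht.mem,
        add_zero, zero_add, div_mul_cancel₀ _ m0]
      linear_combination (a * τ x.a + τ a * x.a) * s.two)
    refine ⟨y, ⟨r.mem_R0.2 ⟨y0, y3⟩, mem_C1.2 ?_⟩, y1, y2⟩
    rw [hg, mem_centralizer_iff.1 hw' _ (s.ι_mem x), mul_assoc w, ← mul_assoc y,
      mem_centralizer_iff.1 wc y (r.mem_R0.2 ⟨y0, y3⟩), mul_assoc, c, ← mul_assoc]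
  have dec : ∀ y ∈ r.R0, ∃ u : U3S τ, u.a = r.aa y ∧ ∃ d ∈ r.Y, y = s.ι u * d := fun y hy => by
    obtain ⟨u, d, hd, rfl⟩ := r.mem_R.1 hy.1
    have := (r.mem_R0.1 hy).2
    rw [r.mu_mul _ (r.ιR u) d hd.1, r.mu_ι, zero_add] at this
    exact ⟨u, by rw [r.aa_mul _ (r.ιR u) d hd.1, r.aa_ι, (r.mem_D.1 hd).2, add_zero], d,
      r.mem_Y.2 ⟨hd.1, (r.mem_D.1 hd).2, this⟩, rfl⟩
  have rob : s.Rob (r.R0 ⊓ C1[g * e * g⁻¹]) := s.rob_qlike r.YcQ r.YY (fun y hy => r.rob_R.1 y hy.1)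
    (fun y hy => (dec y hy.1).imp fun _ h => h.2) fun a => by
      obtain ⟨y, hy, y1, -⟩ := k a
      obtain ⟨u, u1, d, hd, rfl⟩ := dec y hy.1
      exact ⟨u, u1.trans y1, d, hd, hy⟩
  have n0 := s.nu_ne0
  have l0 := s.l_ne
  obtain ⟨b, hb, b1, b2⟩ := k (r.k0 * (s.l + τ s.l) / (r.mu t * (s.l * τ s.l)) * s.l * x.a)
  obtain ⟨e', he', z, hz, hb'⟩ := s.wc_inv rob he h1 inf_le_right hb ((r.sq_iff hb.1.1).2 (by
    rw [qf, b2, b1, (r.mem_R0.1 hb.1).2]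
    have : τ s.l ≠ 0 := by simpa using l0
    simp only [map_div₀, map_add, map_mul, ττ, mk, r.k0_k]; field_simp
    linear_combination (r.k0 ^ 2 * (s.l + τ s.l) ^ 2 * x.a * τ x.a) * s.two))
  rcases ht.eq e' he' with rfl | rfl
  · rw [hb', mul_one, mul_inv_cancel, one_mul, (r.mem_Z.1 hz).2.1] at b1
    exact mul_ne_zero (mul_ne_zero (div_ne_zero (mul_ne_zero h0 s.tr_l) (mul_ne_zero m0 n0)) l0) x0 b1.symm
  · rw [← (ht.eq e he).resolve_left h1, hg] at hb'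
    have c := (r.mem_cY hb.1.1).2 (r.mem_R0.1 hb.1).2
    rw [hb', mul_mem_cancel_right (r.YY (r.ZY hz)),
      mul_mem_cancel_left (mul_mem ((r.mem_cY (r.ιR x)).2 (r.mu_ι x)) hw)] at c
    exact m0 ((r.mem_cY tR).1 c)

/-- trichotomy -/
theorem tri {g : G} (h : g ∈ N[r.R]) (hA : g ∉ N[s.A]) :
    (r.k0 = 0 ∧ ∃ u, u ≠ 0 ∧ ∀ a ∈ s.A, g * a * g⁻¹ ∈ r.Pt u) ∨
      (r.k0 = 0 ∧ (∀ a ∈ s.A, g * a * g⁻¹ ∈ r.Y) ∧ ∀ y ∈ r.Y, g⁻¹ * y * g ∈ s.A) ∨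
        ∃ t, s.E2 t ∧ r.k0 = r.mu t := by
  have vR : ∀ a ∈ s.A, g * a * g⁻¹ ∈ r.R := fun a ha => cj h (r.AR ha)
  have q : ∀ a ∈ s.A, r.qf (g * a * g⁻¹) = 0 := fun a ha => (r.sq_iff (vR a ha)).1 (by rw [conj_mul, s.sqA ha]; simp)
  have nZ : ∀ e ∈ s.E, e ≠ 1 → g * e * g⁻¹ ∉ s.Z := fun e he h1 => Su.Ty.not_mem_Z s ⟨g, e, he, h1, rfl⟩
  have co : ∀ e ∈ s.E, ∀ z ∈ s.Z, r.mu (g * (e * z) * g⁻¹) = r.mu (g * e * g⁻¹) := fun e he z hz => by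
    have m := cj (r.nR_nZ h) hz
    rw [← conj_mul, r.mu_mul _ (cj h (r.ER he)) _ (r.ZR m), (r.mem_Z.1 m).2.2.2, add_zero]
  by_cases hm : ∀ e ∈ s.E, r.mu (g * e * g⁻¹) = 0
  · obtain ⟨e, he, h1⟩ := s.exists_e
    have hm' : ∀ a ∈ s.A, r.mu (g * a * g⁻¹) = 0 := fun a ha => by
      obtain ⟨e, he, z, hz, rfl⟩ := s.mem_A.1 ha
      rw [co e he z hz, hm e he]
    have v0 := cj h (r.ER he)
    have AR : ∀ {a₀ : F} {b : G}, a₀ ≠ 0 → (∀ c, τ c = c → c * a₀ * τ (r.aa (g * e * g⁻¹)) +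
        τ (c * a₀) * r.aa (g * e * g⁻¹) = 0) → b ∈ r.R → r.qf b = 0 → r.bf b (g * e * g⁻¹) = 0 →
        (∀ c, τ c = c → c * a₀ * τ (r.aa b) + τ (c * a₀) * r.aa b = 0) → g⁻¹ * b * g ∈ s.A := by
      intro a₀ b h0 c1 hb c2 c3 c4
      obtain ⟨e', he', z, hz, rfl⟩ := s.ar he h1 h0 (by
          rintro _ ⟨x, ⟨c, d1, d2⟩, rfl⟩
          exact mem_C1.2 ((r.comm_iff (r.ιR x) v0).2 (by simpa [bf, r.aa_ι, r.lam_ι, r.mu_ι, d2] using c1 c d1)))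
        ((r.sq_iff hb).2 c2) (mem_C1.2 ((r.comm_iff hb v0).2 c3)) (mem_centralizer_iff.2 (by
          rintro _ ⟨x, ⟨c, d1, d2⟩, rfl⟩
          exact (r.comm_iff (r.ιR x) hb).2 (by simpa [bf, r.aa_ι, r.lam_ι, r.mu_ι, d2] using c4 c d1)))
      simpa [mul_assoc] using mul_mem_sup he' (cj' (r.nR_nZ h) hz)
    have q1 := q e (mem_sup_left he)
    rw [qf, hm e he, zero_add] at q1
    by_cases h0 : r.k0 = 0
    · have hY : ∀ a ∈ s.A, g * a * g⁻¹ ∈ r.Y := fun a ha =>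
        r.mem_Y.2 ⟨vR a ha, by simpa [qf, hm' a ha, h0] using q a ha, hm' a ha⟩
      have y1 := (r.mem_Y.1 (hY e (mem_sup_left he))).2.1
      refine .inr (.inl ⟨h0, hY, fun y hy => ?_⟩)
      obtain ⟨y0, y2, y3⟩ := r.mem_Y.1 hy
      exact AR one_ne_zero (by simp [y1]) y0 (by simp [qf, y2, y3, h0]) (by simp [bf, y1, y2, y3, hm e he])
        (by simp [y2])
    exfalso
    have l0 : r.lam (g * e * g⁻¹) ≠ 0 := fun l0 => nZ e he h1 (r.ker _ v0 (by simpa [l0] using q1) l0 (hm e he))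
    have a0 : r.aa (g * e * g⁻¹) ≠ 0 := fun a0 => mul_ne_zero l0 h0 (by simpa [a0] using q1)
    have lk := r.lam_k _ v0
    obtain ⟨c, c1, c2, c3⟩ := s.four
    obtain ⟨b, b0, b1, b2, b3⟩ := r.exists_elt (c * r.aa (g * e * g⁻¹)) (c := c ^ 2 * r.lam (g * e * g⁻¹))
      (by rw [map_mul, map_pow, c1, lk]) (one_mem _)
    rw [r.add_one r.mu_mul] at b3
    have hb := AR a0 (fun d d1 => by rw [map_mul, d1]; linear_combination (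
        d * r.aa (g * e * g⁻¹) * τ (r.aa (g * e * g⁻¹))) * s.two) b0
      (by rw [qf, b1, b2, b3, map_mul, c1]; linear_combination c ^ 2 * q1)
      (by rw [bf, b1, b3, hm e he, map_mul, c1]; linear_combination (
        c * r.aa (g * e * g⁻¹) * τ (r.aa (g * e * g⁻¹))) * s.two)
      (fun d d1 => by rw [b1, map_mul, map_mul, c1, d1]; linear_combination (
        c * d * r.aa (g * e * g⁻¹) * τ (r.aa (g * e * g⁻¹))) * s.two)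
    have m0 : r.mu e ≠ 0 := fun h => h1 (r.mu_inj e he h)
    obtain ⟨u, hu⟩ := s.exists_tr a0 (b := r.lam (g * e * g⁻¹) * r.mu e) (by rw [map_mul, lk, r.mu_k e (r.ER he)])
    obtain ⟨x, x0, x1, -, x3⟩ := r.exists_elt u (map_zero τ) he
    have := r.f0 h he h1 hb x0 (by
      rw [bf, x1, x3, hm e he]; linear_combination hu + r.lam (g * e * g⁻¹) * r.mu e * s.two)
    rw [show g * (g⁻¹ * b * g) * g⁻¹ = b by group, bf, x1, x3, b1, b2, b3, map_mul, c1] at this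
    refine mul_ne_zero (mul_ne_zero c2 (sub_ne_zero.2 c3)) (mul_ne_zero l0 m0) ?_
    linear_combination this - c * hu - c * r.lam (g * e * g⁻¹) * r.mu e * s.two
  obtain ⟨t, ht, m0⟩ : ∃ e ∈ s.E, r.mu (g * e * g⁻¹) ≠ 0 := by simpa using hm
  have h1 : t ≠ 1 := by rintro rfl; simp [r.add_one r.mu_mul] at m0
  have v0 := cj h (r.ER ht)
  have P := fun a ha => r.prop v0 (vR a ha) m0 fun x hx => r.f0 h ht h1 ha hx
  have q1 := q t (mem_sup_left ht)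
  have mk := r.mu_k _ v0
  have nA : ¬ (r.aa (g * t * g⁻¹) = 0 ∧ r.lam (g * t * g⁻¹) = 0) := fun ⟨a0, l0⟩ => hA (mem_n fun a ha =>
    r.mem_A.2 ⟨vR a ha, by simpa [a0, m0] using (P a ha).1, by simpa [l0, m0] using (P a ha).2⟩)
  rw [qf] at q1
  by_cases h0 : r.k0 = 0
  · rw [h0, add_zero] at q1
    refine .inl ⟨h0, r.aa (g * t * g⁻¹) / r.mu (g * t * g⁻¹), div_ne_zero (fun a0 => nA ⟨a0, by
      simpa [a0, m0] using q1⟩) m0, fun a ha => r.mem_Pt.2 ⟨vR a ha, ?_, ?_⟩⟩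
    · have := (P a ha).1
      generalize g * t * g⁻¹ = v at *
      field_simp; linear_combination this
    · have := (P a ha).2
      rw [map_div₀, mk]
      generalize g * t * g⁻¹ = v at *
      generalize g * a * g⁻¹ = v' at *
      field_simp
      linear_combination r.mu v * this + r.mu v' * q1 - r.aa v * τ (r.aa v) * r.mu v' * s.two
  have l0 : r.lam (g * t * g⁻¹) ≠ 0 := fun l0 => nA ⟨by simpa [l0] using q1, l0⟩
  have nz : ∀ e ∈ s.E, r.mu (g * e * g⁻¹) = 0 → e = 1 := fun e he m => by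
    by_contra e1
    have := P e (mem_sup_left he)
    exact nZ e he e1 (r.ker _ (cj h (r.ER he)) (by simpa [m, m0] using this.1) (by simpa [m, m0] using this.2) m)
  have e2 : s.E2 t := ⟨ht, h1, fun e he => or_iff_not_imp_left.2 fun e1 => by
    have m1 : r.mu (g * e * g⁻¹) ≠ 0 := fun m => e1 (nz e he m)
    obtain ⟨p1, p2⟩ := P e (mem_sup_left he)
    have q2 := q e (mem_sup_left he)
    have p3 := congrArg τ p1
    have v1 := cj h (r.ER he)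
    rw [map_mul, map_mul, mk, r.mu_k _ v1] at p3
    have : r.mu (g * e * g⁻¹) = r.mu (g * t * g⁻¹) := by
      rw [qf] at q2
      generalize g * t * g⁻¹ = v at *
      generalize g * e * g⁻¹ = v' at *
      refine mul_left_cancel₀ (mul_ne_zero (mul_ne_zero l0 h0) m1) ?_
      linear_combination r.mu v' ^ 2 * q1 - r.mu v ^ 2 * q2 + τ (r.aa v') * r.mu v * p1 + r.aa v * r.mu v' * p3 +
        r.mu v * (r.mu v' + r.k0) * p2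
    have := nz _ (mul_mem he ht) (by rw [← conj_mul, r.mu_mul _ v1 _ v0, this, s.add_self])
    rw [eq_inv_of_mul_eq_one_left this, inv_of_sq (s.sqE t ht)]⟩
  refine .inr (.inr ⟨t, e2, ?_⟩)
  obtain ⟨e, he, m⟩ := r.rng _ v0
  obtain rfl : e = t := (e2.eq e he).resolve_left (by rintro rfl; exact m0 (m.trans (r.add_one r.mu_mul)))
  obtain ⟨x, d, hd, e'⟩ := r.mem_R.1 v0
  have dt := mul_mem hd.1 (r.ER he)
  have a0 : x.a = 0 := r.lemW h0 e2 (w := d * e) ((r.mem_cY dt).2 (by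
      rw [r.mu_mul _ hd.1 _ (r.ER he), ← m, ← e', r.mu_mul _ (r.ιR x) _ hd.1, r.mu_ι, zero_add, s.add_self]))
    (mul_mem (r.DcQ hd) (s.EcQ he)) ⟨g, e, he, h1, by rw [← e', mul_assoc, mul_assoc, s.sqE e he, mul_one]⟩
  have a1 : r.aa (g * e * g⁻¹) = 0 := by rw [← e', r.aa_mul _ (r.ιR x) _ hd.1, r.aa_ι, a0, (r.mem_D.1 hd).2, add_zero]
  rw [a1, zero_mul, zero_add, m, mul_eq_zero, or_iff_right l0] at q1
  linear_combination q1 - r.mu e * s.two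

end Cfsg.Lib.U3F.RR
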