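import Cfsg.Agent.Lib.U3F.Exi

/-!
# The Sylow 2-subgroup when `N(R)` fixes `A` or interchanges `A` and `Y`
-/

set_option autoImplicit false

namespace Cfsg.Lib.U3F
open Subgroup Cfsg.Lib Cfsg.Lib.FT Cfsg.Lib.TwoL Cfsg.Lib.U3S

variable {G : Type*} [Group G] {F : Type*} [Field F] {τ : F ≃+* F} [Fact (Function.Involutive τ)] {s : Su G τ}

/-- `|E| ≥ 4` -/
def Su.E4 (s : Su G τ) : Prop := ∃ e ∈ s.E, ∃ e' ∈ s.E, e ≠ 1 ∧ e' ≠ 1 ∧ e * e' ≠ 1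

namespace RR
variable (r : RR s)

/-- `g` maps `A` onto `Y` -/
def Sw (g : G) : Prop := r.k0 = 0 ∧ (∀ a ∈ s.A, g * a * g⁻¹ ∈ r.Y) ∧ ∀ y ∈ r.Y, g⁻¹ * y * g ∈ s.A

/-- `N(R)` fixes `A` or maps it onto `Y` -/
def Hyp : Prop := ∀ g ∈ N[r.R], g ∈ N[s.A] ∨ (r.Sw g ∧ s.E4)

theorem AY {x : G} (h : x ∈ s.A) (h' : x ∈ r.Y) : x ∈ s.Z :=
  r.ker x h'.1 (r.mem_A.1 h).2.1 (r.mem_A.1 h).2.2 (r.mem_Y.1 h').2.2

theorem bf_mul {x y z : G} (hx : x ∈ r.R) (hy : y ∈ r.R) : r.bf (x * y) z = r.bf x z + r.bf y z := by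
  simp only [bf, r.aa_mul x hx y hy, r.lam_mul x hx y hy, r.mu_mul x hx y hy, map_add]; ring

theorem bf_cZ {g x y : G} (h : g ∈ N[r.R]) (hZ : g ∈ C[s.Z]) (hx : x ∈ r.R) (hy : y ∈ r.R) :
    r.bf (g * x * g⁻¹) (g * y * g⁻¹) = r.bf x y :=
  s.zc_inj (r.bf_k (cj h hx) (cj h hy)) (r.bf_k hx hy) (by
    rw [← r.comm' (cj h hx) (cj h hy), ← cc hZ (s.zc_mem (r.bf x y)), ← r.comm' hx hy]; group)

theorem mem_LD {a : F} {x : G} (h : x ∈ s.Ln a ⊔ r.D) : x ∈ r.R ∧ ∃ c, τ c = c ∧ r.aa x = c * a := by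
  obtain ⟨_, ⟨u, ⟨c, c1, c2⟩, rfl⟩, d, hd, rfl⟩ := (mem_sup_of_le_normalizer fun d hd =>
    c_le_n _ (centralizer_le (s.Ln_le a) (r.DcQ hd))).1 h
  exact ⟨mul_mem (r.ιR u) hd.1, c, c1, by rw [r.aa_mul _ (r.ιR u) d hd.1, r.aa_ι, c2, (r.mem_D.1 hd).2, add_zero]⟩

variable [Finite G] [Finite F]

theorem out_aa {v : G} (o : s.Out v) (h : v ∈ N[r.R]) :
    ∃ m, m * τ m = 1 ∧ ∀ x ∈ r.R, r.aa (v * x * v⁻¹) = m * τ (r.aa x) := by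
  obtain ⟨hQ, m, hm, o⟩ := o
  refine ⟨m, hm, fun x hx => ?_⟩
  obtain ⟨u, d, hd, rfl⟩ := r.mem_R.1 hx
  obtain ⟨w, e⟩ := s.cι hQ u
  have := cj (r.nD h hQ) hd
  rw [← conj_mul, e, r.aa_mul _ (r.ιR w) _ this.1, r.aa_mul _ (r.ιR u) _ hd.1, r.aa_ι, r.aa_ι, (r.mem_D.1 hd).2,
    (r.mem_D.1 this).2, o u w e, add_zero, add_zero]

variable {r}

theorem Sw.nZ {g e : G} (h : r.Sw g) (he : e ∈ s.E) (h1 : e ≠ 1) : g * e * g⁻¹ ∉ s.A := fun a =>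
  Su.Ty.not_mem_Z s ⟨g, e, he, h1, rfl⟩ (r.AY a (h.2.1 e (mem_sup_left he)))

theorem Sw.not_nA {g : G} (h : r.Sw g) : g ∉ N[s.A] := fun n => by
  obtain ⟨e, he, h1⟩ := s.exists_e
  exact h.nZ he h1 (cj n (mem_sup_left he))

namespace Hyp
variable (H : r.Hyp)
include H

theorem sw {g : G} (h : g ∈ N[r.R]) (n : g ∉ N[s.A]) : r.Sw g := ((H g h).resolve_left n).1

theorem mul {g g' : G} (h : g ∈ N[r.R]) (h' : g' ∈ N[r.R]) (a : g ∉ N[s.A]) (b : g' ∉ N[s.A]) : g * g' ∈ N[s.A] := by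
  by_contra n
  obtain ⟨e, he, h1⟩ := s.exists_e
  refine (H.sw h' b).nZ he h1 ?_
  convert (H.sw h a).2.2 _ ((H.sw (mul_mem h h') n).2.1 e (mem_sup_left he)) using 1; group

theorem YA {g y : G} (h : g ∈ N[r.R]) (a : g ∉ N[s.A]) (hy : y ∈ r.Y) : g * y * g⁻¹ ∈ s.A := by
  convert cj (H.mul h h a a) ((H.sw h a).2.2 y hy) using 1; group

theorem nQ {g : G} (h : g ∈ N[r.R]) : g ∈ N[s.Q] := by
  by_cases a : g ∈ N[s.A]
  · exact r.nA_nQ h a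
  refine mem_n fun x hx => ?_
  have m := cj h (r.QR hx)
  obtain ⟨e, he, h1⟩ := s.exists_e
  refine r.mem_Q.2 ⟨m, (r.mem_B0.1 (r.mem_B0_of_C m ?_)).2, (r.mem_cY m).1 (mem_c fun y hy => ?_)⟩
  · have := (H.sw (inv_mem h) fun n => a (inv_mem_iff.1 n)).2.1 e (mem_sup_left he)
    simpa using (s.mem_C_iff (g := g⁻¹) he h1).2 (mem_C1.2 (mem_centralizer_iff.1 (r.YcQ this) x hx))
  · calc _ = g * (x * (g⁻¹ * y * g) * x⁻¹) * g⁻¹ := by group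
      _ = y := by rw [mem_centralizer_iff.1 (s.AcQ ((H.sw h a).2.2 y hy)) x hx]; group

end Hyp

variable (r) {P : Subgroup G} (hP : IsPGroup 2 P) (hT : s.T ≤ P) (hR : r.R ≤ P)
include hP hT hR

theorem dec_YT {g : G} (hg : g ∈ P) (hA : g ∈ N[s.A]) : ∃ y ∈ r.Y, ∃ t ∈ s.T, y * t = g := by
  obtain ⟨y, hy, h⟩ := r.nA_dec hA
  have m := mul_mem (inv_mem (hR hy.1)) hg
  exact ⟨y, hy, _, s.mem_T hP hT m (s.mem_C_of_p2 h (p2_of_mem hP m)), by group⟩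

theorem mem_R_of {g : G} (hg : g ∈ P) (hA : g ∈ N[s.A]) (h0 : g ∈ s.N0) : g ∈ r.R := by
  obtain ⟨y, hy, t, ht, rfl⟩ := r.dec_YT hP hT hR hg hA
  exact mul_mem hy.1 (sup_le r.ER r.QR (s.TN0 ht ((mul_mem_cancel_left (r.R_le_N0 hy.1)).1 h0)))

variable {r} (H : r.Hyp)
include H

theorem Hyp.hsq : ∀ x ∈ P ⊓ N[r.R], x ∈ s.N0 → x * x * (x * x) = 1 → x * x ∈ s.Z := fun x hx h0 h4 => by
  by_cases a : x ∈ N[s.A]
  · exact r.rob_R.1 x (r.mem_R_of hP hT hR hx.1 a h0)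
  obtain ⟨j, j1, j2⟩ := s.exists_w
  have κA := s.B_nA (pow_mem s.ρB j)
  have m1 := mul_mem (mul_mem (pow_mem r.ρN j) hx.2) (inv_mem (pow_mem r.ρN j))
  obtain ⟨y, hy, hn⟩ := r.nA_dec (H.mul m1 (inv_mem hx.2)
    (fun n => a ((mul_mem_cancel_left κA).1 ((mul_mem_cancel_right (inv_mem κA)).1 n))) fun n => a (inv_mem_iff.1 n))
  have := s.c2' (mul_mem (inv_mem (r.R_le_N0 hy.1)) (mul_mem (cj (s.nQ_nN0 (pow_mem s.ρQ j)) h0) (inv_mem h0))) hn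
  obtain ⟨u, m, hm, rfl⟩ := s.mem_QC.1 (s.ca h0 j1 j2
    ((mul_mem_cancel_left (inv_mem (mem_sup_right (r.YcQ hy)))).1 this))
  have c := mem_centralizer_iff.1 hm _ (s.ι_mem u)
  have e : s.ι u * m * (s.ι u * m) = s.ι u * s.ι u * (m * m) := by rw [mul_assoc, ← mul_assoc m, ← c]; group
  have uZ : s.ι u * s.ι u ∈ s.Z := s.rob_Q.1 _ (s.ι_mem u)
  have mR : m ∈ N[r.R] := (mul_mem_cancel_left (le_normalizer (r.ιR u))).1 hx.2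
  have mA : m ∉ N[s.A] := fun n => a (mul_mem (c_le_n _ (le_centralizer_iff.1 s.AcQ (s.ι_mem u))) n)
  have m2 : m * m ∈ r.R := (mul_mem_cancel_left (r.ZR uZ)).1
    (e ▸ r.mem_R_of hP hT hR (mul_mem hx.1 hx.1) (H.mul hx.2 hx.2 a a) (mul_mem h0 h0))
  have a0 := (r.mem_cQ m2).1 (mul_mem hm hm)
  have q := (r.sq_iff m2).1 (by
    rwa [e, mul_assoc, ← mul_assoc (m * m), ← mem_centralizer_iff.1 (r.RcZ m2) _ uZ, mul_assoc _ (m * m),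
      ← mul_assoc, s.sqZ uZ, one_mul] at h4)
  rw [qf, a0, (H.sw mR mA).1] at q
  have f : m * (m * m) * m⁻¹ = m * m := by group
  rw [e]
  refine mul_mem uZ ?_
  rcases mul_eq_zero.1 (by simpa using q : r.lam (m * m) * r.mu (m * m) = 0) with h | h
  · have := r.mem_A.2 ⟨m2, a0, h⟩
    exact r.AY this (f ▸ (H.sw mR mA).2.1 _ this)
  · have := r.mem_Y.2 ⟨m2, a0, h⟩
    exact r.AY (f ▸ H.YA mR mA this) this

theorem Hyp.phi {X : Subgroup G} (hX : s.Rob X) {h : G} (hh : ∀ x ∈ X, h * x * h⁻¹ ∈ P ⊓ N[r.R]) :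
    h ∈ N[s.Z] ∧ ∀ x ∈ X, h * x * h⁻¹ ∈ s.N0 ∨ s.Out (h * x * h⁻¹) :=
  s.phi hP.to_inf_left (fun _ h => H.nQ h.2) (H.hsq hP hT hR) hX hh

theorem Hyp.nR_of {g : G} (hg : ∀ x ∈ r.R, g * x * g⁻¹ ∈ P ⊓ N[r.R]) : g ∈ N[r.R] := by
  obtain ⟨hZ, h1⟩ := H.phi hP hT hR r.rob_R hg
  set X := r.R.map (MulAut.conj g).toMonoidHom with hX
  have XS : ∀ x ∈ X, x ∈ P ⊓ N[r.R] ∧ (x ∈ s.N0 ∨ s.Out x) := by
    rintro _ ⟨x, hx, rfl⟩; exact ⟨hg x hx, h1 x hx⟩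
  have cm : ∀ x ∈ X, ∀ y ∈ X, x * y * x⁻¹ * y⁻¹ ∈ s.Z := by
    rintro _ ⟨x, hx, rfl⟩ _ ⟨y, hy, rfl⟩
    simpa [mul_assoc] using cj hZ (r.rob_R.comm_mem s hx hy)
  have i1 : Idx2 (X ⊓ s.N0) X := ⟨inf_le_left, fun x hx y hy => by
    rcases (XS x hx).2 with a | a
    · exact .inl ⟨hx, a⟩
    rcases (XS y hy).2 with b | b
    · exact .inr (.inl ⟨hy, b⟩)
    exact .inr (.inr ⟨mul_mem hx hy, a.mul s b (p2_of_mem hP (XS _ (mul_mem hx hy)).1.1)⟩)⟩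
  have inR : ∀ x ∈ X, x ∈ s.N0 → x ∈ N[s.A] → x ∈ X ⊓ r.R := fun x hx a b =>
    ⟨hx, r.mem_R_of hP hT hR (XS x hx).1.1 b a⟩
  have i2 : Idx2 (X ⊓ r.R) (X ⊓ s.N0) := ⟨inf_le_inf_left _ r.R_le_N0, fun x hx y hy => by
    by_cases a : x ∈ N[s.A]
    · exact .inl (inR x hx.1 hx.2 a)
    by_cases b : y ∈ N[s.A]
    · exact .inr (.inl (inR y hy.1 hy.2 b))
    exact .inr (.inr (inR _ (mul_mem hx.1 hy.1) (mul_mem hx.2 hy.2) (H.mul (XS x hx.1).1.2 (XS y hy.1).1.2 a b)))⟩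
  have ri : (X ⊓ r.R).relIndex r.R = (X ⊓ r.R).relIndex (X ⊓ s.N0) * (X ⊓ s.N0).relIndex X := by
    rw [relIndex_mul_relIndex _ _ _ i2.1 i1.1]
    exact relIndex_eq_of_card (card_map_of_injective (MulAut.conj g).injective).symm inf_le_right inf_le_left
  have o1 : ∀ v ∈ X, v ∉ s.N0 → ∃ a, ∀ c, τ c = c → c ≠ 0 → ∀ x ∈ X ⊓ r.R, r.aa x ≠ c * a := fun v hv n => by
    obtain ⟨m, hm, o⟩ := r.out_aa ((XS v hv).2.resolve_left n) (XS v hv).1.2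
    obtain ⟨a, ha⟩ : ∃ a, m * τ a ≠ a := by
      by_contra! k
      have k1 := k 1
      rw [map_one, mul_one] at k1
      exact s.lτ (by simpa [k1] using k s.l)
    refine ⟨a, fun c c1 c2 x hx e => ha (mul_left_cancel₀ c2 ?_)⟩
    have := (r.mem_Z.1 (cm v hv x hx.1)).2.1
    rw [r.aa_mul _ (cj (XS v hv).1.2 hx.2) _ (inv_mem hx.2), o x hx.2, r.aa_inv hx.2, e, map_mul, c1] at this
    linear_combination this - c * a * s.two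
  have o2 : ∀ w ∈ X, w ∉ N[s.A] → ∀ e ∈ s.E, e ≠ 1 → e ∉ X ⊓ r.R := fun w hw n e he e1 hx =>
    (H.sw (XS w hw).1.2 n).nZ he e1 (by
      simpa using mul_mem (mem_sup_right (cm w hw e hx.1) : _ ∈ s.A) (mem_sup_left he))
  refine mem_n fun x hx => ?_
  by_cases n1 : X ≤ s.N0 <;> by_cases n2 : X ⊓ s.N0 ≤ N[s.A]
  · exact (inR _ ⟨x, hx, rfl⟩ (n1 ⟨x, hx, rfl⟩) (n2 ⟨⟨x, hx, rfl⟩, n1 ⟨x, hx, rfl⟩⟩)).2
  · obtain ⟨w, hw, n⟩ := SetLike.not_le_iff_exists.1 n2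
    obtain ⟨e, he, e', he', h1, h2, h3⟩ := ((H w (XS w hw.1).1.2).resolve_left n).2
    rw [relIndex_eq_one.2 (le_inf le_rfl n1), mul_one] at ri
    rcases (idx2_of_relIndex inf_le_right (ri ▸ i2.relIndex_le)).2 e (r.ER he) e' (r.ER he') with h | h | h
    exacts [(o2 w hw.1 n e he h1 h).elim, (o2 w hw.1 n e' he' h2 h).elim, (o2 w hw.1 n _ (mul_mem he he') h3 h).elim]
  · obtain ⟨v, hv, n⟩ := SetLike.not_le_iff_exists.1 n1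
    obtain ⟨a, ha⟩ := o1 v hv n
    obtain ⟨c, c1, c2, c3⟩ := s.four
    obtain ⟨u, hu⟩ := s.exists_a (1 * a)
    obtain ⟨u', hu'⟩ := s.exists_a (c * a)
    rw [relIndex_eq_one.2 (show X ⊓ s.N0 ≤ X ⊓ r.R from fun x hx => inR x hx.1 hx.2 (n2 hx)), one_mul] at ri
    rcases (idx2_of_relIndex inf_le_right (ri ▸ i1.relIndex_le)).2 _ (r.ιR u) _ (r.ιR u') with h | h | h
    · exact (ha 1 (map_one τ) one_ne_zero _ h (by rw [r.aa_ι, hu])).elim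
    · exact (ha c c1 c2 _ h (by rw [r.aa_ι, hu'])).elim
    · exact (ha (1 + c) (by simp [c1]) (fun e => c3 (by linear_combination e - s.two)) _ h
        (by rw [← map_mul, r.aa_ι, mul_a, hu, hu']; ring)).elim
  · obtain ⟨v, hv, n⟩ := SetLike.not_le_iff_exists.1 n1
    obtain ⟨a, ha⟩ := o1 v hv n
    obtain ⟨w, hw, n⟩ := SetLike.not_le_iff_exists.1 n2
    obtain ⟨e, he, e', he', h1, h2, h3⟩ := ((H w (XS w hw.1).1.2).resolve_left n).2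
    obtain ⟨u, hu⟩ := s.exists_a (1 * a)
    have k : ∀ e ∈ s.E, e * s.ι u ∉ X ⊓ r.R := fun e he h => ha 1 (map_one τ) one_ne_zero _ h (by
      rw [r.aa_mul e (r.ER he) _ (r.ιR u), r.aa_E e he, r.aa_ι, hu, zero_add])
    have ZX : s.Z ≤ X := fun z hz => ⟨g⁻¹ * z * g, r.ZR (cj' hZ hz), by simp [mul_assoc]⟩
    rcases ph4 (K := X ⊓ r.R) (by
        rw [ri]; rcases i1.relIndex_le with a | a <;> rcases i2.relIndex_le with b | b <;> simp [a, b])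
      (fun x hx => ⟨ZX (r.rob_R.1 x hx), mul_mem hx hx⟩) (r.ER he) (r.ER he') (r.ιR u) with h | h | h | h | h | h | h
    exacts [(o2 w hw.1 n e he h1 h).elim, (o2 w hw.1 n e' he' h2 h).elim, (o2 w hw.1 n _ (mul_mem he he') h3 h).elim,
      (k 1 (one_mem _) (by simpa using h)).elim, (k e he h).elim, (k e' he' h).elim, (k _ (mul_mem he he') h).elim]

theorem Hyp.le_nR : P ≤ N[r.R] := by
  by_contra n
  obtain ⟨g, hg, ng⟩ := SetLike.not_le_iff_exists.1 (lt_inf_normalizer hP.isNilpotent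
    (lt_of_le_not_ge inf_le_left fun h => n (h.trans inf_le_right) : P ⊓ N[r.R] < P)).not_ge
  exact ng ⟨hg.1, H.nR_of hP hT hR fun x hx => cj hg.2 ⟨hR hx, le_normalizer hx⟩⟩

omit hP hT hR H in
variable (r) in
theorem exists_P : ∃ P : Subgroup G, IsSylowIn 2 P ⊤ ∧ s.T ≤ P ∧ r.R ≤ P := by
  obtain ⟨P, hP, h⟩ := exists_isSylowIn_ge (r.p2.to_sup_of_normal_left' s.syl.isPGroup (s.TB.trans r.B_nR)) le_top
  exact ⟨P, hP, le_sup_right.trans h, le_sup_left.trans h⟩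

end RR

end Cfsg.Lib.U3F
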