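import Cfsg.Agent.Lib.U3F.RApi

/-!
# Case II, step 1: the group `S₀`
-/

set_option autoImplicit false

namespace Cfsg.Lib.U3F
open Subgroup Cfsg.Lib Cfsg.Lib.FT Cfsg.Lib.TwoL Cfsg.Lib.U3S

section stb
variable {G : Type*} [Group G]

/-- elements normalizing `X` and `K` and acting trivially on `X/K` -/
def stb (X K : Subgroup G) : Subgroup G where
  carrier := {g | g ∈ N[X] ∧ g ∈ N[K] ∧ ∀ x ∈ X, g * x * g⁻¹ * x⁻¹ ∈ K}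
  one_mem' := ⟨one_mem _, one_mem _, fun x _ => by simp⟩
  mul_mem' := by
    rintro g h ⟨g1, g2, g3⟩ ⟨h1, h2, h3⟩
    refine ⟨mul_mem g1 h1, mul_mem g2 h2, fun x hx => ?_⟩
    have := mul_mem (cj g2 (h3 x hx)) (g3 x hx)
    rwa [show g * (h * x * h⁻¹ * x⁻¹) * g⁻¹ * (g * x * g⁻¹ * x⁻¹) = g * h * x * (g * h)⁻¹ * x⁻¹ by group] at this
  inv_mem' := by
    rintro g ⟨g1, g2, g3⟩
    refine ⟨inv_mem g1, inv_mem g2, fun x hx => ?_⟩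
    have := cj' g2 (inv_mem (g3 x hx))
    rwa [show g⁻¹ * (g * x * g⁻¹ * x⁻¹)⁻¹ * g = g⁻¹ * x * g⁻¹⁻¹ * x⁻¹ by group] at this

theorem stb_cj {X K : Subgroup G} {n g : G} (h1 : n ∈ N[X]) (h2 : n ∈ N[K]) (hg : g ∈ stb X K) :
    n * g * n⁻¹ ∈ stb X K := by
  refine ⟨mul_mem (mul_mem h1 hg.1) (inv_mem h1), mul_mem (mul_mem h2 hg.2.1) (inv_mem h2), fun x hx => ?_⟩
  have := cj h2 (hg.2.2 _ (cj' h1 hx))
  rwa [show n * (g * (n⁻¹ * x * n) * g⁻¹ * (n⁻¹ * x * n)⁻¹) * n⁻¹ = n * g * n⁻¹ * x * (n * g * n⁻¹)⁻¹ * x⁻¹ by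
    group] at this

theorem cj_c {X : Subgroup G} {n g : G} (h : n ∈ N[X]) (hg : g ∈ C[X]) : n * g * n⁻¹ ∈ C[X] :=
  mem_c fun x hx => by
    rw [show n * g * n⁻¹ * x * (n * g * n⁻¹)⁻¹ = n * (g * (n⁻¹ * x * n) * g⁻¹) * n⁻¹ by group, cc hg (cj' h hx)]
    group

end stb

variable {G : Type*} [Group G] {F : Type*} [Field F] {τ : F ≃+* F} [Fact (Function.Involutive τ)]

namespace Su
variable (s : Su G τ)

open Classical in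
/-- the coordinate on `Z` -/
noncomputable def zi (g : G) : F := if h : ∃ b, τ b = b ∧ s.zc b = g then h.choose else 0

theorem zi_spec {g : G} (h : g ∈ s.Z) : τ (s.zi g) = s.zi g ∧ s.zc (s.zi g) = g := by
  have h' := s.mem_Z.1 h
  rw [zi, dif_pos h']
  exact h'.choose_spec

theorem zi_zc {b : F} (h : τ b = b) : s.zi (s.zc b) = b :=
  s.zc_inj (s.zi_spec (s.zc_mem b)).1 h (s.zi_spec (s.zc_mem b)).2

theorem zi_mul {x y : G} (hx : x ∈ s.Z) (hy : y ∈ s.Z) : s.zi (x * y) = s.zi x + s.zi y := by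
  obtain ⟨a, ha, rfl⟩ := s.mem_Z.1 hx
  obtain ⟨b, hb, rfl⟩ := s.mem_Z.1 hy
  rw [← s.zc_add ha hb, s.zi_zc ha, s.zi_zc hb, s.zi_zc (by rw [map_add, ha, hb])]

theorem exists_E : ∃ e ∈ s.E, e ≠ 1 := by
  by_contra! h
  exact s.neE (eq_bot_iff.2 fun e he => h e he)

end Su

namespace RR
variable {s : Su G τ} (r : RR s)

theorem aa_one : r.aa 1 = 0 := r.add_one r.aa_mul
theorem lam_one : r.lam 1 = 0 := r.add_one r.lam_mul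
theorem mu_one : r.mu 1 = 0 := r.add_one r.mu_mul

theorem cj_eq {f : G → F} (h : ∀ x ∈ r.R, ∀ y ∈ r.R, f (x * y) = f x + f y) {g x : G} (hg : g ∈ r.R)
    (hx : x ∈ r.R) : f (g * x * g⁻¹) = f x := by
  rw [h _ (mul_mem hg hx) _ (inv_mem hg), h _ hg _ hx, r.add_inv h hg]
  linear_combination f g * s.two

theorem div_eq {f : G → F} (h : ∀ x ∈ r.R, ∀ y ∈ r.R, f (x * y) = f x + f y) {x y : G} (hx : x ∈ r.R)
    (hy : y ∈ r.R) : f (x * y⁻¹) = f x + f y := by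
  rw [h _ hx _ (inv_mem hy), r.add_inv h hy]

theorem mu_ne {e : G} (he : e ∈ s.E) (h1 : e ≠ 1) : r.mu e ≠ 0 := fun h => h1 (r.mu_inj e he h)

theorem YR0 : r.Y ≤ r.R0 := fun _ h => r.mem_R0.2 ⟨h.1, (r.mem_Y.1 h).2.2⟩

theorem QR0 : s.Q ≤ r.R0 := fun _ h => r.mem_R0.2 ⟨r.QR h, (r.mem_Q.1 h).2.2⟩

theorem ρ_pow {x : G} (hx : x ∈ r.R) (j : ℕ) :
    r.aa (s.ρ ^ j * x * (s.ρ ^ j)⁻¹) = s.l ^ j * r.aa x ∧ r.mu (s.ρ ^ j * x * (s.ρ ^ j)⁻¹) = r.mu x := by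
  induction j with
  | zero => simp
  | succ j ih =>
    have hx' := cj (pow_mem r.ρN j) hx
    rw [show s.ρ ^ (j + 1) * x * (s.ρ ^ (j + 1))⁻¹ = s.ρ * (s.ρ ^ j * x * (s.ρ ^ j)⁻¹) * s.ρ⁻¹ by
      rw [pow_succ']; group, r.ρaa _ hx', r.ρmu _ hx', ih.1, ih.2]
    exact ⟨by ring, rfl⟩

theorem nR0 {g : G} (h : g ∈ N[r.R]) (hY : g ∈ N[r.Y]) {x : G} (hx : x ∈ r.R0) : g * x * g⁻¹ ∈ r.R0 :=
  r.mem_R0.2 ⟨cj h hx.1, (r.mem_cY (cj h hx.1)).1 (cj_c hY ((r.mem_cY hx.1).2 (r.mem_R0.1 hx).2))⟩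

/-- the stabilizer of the chain `R > R₀ > Y` -/
def St : Subgroup G := stb r.R r.R0 ⊓ stb r.R0 r.Y

theorem St.mu {g x : G} (hg : g ∈ r.St) (hx : x ∈ r.R) : r.mu (g * x * g⁻¹) = r.mu x := by
  have := (r.mem_R0.1 (hg.1.2.2 x hx)).2
  rw [r.div_eq r.mu_mul (cj hg.1.1 hx) hx] at this
  linear_combination this - r.mu x * s.two

theorem St.aa0 {g x : G} (hg : g ∈ r.St) (hx : x ∈ r.R0) : r.aa (g * x * g⁻¹) = r.aa x := by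
  have := (r.mem_Y.1 (hg.2.2.2 x hx)).2.1
  rw [r.div_eq r.aa_mul (cj hg.1.1 hx.1) hx.1] at this
  linear_combination this - r.aa x * s.two

variable [Finite G] [Finite F]

omit [Finite F] in
theorem mem_St {g : G} (h : g ∈ N[r.R]) (hY : g ∈ N[r.Y]) (h1 : ∀ x ∈ r.R, r.mu (g * x * g⁻¹) = r.mu x)
    (h2 : ∀ x ∈ r.R0, r.aa (g * x * g⁻¹) = r.aa x) : g ∈ r.St := by
  have h0 : g ∈ N[r.R0] := mem_n fun x hx => r.nR0 h hY hx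
  have k : ∀ x ∈ r.R, g * x * g⁻¹ * x⁻¹ ∈ r.R0 := fun x hx =>
    r.mem_R0.2 ⟨mul_mem (cj h hx) (inv_mem hx), by rw [r.div_eq r.mu_mul (cj h hx) hx, h1 x hx, s.add_self]⟩
  refine ⟨⟨h, h0, k⟩, h0, hY, fun x hx => r.mem_Y.2 ⟨(k x hx.1).1, ?_, (r.mem_R0.1 (k x hx.1)).2⟩⟩
  rw [r.div_eq r.aa_mul (cj h hx.1) hx.1, h2 x hx, s.add_self]

omit [Finite F] in
theorem St.cj {n g : G} (h : n ∈ N[r.R]) (hY : n ∈ N[r.Y]) (hg : g ∈ r.St) : n * g * n⁻¹ ∈ r.St :=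
  have h0 : n ∈ N[r.R0] := mem_n fun _ hx => r.nR0 h hY hx
  ⟨stb_cj h h0 hg.1, stb_cj h0 hY hg.2⟩

theorem St.cZ (h0 : r.k0 = 0) {g : G} (hg : g ∈ r.St) : g ∈ C[s.Z] := by
  refine mem_c fun z hz => ?_
  obtain ⟨b, hb, rfl⟩ := s.mem_Z.1 hz
  obtain ⟨c, -, hc⟩ := s.exists_norm one_ne_zero hb
  obtain ⟨x, hx⟩ := s.exists_a (c * 1)
  have h1 := r.QR0 (s.ι_mem x)
  have h2 := r.nR0 hg.1.1 hg.2.2.1 h1
  have e1 := r.sq _ h1.1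
  have e2 := r.sq _ h2.1
  rw [(r.mem_R0.1 h2).2, St.aa0 r hg h1, h0, add_zero, mul_zero, add_zero, r.aa_ι, hx, hc] at e2
  rw [r.mu_ι, r.aa_ι, h0, add_zero, mul_zero, add_zero, hx, hc] at e1
  conv_rhs => rw [← e2]
  rw [← e1]; group

theorem St.form (h0 : r.k0 = 0) {g : G} (hg : g ∈ r.St) : ∃ u, ∀ x ∈ r.R,
    r.aa (g * x * g⁻¹) = r.aa x + u * r.mu x ∧
      r.lam (g * x * g⁻¹) = r.lam x + r.aa x * τ u + τ (r.aa x) * u + u * τ u * r.mu x := by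
  obtain ⟨e, he, h1⟩ := s.exists_E
  have hR := hg.1.1
  have m0 := r.mu_ne he h1
  have hv := TwoL.cj hR (r.ER he)
  have mv := St.mu r hg (r.ER he)
  obtain ⟨u, hu⟩ : ∃ u, r.aa (g * e * g⁻¹) = u * r.mu e := ⟨_, (div_mul_cancel₀ _ m0).symm⟩
  have mk := r.mu_k e (r.ER he)
  have q : r.qf (g * e * g⁻¹) = 0 := (r.sq_iff hv).1 (by rw [conj_mul, s.sqE e he]; group)
  have lv : r.lam (g * e * g⁻¹) = u * τ u * r.mu e := by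
    rw [qf, hu, mv, h0, map_mul, mk] at q
    apply mul_right_cancel₀ m0
    linear_combination q - u * τ u * r.mu e * r.mu e * s.two
  have ha : ∀ x ∈ r.R, r.aa (g * x * g⁻¹) = r.aa x + u * r.mu x := fun x hx => by
    obtain ⟨e', he', m⟩ := r.rng x hx
    have p := (r.prop hv (TwoL.cj hR (r.ER he')) (mv ▸ m0) fun y hy hc =>
      r.f0 hR he h1 (mem_sup_left he') hy hc).1
    rw [mv, hu, St.mu r hg (r.ER he')] at p
    have p' : r.aa (g * e' * g⁻¹) = u * r.mu e' := mul_right_cancel₀ m0 (by linear_combination p)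
    have k : x * e'⁻¹ ∈ r.R0 := r.mem_R0.2 ⟨mul_mem hx (inv_mem (r.ER he')), by
      rw [r.div_eq r.mu_mul hx (r.ER he'), m, s.add_self]⟩
    rw [show g * x * g⁻¹ = g * (x * e'⁻¹) * g⁻¹ * (g * e' * g⁻¹) by group,
      r.aa_mul _ (TwoL.cj hR k.1) _ (TwoL.cj hR (r.ER he')), St.aa0 r hg k, p',
      r.div_eq r.aa_mul hx (r.ER he'), r.aa_E _ he', m, add_zero]
  refine ⟨u, fun x hx => ⟨ha x hx, ?_⟩⟩
  have hx' := TwoL.cj hR hx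
  have c : r.bf (g * x * g⁻¹) (g * e * g⁻¹) = r.bf x e := by
    refine s.zc_inj (r.bf_k hx' hv) (r.bf_k hx (r.ER he)) ?_
    rw [← r.comm' hx' hv, ← cc (St.cZ r h0 hg) (s.zc_mem _), ← r.comm' hx (r.ER he)]
    group
  rw [bf, bf, ha x hx, hu, lv, mv, St.mu r hg hx, r.aa_E e he, r.lam_E e he] at c
  simp only [map_add, map_mul, mk, r.mu_k x hx, map_zero] at c
  have := s.two
  grind

/-- the group `S₀` with the coordinate `uu` -/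
structure S1 where
  S : Subgroup G
  uu : G → F
  k0 : r.k0 = 0
  p2 : IsPGroup 2 S
  nN : ∀ g ∈ N[r.R], g ∈ N[r.Y] → g ∈ N[S]
  SR : S ≤ N[r.R]
  cY : S ≤ C[r.Y]
  R0S : r.R0 ≤ S
  onto : ∀ u, ∃ x ∈ S, uu x = u
  ker : ∀ x ∈ S, uu x = 0 → x ∈ r.R0
  uu_mul : ∀ x ∈ S, ∀ y ∈ S, uu (x * y) = uu x + uu y
  uu_ρ : ∀ x ∈ S, uu (s.ρ * x * s.ρ⁻¹) = s.l * uu x
  aa_cj : ∀ g ∈ S, ∀ x ∈ r.R, r.aa (g * x * g⁻¹) = r.aa x + uu g * r.mu x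
  lam_cj : ∀ g ∈ S, ∀ x ∈ r.R,
    r.lam (g * x * g⁻¹) = r.lam x + r.aa x * τ (uu g) + τ (r.aa x) * uu g + uu g * τ (uu g) * r.mu x
  mu_cj : ∀ g ∈ S, ∀ x ∈ r.R, r.mu (g * x * g⁻¹) = r.mu x

theorem ρ_nY : s.ρ ∈ N[r.Y] := r.B_nY s.ρB

theorem R_le_St : r.R ≤ r.St := fun g hg => by
  have hY : g ∈ N[r.Y] := mem_n fun y hy => by
    rw [r.mem_Y] at hy ⊢
    exact ⟨mul_mem (mul_mem hg hy.1) (inv_mem hg), by rw [r.cj_eq r.aa_mul hg hy.1, hy.2.1],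
      by rw [r.cj_eq r.mu_mul hg hy.1, hy.2.2]⟩
  exact r.mem_St (le_normalizer hg) hY (fun x hx => r.cj_eq r.mu_mul hg hx) fun x hx => r.cj_eq r.aa_mul hg hx.1

theorem O_le_St : s.O ≤ r.St := fun g hg =>
  have h := r.OcR hg
  r.mem_St (c_le_n _ h) (c_le_n _ (centralizer_le r.YR h)) (fun x hx => by rw [cc h hx]) fun x hx => by rw [cc h hx.1]

omit [Finite G] [Finite F] in
theorem sq0 (h0 : r.k0 = 0) {x : G} (hx : x ∈ r.R0) : x * x = s.zc (r.aa x * τ (r.aa x)) := by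
  rw [r.sq x hx.1, (r.mem_R0.1 hx).2, h0, add_zero, mul_zero, add_zero]

/-- semilinear action on `R₀/Y` -/
theorem semi (h0 : r.k0 = 0) {g : G} (h : g ∈ N[r.R]) (hY : g ∈ N[r.Y]) : ∃ (m : F) (σ : F ≃+* F),
    ∀ x ∈ r.R0, r.aa (g * x * g⁻¹) = m * σ (r.aa x) := by
  have hZ := r.nR_nZ h
  obtain ⟨θ, h1, h2⟩ := ind (X := r.R0) (f := r.aa) (φ := fun x => r.aa (g * x * g⁻¹))
    (fun x hx y hy => r.aa_mul x hx.1 y hy.1)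
    (fun x hx y hy => by rw [← conj_mul, r.aa_mul _ (cj h hx.1) _ (cj h hy.1)])
    fun x hx e => (r.mem_Y.1 (cj hY (r.mem_Y.2 ⟨hx.1, e, (r.mem_R0.1 hx).2⟩))).2.1
  have on : ∀ a, ∃ x ∈ r.R0, r.aa x = a := fun a =>
    let ⟨x, hx⟩ := s.exists_a a
    ⟨_, r.QR0 (s.ι_mem x), by rw [r.aa_ι, hx]⟩
  obtain ⟨σ, -, h3⟩ := s.sl (θ := θ) (ζ := fun b => s.zi (g * s.zc b * g⁻¹))
    (fun a b => by
      obtain ⟨x, hx, rfl⟩ := on a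
      obtain ⟨y, hy, rfl⟩ := on b
      exact h2 x hx y hy)
    (fun a e => by
      obtain ⟨x, hx, rfl⟩ := on a
      have k := r.nR0 h hY hx
      have := cj' hY (r.mem_Y.2 ⟨k.1, (h1 x hx).trans e, (r.mem_R0.1 k).2⟩)
      rw [show g⁻¹ * (g * x * g⁻¹) * g = x by group] at this
      exact (r.mem_Y.1 this).2.1)
    (fun a b ha hb => by
      rw [s.zc_add ha hb, ← conj_mul, s.zi_mul (cj hZ (s.zc_mem _)) (cj hZ (s.zc_mem _))])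
    fun a => by
      obtain ⟨x, hx, rfl⟩ := on a
      rw [← r.sq0 h0 hx, ← conj_mul, r.sq0 h0 (r.nR0 h hY hx), s.zi_zc (by simp [mul_comm]), ← h1 x hx]
  exact ⟨θ 1, σ, fun x hx => by rw [← h3, ← h1 x hx]⟩

theorem exists_c (h0 : r.k0 = 0) {g : G} (h : g ∈ N[r.R]) (hY : g ∈ N[r.Y]) {u : F} (hu : u ≠ 0)
    (hA : ∀ a ∈ s.A, g * a * g⁻¹ ∈ r.Pt u) : ∃ c ∈ r.St, ∃ e ∈ s.E, r.aa (c * e * c⁻¹) ≠ 0 := by
  obtain ⟨m, σ, h1⟩ := r.semi h0 (inv_mem h) (inv_mem hY)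
  simp only [inv_inv] at h1
  obtain ⟨i, hi⟩ := s.frob σ
  obtain ⟨e, he, e1⟩ := s.exists_E
  have hρ := r.ρ_nY
  have n1 : g⁻¹ * s.ρ * g * (s.ρ ^ 2 ^ i)⁻¹ ∈ N[r.R] :=
    mul_mem (mul_mem (mul_mem (inv_mem h) r.ρN) h) (inv_mem (pow_mem r.ρN _))
  have n2 : g⁻¹ * s.ρ * g * (s.ρ ^ 2 ^ i)⁻¹ ∈ N[r.Y] :=
    mul_mem (mul_mem (mul_mem (inv_mem hY) hρ) hY) (inv_mem (pow_mem hρ _))
  have n0 : ∀ g ∈ N[r.R], g ∈ N[r.Y] → g ∈ N[r.R0] := fun g h hY => mem_n fun _ hx => r.nR0 h hY hx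
  have ρs : s.ρ ∈ stb r.R r.R0 := ⟨r.ρN, n0 _ r.ρN hρ, fun x hx => r.mem_R0.2 ⟨mul_mem (cj r.ρN hx) (inv_mem hx), by
    rw [r.div_eq r.mu_mul (cj r.ρN hx) hx, r.ρmu x hx, s.add_self]⟩⟩
  have c1 : g⁻¹ * s.ρ * g * (s.ρ ^ 2 ^ i)⁻¹ ∈ stb r.R r.R0 :=
    mul_mem (by simpa using stb_cj (inv_mem h) (inv_mem (n0 _ h hY)) ρs) (inv_mem (pow_mem ρs _))
  refine ⟨_, r.mem_St n1 n2 (fun x hx => ?_) fun x hx => ?_, e, he, fun k => ?_⟩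
  · have := (r.mem_R0.1 (c1.2.2 x hx)).2
    rw [r.div_eq r.mu_mul (cj n1 hx) hx] at this
    linear_combination this - r.mu x * s.two
  · have x1 := cj' (pow_mem (n0 _ r.ρN hρ) (2 ^ i)) hx
    have x2 := r.nR0 h hY x1
    have a1 := (r.ρ_pow x1.1 (2 ^ i)).1
    have a2 := h1 _ x2
    have a3 := h1 _ (r.nR0 r.ρN hρ x2)
    rw [r.ρaa _ x2.1, map_mul, hi s.l] at a3
    generalize s.ρ ^ 2 ^ i = p at *
    rw [show p * (p⁻¹ * x * p) * p⁻¹ = x by group] at a1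
    rw [show g⁻¹ * (g * (p⁻¹ * x * p) * g⁻¹) * g = p⁻¹ * x * p by group] at a2
    rw [show g⁻¹ * s.ρ * g * p⁻¹ * x * (g⁻¹ * s.ρ * g * p⁻¹)⁻¹ =
      g⁻¹ * (s.ρ * (g * (p⁻¹ * x * p) * g⁻¹) * s.ρ⁻¹) * g by group, a3, a1, a2]
    ring
  · have hv := r.mem_Pt.1 (hA e (mem_sup_left he))
    have m0 : r.mu (g * e * g⁻¹) ≠ 0 := fun m0 => by
      have := cj' (n0 _ h hY) (r.mem_R0.2 ⟨hv.1, m0⟩)
      rw [show g⁻¹ * (g * e * g⁻¹) * g = e by group] at this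
      exact r.mu_ne he e1 (r.mem_R0.1 this).2
    have x1 := ρs.2.2 _ hv.1
    have x2 := cj' (n0 _ h hY) x1
    have ce : (s.ρ ^ 2 ^ i)⁻¹ * e * (s.ρ ^ 2 ^ i)⁻¹⁻¹ = e := cc (inv_mem (pow_mem (s.CcE s.ρC) _)) he
    generalize s.ρ ^ 2 ^ i = p at *
    rw [show g⁻¹ * s.ρ * g * p⁻¹ * e * (g⁻¹ * s.ρ * g * p⁻¹)⁻¹ = g⁻¹ * s.ρ * g * (p⁻¹ * e * p⁻¹⁻¹) * g⁻¹ * s.ρ⁻¹ * g by
      group, ce, show g⁻¹ * s.ρ * g * e * g⁻¹ * s.ρ⁻¹ * g =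
      g⁻¹ * (s.ρ * (g * e * g⁻¹) * s.ρ⁻¹ * (g * e * g⁻¹)⁻¹) * g * e by group, r.aa_mul _ x2.1 _ (r.ER he),
      r.aa_E e he, add_zero] at k
    have := cj hY (r.mem_Y.2 ⟨x2.1, k, (r.mem_R0.1 x2).2⟩)
    rw [show ∀ y : G, g * (g⁻¹ * y * g) * g⁻¹ = y from fun y => by group] at this
    have k' := (r.mem_Y.1 this).2.1
    rw [r.div_eq r.aa_mul (cj r.ρN hv.1) hv.1, r.ρaa _ hv.1, hv.2.1] at k'
    have l1 : s.l ≠ 1 := fun l1 => s.lτ (by rw [l1, map_one])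
    have := s.two
    grind

theorem exists_S1 (h0 : r.k0 = 0) {g : G} (h : g ∈ N[r.R]) (hY : g ∈ N[r.Y]) {u : F} (hu : u ≠ 0)
    (hA : ∀ a ∈ s.A, g * a * g⁻¹ ∈ r.Pt u) : Nonempty r.S1 := by
  choose! uu huu using fun g (hg : g ∈ r.St) => St.form r h0 hg
  obtain ⟨e, he, e1⟩ := s.exists_E
  have m0 := r.mu_ne he e1
  have two := s.two
  have ue : ∀ g ∈ r.St, r.aa (g * e * g⁻¹) = uu g * r.mu e := fun g hg => by
    rw [(huu g hg e (r.ER he)).1, r.aa_E e he, zero_add]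
  have add : ∀ x ∈ r.St, ∀ y ∈ r.St, uu (x * y) = uu x + uu y := fun x hx y hy => by
    have a1 := ue _ (mul_mem hx hy)
    rw [show x * y * e * (x * y)⁻¹ = x * (y * e * y⁻¹) * x⁻¹ by group, (huu x hx _ (cj hy.1.1 (r.ER he))).1,
      ue y hy, St.mu r hy (r.ER he)] at a1
    grind
  have u1 : uu 1 = 0 := by simpa using add 1 (one_mem _) 1 (one_mem _)
  have inv : ∀ x ∈ r.St, uu x⁻¹ = uu x := fun x hx => by
    have := add x hx _ (inv_mem hx)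
    rw [mul_inv_cancel, u1] at this
    grind
  have hρ := r.ρ_nY
  have ρS : ∀ x ∈ r.St, s.ρ * x * s.ρ⁻¹ ∈ r.St := fun x hx => St.cj r r.ρN hρ hx
  have uρ : ∀ j, ∀ x ∈ r.St, uu (s.ρ ^ j * x * (s.ρ ^ j)⁻¹) = s.l ^ j * uu x := fun j x hx => by
    have a1 := ue _ (St.cj r (pow_mem r.ρN j) (pow_mem hρ j) hx)
    have ce : (s.ρ ^ j)⁻¹ * e * (s.ρ ^ j)⁻¹⁻¹ = e := cc (inv_mem (pow_mem (s.CcE s.ρC) _)) he
    have a2 := (r.ρ_pow (cj hx.1.1 (r.ER he)) j).1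
    generalize s.ρ ^ j = p at *
    rw [show p * x * p⁻¹ * e * (p * x * p⁻¹)⁻¹ = p * (x * (p⁻¹ * e * p⁻¹⁻¹) * x⁻¹) * p⁻¹ by group, ce, a2,
      ue x hx] at a1
    grind
  have on : ∀ a, ∃ x ∈ r.St, uu x = a := by
    obtain ⟨c, hc, e', he', k⟩ := r.exists_c h0 h hY hu hA
    let V : AddSubgroup F :=
      { carrier := {a | ∃ x ∈ r.St, uu x = a}
        zero_mem' := ⟨1, one_mem _, u1⟩
        add_mem' := by rintro _ _ ⟨x, hx, rfl⟩ ⟨y, hy, rfl⟩; exact ⟨_, mul_mem hx hy, add x hx y hy⟩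
        neg_mem' := by rintro _ ⟨x, hx, rfl⟩; exact ⟨x, hx, by grind⟩ }
    refine s.closed_top (V := V) ?_ (v := uu c) ⟨c, hc, rfl⟩ fun z => k ?_
    · rintro _ ⟨x, hx, rfl⟩
      exact ⟨_, ρS x hx, by simpa using uρ 1 x hx⟩
    · rw [(huu c hc _ (r.ER he')).1, r.aa_E _ he', z, zero_mul, add_zero]
  have uc : ∀ o ∈ r.St, o * e * o⁻¹ = e → uu o = 0 := fun o ho k => by
    have := ue o ho
    rw [k, r.aa_E e he] at this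
    grind
  have uR : ∀ x ∈ r.R, uu x = 0 := fun x hx => by
    have := ue x (r.R_le_St hx)
    rw [r.cj_eq r.aa_mul hx (r.ER he), r.aa_E e he] at this
    grind
  have triv : ∀ g ∈ r.St, uu g = 0 → ∀ x ∈ r.R, g * x * g⁻¹ * x⁻¹ ∈ s.Z := fun g hg z x hx => by
    have hx' := cj hg.1.1 hx
    obtain ⟨a1, a2⟩ := huu g hg x hx
    rw [r.mem_Z, r.div_eq r.aa_mul hx' hx, r.div_eq r.lam_mul hx' hx, r.div_eq r.mu_mul hx' hx, a1, a2,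
      St.mu r hg hx, z, map_zero]
    exact ⟨mul_mem hx' (inv_mem hx), by grind, by grind, by grind⟩
  have ker : ∀ g ∈ r.St, uu g = 0 → ∃ k ∈ r.R, ∃ o ∈ s.O, g = k * o := fun g hg z => by
    have nA : g ∈ N[s.A] := mem_n fun a ha => by
      simpa using mul_mem (mem_sup_right (triv g hg z a (r.AR ha)) : _ ∈ s.A) ha
    obtain ⟨y, hy, k⟩ := r.nA_dec nA
    have hy' := inv_mem (r.YR hy)
    have hg' := mul_mem (r.R_le_St hy') hg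
    have z' : uu (y⁻¹ * g) = 0 := by rw [add _ (r.R_le_St hy') _ hg, z, uR _ hy', add_zero]
    have t' := triv _ hg' z'
    generalize hg1 : y⁻¹ * g = g' at *
    have hC : g' ∈ s.C := by
      rw [Su.C, ← s.cE e he e1, mem_C1, ← mul_inv_eq_iff_eq_mul, ← mul_inv_eq_one]
      obtain ⟨x, -, hx⟩ := t' e (r.ER he)
      exact s.disj _ (mul_mem (cj k he) (inv_mem he)) (hx ▸ s.QU x)
    have hN : g' ∈ s.N0 := by
      refine ⟨mem_n fun x hx => ?_, fun x y k => ?_⟩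
      · simpa using mul_mem (s.ZQ (t' x (r.QR hx))) hx
      · rw [← r.aa_ι, ← k, (huu _ hg' _ (r.ιR x)).1, r.aa_ι, z', zero_mul, add_zero]
    obtain ⟨b, hb, o, ho, k⟩ := s.c2 hN hC
    exact ⟨y * b, mul_mem (r.YR hy) (r.mem_B0.1 hb).1, o, ho, by rw [mul_assoc, ← k, ← hg1]; group⟩
  have l1 : s.l + 1 ≠ 0 := fun l1 => s.lτ (by rw [show s.l = 1 by grind, map_one])
  obtain ⟨M, pM, hM, -, dec⟩ := stab two r.p2 r.R_le_St r.O_le_St s.Oodd r.OcR s.OO s.ρO (mem_n ρS) add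
    (fun o ho => uc o (r.O_le_St ho) (cc (r.OcR ho) (r.ER he))) ker fun g hg => by
      obtain ⟨x, hx, k⟩ := on (uu g / (s.l + 1))
      refine ⟨x, hx, ?_⟩
      have := uρ 1 x hx
      rw [pow_one, pow_one] at this
      rw [add _ (ρS x hx) _ (inv_mem hx), this, inv x hx, k]
      field_simp
  have MS : ∀ x ∈ M, x ∈ r.St := fun x hx => ((hM x).1 hx).1
  have RM : r.R ≤ M := fun x hx => (hM x).2 ⟨r.R_le_St hx, p2_of_mem r.p2 hx⟩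
  have nM : ∀ g ∈ N[r.R], g ∈ N[r.Y] → ∀ x ∈ M, g * x * g⁻¹ ∈ M := fun g h hY x hx =>
    (hM _).2 ⟨St.cj r h hY (MS x hx), ((hM x).1 hx).2.conj g⟩
  refine ⟨⟨M ⊓ C[r.Y], uu, h0, pM.to_inf_left, fun g h hY => mem_n fun x hx => ⟨nM g h hY x hx.1, cj_c hY hx.2⟩,
    fun x hx => (MS x hx.1).1.1, inf_le_right, fun x hx => ⟨RM hx.1, (r.mem_cY hx.1).2 (r.mem_R0.1 hx).2⟩,
    fun a => ?_, fun x hx z => ?_, fun x hx y hy => add x (MS x hx.1) y (MS y hy.1),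
    fun x hx => by simpa using uρ 1 x (MS x hx.1), fun g hg x hx => (huu g (MS g hg.1) x hx).1,
    fun g hg x hx => (huu g (MS g hg.1) x hx).2, fun g hg x hx => St.mu r (MS g hg.1) hx⟩⟩
  · obtain ⟨j, j1, j2⟩ := s.exists_w
    have w1 : s.l ^ j + 1 ≠ 0 := fun w1 => j2 (by grind)
    obtain ⟨x, hx, k⟩ := on (a / (s.l ^ j + 1))
    obtain ⟨m, hm, o, ho, rfl⟩ := dec x hx
    rw [add _ (MS m hm) _ (r.O_le_St ho), uc o (r.O_le_St ho) (cc (r.OcR ho) (r.ER he)), add_zero] at k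
    have κm := nM _ (pow_mem r.ρN j) (pow_mem hρ j) m hm
    have κY : s.ρ ^ j ∈ C[r.Y] := centralizer_le (fun y hy => r.mem_D.2 ⟨hy.1, (r.mem_Y.1 hy).2.1⟩) (r.κcD j1)
    refine ⟨_, mem_inf.2 ⟨mul_mem κm (inv_mem hm), mem_c fun y hy => ?_⟩, ?_⟩
    · have a1 := cc (inv_mem κY) (cj' (MS m hm).2.2.1 hy)
      have a2 := cc κY hy
      generalize s.ρ ^ j = p at *
      rw [show p * m * p⁻¹ * m⁻¹ * y * (p * m * p⁻¹ * m⁻¹)⁻¹ = p * m * (p⁻¹ * (m⁻¹ * y * m) * p⁻¹⁻¹) * m⁻¹ * p⁻¹ by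
        group, a1]
      conv_rhs => rw [← a2]
      group
    · rw [add _ (MS _ κm) _ (inv_mem (MS m hm)), uρ j m (MS m hm), inv m (MS m hm), k]
      field_simp
  · obtain ⟨k, hk, o, ho, rfl⟩ := ker x (MS x hx.1) z
    have o2 : P2 o := p2_of_mem pM (by simpa using mul_mem (inv_mem (RM hk)) hx.1)
    rw [o2.eq_one (s.Oodd.of_dvd_nat (orderOf_dvd_natCard _ ho)), mul_one] at hx ⊢
    exact r.mem_R0.2 ⟨hk, (r.mem_cY hk).1 hx.2⟩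

end RR

end Cfsg.Lib.U3F
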