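import Cfsg.Agent.Lib.U3F.Two1

/-!
# Case II, steps 2 and 3: coordinates on `S₀`
-/

set_option autoImplicit false

namespace Cfsg.Lib.U3F.RR
open Subgroup Cfsg.Lib Cfsg.Lib.FT Cfsg.Lib.TwoL Cfsg.Lib.U3S

variable {G : Type*} [Group G] {F : Type*} [Field F] {τ : F ≃+* F} [Fact (Function.Involutive τ)] {s : Su G τ}
  {r : RR s} [Finite G] [Finite F]

namespace S1
variable (d : r.S1)

theorem YS : r.Y ≤ d.S := r.YR0.trans d.R0S

theorem QS : s.Q ≤ d.S := r.QR0.trans d.R0S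

theorem ιS (x : U3S τ) : s.ι x ∈ d.S := d.QS (s.ι_mem x)

theorem nY : d.S ≤ N[r.Y] := d.cY.trans (c_le_n _)

theorem BN : s.B ≤ N[d.S] := fun g hg => d.nN g (r.B_nR hg) (r.B_nY hg)

theorem uu_R0 {x : G} (hx : x ∈ r.R0) : d.uu x = 0 := by
  obtain ⟨e, he, e1⟩ := s.exists_E
  have := d.aa_cj x (d.R0S hx) e (r.ER he)
  rw [r.cj_eq r.aa_mul hx.1 (r.ER he)] at this
  have := r.mu_ne he e1
  grind

include d in
theorem sqY {y : G} (hy : y ∈ r.Y) : y * y = 1 := by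
  rw [r.sq0 d.k0 (r.YR0 hy), (r.mem_Y.1 hy).2.1, zero_mul, s.zc_zero]

theorem cy {x y : G} (hx : x ∈ d.S) (hy : y ∈ r.Y) : y * x = x * y := mem_centralizer_iff.1 (d.cY hx) y hy

theorem cm0 {g x : G} (hg : g ∈ d.S) (hx : x ∈ r.R0) : g * x * g⁻¹ * x⁻¹ ∈ r.Y := by
  have h := cj (d.SR hg) hx.1
  have m := (r.mem_R0.1 hx).2
  rw [r.mem_Y, r.div_eq r.aa_mul h hx.1, r.div_eq r.mu_mul h hx.1, d.aa_cj g hg x hx.1, d.mu_cj g hg x hx.1, m]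
  exact ⟨mul_mem h (inv_mem hx.1), by rw [mul_zero, add_zero, s.add_self], add_zero _⟩

theorem sq_mem {g : G} (hg : g ∈ d.S) : g * g ∈ r.Y := by
  have h : g * g ∈ r.R0 := d.ker _ (mul_mem hg hg) (by rw [d.uu_mul g hg g hg, s.add_self])
  refine r.mem_Y.2 ⟨h.1, (r.mem_cQ h.1).1 (mem_c fun x hx => ?_), (r.mem_R0.1 h).2⟩
  have k := d.cm0 hg (r.QR0 hx)
  have k1 := cc (d.cY hg) k
  have k2 := d.sqY k
  generalize hy : g * x * g⁻¹ * x⁻¹ = y at *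
  have e : g * x * g⁻¹ = y * x := by rw [← hy]; group
  rw [show g * g * x * (g * g)⁻¹ = g * (g * x * g⁻¹) * g⁻¹ by group, e, ← conj_mul, k1, e, ← mul_assoc, k2, one_mul]

theorem cm {a b : G} (ha : a ∈ d.S) (hb : b ∈ d.S) : a * b * a⁻¹ * b⁻¹ ∈ r.Y := by
  have := mul_mem (mul_mem (d.sq_mem (mul_mem ha hb)) (cj' (d.nY hb) (inv_mem (d.sq_mem ha)))) (inv_mem (d.sq_mem hb))
  rwa [show a * b * (a * b) * (b⁻¹ * (a * a)⁻¹ * b) * (b * b)⁻¹ = a * b * a⁻¹ * b⁻¹ by group] at this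

theorem sq_mul {a b : G} (ha : a ∈ d.S) (hb : b ∈ d.S) :
    a * b * (a * b) = a * b * a⁻¹ * b⁻¹ * (a * a) * (b * b) := by
  have k := d.cy hb (d.sq_mem ha)
  calc a * b * (a * b) = a * b * a⁻¹ * b⁻¹ * (b * (a * a)) * b := by group
    _ = _ := by rw [← k]; group

theorem sq_y {a y : G} (ha : a ∈ d.S) (hy : y ∈ r.Y) : a * y * (a * y) = a * a := by
  rw [show a * y * (a * y) = a * (y * a) * y by group, d.cy ha hy, mul_assoc, mul_assoc, d.sqY hy, mul_one]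

theorem cm_mul {a b c : G} (ha : a ∈ d.S) (hb : b ∈ d.S) (hc : c ∈ d.S) :
    a * b * c * (a * b)⁻¹ * c⁻¹ = b * c * b⁻¹ * c⁻¹ * (a * c * a⁻¹ * c⁻¹) := by
  conv_rhs => rw [← cc (d.cY ha) (d.cm hb hc)]
  group

theorem cm_mul' {a b c : G} (ha : a ∈ d.S) (hb : b ∈ d.S) (hc : c ∈ d.S) :
    a * (b * c) * a⁻¹ * (b * c)⁻¹ = a * b * a⁻¹ * b⁻¹ * (a * c * a⁻¹ * c⁻¹) := by
  conv_rhs => rw [← cc (d.cY hb) (d.cm ha hc)]
  group

theorem cm_y {a y : G} (ha : a ∈ d.S) (hy : y ∈ r.Y) : a * y * a⁻¹ * y⁻¹ = 1 := by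
  rw [cc (d.cY ha) hy, mul_inv_cancel]

theorem y_cm {a y : G} (ha : a ∈ d.S) (hy : y ∈ r.Y) : y * a * y⁻¹ * a⁻¹ = 1 := by
  rw [d.cy ha hy]; group

theorem exists_AA : ∃ A : G → F, (∀ x ∈ d.S, ∀ y ∈ d.S, A (x * y) = A x + A y) ∧ (∀ x ∈ r.R0, A x = r.aa x) ∧
    ∀ x ∈ d.S, A (s.ρ * x * s.ρ⁻¹) = s.l * A x := by
  obtain ⟨f, h1, h2, -, h3⟩ := ext_hom s.two d.R0S (f₀ := r.aa) (fun x hx y hy => r.aa_mul x hx.1 y hy.1)
    (fun x hx => ⟨r.YR0 (d.sq_mem hx), (r.mem_Y.1 (d.sq_mem hx)).2.1⟩) (V := ⊤) (fun _ _ => trivial) (d.BN s.ρB)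
    (mem_n fun x hx => r.nR0 r.ρN r.ρ_nY hx) s.ρodd s.l_pow (fun _ _ => trivial) fun x hx => r.ρaa x hx.1
  exact ⟨f, h1, h2, h3⟩

include d in
theorem exists_bb : ∃ b : G → F, (∀ x ∈ r.Y, ∀ y ∈ r.Y, b (x * y) = b x + b y) ∧ (∀ c, τ c = c → b (s.zc c) = c) ∧
    (∀ y ∈ r.Y, τ (b y) = b y) ∧ ∀ y ∈ r.Y, b (s.ρ * y * s.ρ⁻¹) = s.l * τ s.l * b y := by
  let V : AddSubgroup F :=
    { carrier := {a | τ a = a}
      zero_mem' := map_zero τ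
      add_mem' := fun {a b} (ha : τ a = a) (hb : τ b = b) => show τ (a + b) = a + b by rw [map_add, ha, hb]
      neg_mem' := fun {a} (ha : τ a = a) => show τ (-a) = -a by rw [map_neg, ha] }
  obtain ⟨f, h1, h2, h3, h4⟩ := ext_hom s.two r.ZY (f₀ := s.zi) (fun x hx y hy => s.zi_mul hx hy)
    (fun x hx => by rw [d.sqY hx]; exact ⟨one_mem _, by rw [← s.zc_zero, s.zi_zc (map_zero τ)]⟩) (V := V)
    (fun _ h => (s.zi_spec h).1) r.ρ_nY (s.nQ_nZ s.ρQ) s.ρodd (c := s.l * τ s.l)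
    (by rw [mul_pow, ← map_pow, s.l_pow, map_one, one_mul])
    (fun v (hv : τ v = v) => show τ (s.l * τ s.l * v) = s.l * τ s.l * v by simp [hv, mul_comm]) fun x hx => by
      obtain ⟨b, hb, rfl⟩ := s.mem_Z.1 hx
      rw [s.ρ_zc hb, s.zi_zc hb, s.zi_zc (by simp [hb, mul_comm])]
  exact ⟨f, h1, fun c hc => by rw [h2 _ (s.zc_mem c), s.zi_zc hc], h3, h4⟩

theorem uu_one : d.uu 1 = 0 := d.uu_R0 (one_mem _)

theorem uu_inv {x : G} (hx : x ∈ d.S) : d.uu x⁻¹ = d.uu x := by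
  have := d.uu_mul x hx _ (inv_mem hx)
  rw [mul_inv_cancel, d.uu_one] at this
  have := s.two
  grind

section AA
variable {A : G → F} (h1 : ∀ x ∈ d.S, ∀ y ∈ d.S, A (x * y) = A x + A y) (h2 : ∀ x ∈ r.R0, A x = r.aa x)
include h1 h2

theorem A_inv {x : G} (hx : x ∈ d.S) : A x⁻¹ = A x := by
  have := h1 x hx _ (inv_mem hx)
  rw [mul_inv_cancel, h2 1 (one_mem _), r.aa_one] at this
  have := s.two
  grind

theorem eq_mul_y {a b : G} (ha : a ∈ d.S) (hb : b ∈ d.S) (e1 : d.uu a = d.uu b) (e2 : A a = A b) :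
    ∃ y ∈ r.Y, a = b * y := by
  have k := mul_mem (inv_mem hb) ha
  have k0 := d.ker _ k (by rw [d.uu_mul _ (inv_mem hb) _ ha, d.uu_inv hb, e1, s.add_self])
  refine ⟨b⁻¹ * a, r.mem_Y.2 ⟨k0.1, ?_, (r.mem_R0.1 k0).2⟩, by group⟩
  rw [← h2 _ k0, h1 _ (inv_mem hb) _ ha, d.A_inv h1 h2 hb, e2, s.add_self]

theorem exists_uA (u a : F) : ∃ x ∈ d.S, d.uu x = u ∧ A x = a := by
  obtain ⟨x, hx, rfl⟩ := d.onto u
  obtain ⟨y, hy⟩ := s.exists_a (A x + a)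
  have k := r.QR0 (s.ι_mem y)
  refine ⟨_, mul_mem hx (d.ιS y), by rw [d.uu_mul _ hx _ (d.ιS y), d.uu_R0 k, add_zero], ?_⟩
  rw [h1 _ hx _ (d.ιS y), h2 _ k, r.aa_ι, hy, ← add_assoc, s.add_self, zero_add]

/-- the squaring map in coordinates -/
theorem sq_form (h3 : ∀ x ∈ d.S, A (s.ρ * x * s.ρ⁻¹) = s.l * A x) {f : G → F}
    (f1 : ∀ x ∈ r.Y, ∀ y ∈ r.Y, f (x * y) = f x + f y) (f2 : ∀ y ∈ r.Y, τ (f y) = f y)
    (f3 : ∀ y ∈ r.Y, f (s.ρ * y * s.ρ⁻¹) = s.l * τ s.l * f y) :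
    ∃ c₁ c, τ c₁ = c₁ ∧ (∀ x ∈ d.S, A x = 0 → ∀ y : U3S τ,
      f (x * s.ι y * x⁻¹ * (s.ι y)⁻¹) = c * d.uu x * τ y.a + τ c * τ (d.uu x) * y.a) ∧ ∀ x ∈ d.S, f (x * x) =
        c₁ * (d.uu x * τ (d.uu x)) + (c * d.uu x * τ (A x) + τ c * τ (d.uu x) * A x) + f (s.zc (A x * τ (A x))) := by
  choose σ σS σu σA using d.exists_uA h1 h2
  have ρS : ∀ x ∈ d.S, s.ρ * x * s.ρ⁻¹ ∈ d.S := fun x hx => cj (d.BN s.ρB) hx
  have sq : ∀ x ∈ d.S, x * x = σ (d.uu x) (A x) * σ (d.uu x) (A x) := fun x hx => by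
    obtain ⟨y, hy, e⟩ := d.eq_mul_y h1 h2 hx (σS _ _) (σu _ _).symm (σA _ _).symm
    conv_lhs => rw [e, d.sq_y (σS _ _) hy]
  have cmm : ∀ x ∈ d.S, ∀ x' ∈ d.S, x * x' * x⁻¹ * x'⁻¹ = σ (d.uu x) (A x) * σ (d.uu x') (A x') *
      (σ (d.uu x) (A x))⁻¹ * (σ (d.uu x') (A x'))⁻¹ := fun x hx x' hx' => by
    obtain ⟨y, hy, e⟩ := d.eq_mul_y h1 h2 hx (σS _ _) (σu _ _).symm (σA _ _).symm
    obtain ⟨y', hy', e'⟩ := d.eq_mul_y h1 h2 hx' (σS _ _) (σu _ _).symm (σA _ _).symm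
    conv_lhs => rw [e, d.cm_mul (σS _ _) (d.YS hy) hx', d.y_cm hx' hy, one_mul, e', d.cm_mul' (σS _ _) (σS _ _) (d.YS hy'),
      d.cm_y (σS _ _) hy', mul_one]
  -- the pairing of coordinates
  let B : F → F → F → F → F := fun u a u' a' => f (σ u a * σ u' a' * (σ u a)⁻¹ * (σ u' a')⁻¹)
  have Bl : ∀ u a v b u' a', B (u + v) (a + b) u' a' = B u a u' a' + B v b u' a' := fun u a v b u' a' => by
    have := cmm _ (mul_mem (σS u a) (σS v b)) _ (σS u' a')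
    rw [d.uu_mul _ (σS _ _) _ (σS _ _), h1 _ (σS _ _) _ (σS _ _), d.cm_mul (σS _ _) (σS _ _) (σS _ _)] at this
    simp only [σu, σA] at this
    simp only [B]
    rw [← this, f1 _ (d.cm (σS _ _) (σS _ _)) _ (d.cm (σS _ _) (σS _ _)), add_comm]
  have Br : ∀ u a v b u' a', B u' a' (u + v) (a + b) = B u' a' u a + B u' a' v b := fun u a v b u' a' => by
    have := cmm _ (σS u' a') _ (mul_mem (σS u a) (σS v b))
    rw [d.uu_mul _ (σS _ _) _ (σS _ _), h1 _ (σS _ _) _ (σS _ _), d.cm_mul' (σS _ _) (σS _ _) (σS _ _)] at this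
    simp only [σu, σA] at this
    simp only [B]
    rw [← this, f1 _ (d.cm (σS _ _) (σS _ _)) _ (d.cm (σS _ _) (σS _ _))]
  have Bρ : ∀ u a u' a', B (s.l * u) (s.l * a) (s.l * u') (s.l * a') = s.l * τ s.l * B u a u' a' := fun u a u' a' => by
    have := cmm _ (ρS _ (σS u a)) _ (ρS _ (σS u' a'))
    rw [d.uu_ρ _ (σS _ _), d.uu_ρ _ (σS _ _), h3 _ (σS _ _), h3 _ (σS _ _)] at this
    simp only [σu, σA] at this
    simp only [B]
    rw [← this, ← f3 _ (d.cm (σS _ _) (σS _ _))]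
    congr 1; group
  obtain ⟨c, hc⟩ := s.hb2 (f := fun u a => B u 0 0 a) (fun _ _ => f2 _ (d.cm (σS _ _) (σS _ _)))
    (fun a b c => by rw [← Bl, add_zero]) (fun a b c => by rw [← Br, add_zero]) fun a b => by rw [← Bρ, mul_zero]
  have hq := s.hq (q := fun u => f (σ u 0 * σ u 0)) (f := fun u v => B u 0 v 0) (fun _ => f2 _ (d.sq_mem (σS _ _)))
    (fun a b => by
      have := sq _ (mul_mem (σS a 0) (σS b 0))
      rw [d.uu_mul _ (σS _ _) _ (σS _ _), h1 _ (σS _ _) _ (σS _ _), d.sq_mul (σS _ _) (σS _ _)] at this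
      simp only [σu, σA, add_zero] at this
      rw [← this, f1 _ (mul_mem (d.cm (σS _ _) (σS _ _)) (d.sq_mem (σS _ _))) _ (d.sq_mem (σS _ _)),
        f1 _ (d.cm (σS _ _) (σS _ _)) _ (d.sq_mem (σS _ _))]
      ring)
    (fun a b c => by rw [← Bl, add_zero]) fun a => by
      have := sq _ (ρS _ (σS a 0))
      rw [d.uu_ρ _ (σS _ _), h3 _ (σS _ _), conj_mul] at this
      simp only [σu, σA, mul_zero] at this
      rw [← this, f3 _ (d.sq_mem (σS _ _))]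
  have k : ∀ x ∈ d.S, A x = 0 → ∀ y : U3S τ,
      f (x * s.ι y * x⁻¹ * (s.ι y)⁻¹) = c * d.uu x * τ y.a + τ c * τ (d.uu x) * y.a := fun x hx z y => by
    have k := r.QR0 (s.ι_mem y)
    rw [cmm x hx _ (d.ιS y), z, d.uu_R0 k, h2 _ k, r.aa_ι, ← hc]
  refine ⟨_, c, f2 _ (d.sq_mem (σS 1 0)), k, fun x hx => ?_⟩
  obtain ⟨y, hy⟩ := s.exists_a (A x)
  have k0 := r.QR0 (s.ι_mem y)
  have hx' := mul_mem hx (inv_mem (d.ιS y))
  have z : A (x * (s.ι y)⁻¹) = 0 := by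
    rw [h1 _ hx _ (inv_mem (d.ιS y)), d.A_inv h1 h2 (d.ιS y), h2 _ k0, r.aa_ι, hy, s.add_self]
  have u : d.uu (x * (s.ι y)⁻¹) = d.uu x := by
    rw [d.uu_mul _ hx _ (inv_mem (d.ιS y)), d.uu_inv (d.ιS y), d.uu_R0 k0, add_zero]
  have e := d.sq_mul hx' (d.ιS y)
  conv_lhs at e => rw [inv_mul_cancel_right]
  rw [e, f1 _ (mul_mem (d.cm hx' (d.ιS y)) (d.sq_mem hx')) _ (d.sq_mem (d.ιS y)),
    f1 _ (d.cm hx' (d.ιS y)) _ (d.sq_mem hx'), k _ hx' z, sq _ hx', z, u, hq, s.ι_sq, hy]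
  ring

end AA

/-- the action of `E` -/
theorem e_cj {e x : G} (he : e ∈ s.E) (hx : x ∈ d.S) :
    x⁻¹ * (e * x * e⁻¹) ∈ r.R0 ∧ r.aa (x⁻¹ * (e * x * e⁻¹)) = d.uu x * r.mu e := by
  have h := cj (d.SR (inv_mem hx)) (r.ER he)
  rw [show x⁻¹ * (e * x * e⁻¹) = x⁻¹ * e * x⁻¹⁻¹ * e⁻¹ by group, r.mem_R0, r.div_eq r.aa_mul h (r.ER he),
    r.div_eq r.mu_mul h (r.ER he), d.aa_cj _ (inv_mem hx) _ (r.ER he), d.mu_cj _ (inv_mem hx) _ (r.ER he), d.uu_inv hx,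
    r.aa_E e he]
  exact ⟨⟨mul_mem h (inv_mem (r.ER he)), s.add_self _⟩, by ring⟩

omit [Finite G] [Finite F] in
theorem e_y {e y : G} (he : e ∈ s.E) (hy : y ∈ r.Y) : e * y * e⁻¹ = s.zc (r.lam y * r.mu e) * y := by
  have := r.comm e (r.ER he) y hy.1
  rw [r.aa_E e he, r.lam_E e he] at this
  simp only [zero_mul, map_zero, zero_add] at this
  rw [← this]; group

end S1

variable (r) in
/-- the group `S₀` with symmetric coordinates -/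
structure S2 extends r.S1 where
  t : G
  x1 : G → F
  x2 : G → F
  y1 : G → F
  y2 : G → F
  e2 : s.E2 t
  x1_mul : ∀ x ∈ S, ∀ y ∈ S, x1 (x * y) = x1 x + x1 y
  x2_mul : ∀ x ∈ S, ∀ y ∈ S, x2 (x * y) = x2 x + x2 y
  x1_R0 : ∀ x ∈ r.R0, x1 x = r.aa x
  x2_R0 : ∀ x ∈ r.R0, x2 x = r.aa x
  sum : ∀ x ∈ S, x1 x + x2 x = r.mu t * uu x
  y1_mul : ∀ x ∈ r.Y, ∀ y ∈ r.Y, y1 (x * y) = y1 x + y1 y
  y2_mul : ∀ x ∈ r.Y, ∀ y ∈ r.Y, y2 (x * y) = y2 x + y2 y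
  kery : ∀ y ∈ r.Y, y1 y = 0 → y2 y = 0 → y = 1
  alt : ((∀ y ∈ r.Y, y2 y = τ (y1 y)) ∧ ∀ x ∈ S, y1 (x * x) = x1 x * τ (x2 x)) ∨
    ((∀ y ∈ r.Y, τ (y1 y) = y1 y ∧ τ (y2 y) = y2 y) ∧
      ∀ x ∈ S, y1 (x * x) = x1 x * τ (x1 x) ∧ y2 (x * x) = x2 x * τ (x2 x))

theorem S1.exists_S2 (d : r.S1) : Nonempty r.S2 := by
  obtain ⟨A, h1, h2, h3⟩ := d.exists_AA
  obtain ⟨b, b1, b2, b3, b4⟩ := d.exists_bb
  have two := s.two
  obtain ⟨c₁, c', k1, l1, l2⟩ := d.sq_form h1 h2 h3 (f := r.lam) (fun x hx y hy => r.lam_mul x hx.1 y hy.1)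
    (fun y hy => r.lam_k y hy.1) fun y hy => r.ρlam y hy.1
  obtain ⟨c₂, c, k2, -, q2⟩ := d.sq_form h1 h2 h3 b1 b3 b4
  have q1 : ∀ x ∈ d.S, r.lam (x * x) = c₁ * (d.uu x * τ (d.uu x)) + (A x * τ (d.uu x) + τ (A x) * d.uu x) :=
    fun x hx => by
      obtain ⟨x0, hx0, u0, a0⟩ := d.exists_uA h1 h2 (d.uu x) 0
      obtain ⟨y, hy⟩ := s.exists_a (A x)
      have := l1 x0 hx0 a0 y
      rw [r.div_eq r.lam_mul (cj (d.SR hx0) (r.ιR y)) (r.ιR y), d.lam_cj _ hx0 _ (r.ιR y), r.lam_ι, r.aa_ι, r.mu_ι, u0,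
        hy] at this
      rw [l2 x hx, ← this, (r.mem_Z.1 (s.zc_mem _)).2.2.1]
      ring
  replace q2 : ∀ x ∈ d.S, b (x * x) = c₂ * (d.uu x * τ (d.uu x)) +
      (c * d.uu x * τ (A x) + τ c * τ (d.uu x) * A x) + A x * τ (A x) := fun x hx => by
    rw [q2 x hx, b2 _ (by simp [mul_comm])]
  have φ : ∀ e ∈ s.E, e ≠ 1 → r.mu e = c₁ + c + τ c := fun e he e1 => by
    obtain ⟨x, hx, u, a⟩ := d.exists_uA h1 h2 1 0
    obtain ⟨k, ka⟩ := d.e_cj he hx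
    have hx' : e * x * e⁻¹ = x * (x⁻¹ * (e * x * e⁻¹)) := by group
    have m := r.mu_k e (r.ER he)
    have z := q2 _ (cj (d.BN ⟨mem_sup_left he, c_le_n _ (s.EcQ he)⟩) hx)
    have zY := d.sq_mem hx
    rw [conj_mul, S1.e_y he zY, b1 _ (r.ZY (s.zc_mem _)) _ zY, b2 _ (by rw [map_mul, m, r.lam_k _ zY.1]), q1 x hx,
      q2 x hx, hx', d.uu_mul _ hx _ (d.R0S k), h1 _ hx _ (d.R0S k), h2 _ k, ka, d.uu_R0 k, u, a] at z
    simp only [map_zero, map_one, add_zero, zero_add, one_mul, mul_one, m] at z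
    have := r.mu_ne he e1
    grind
  obtain ⟨t, ht, t1⟩ := s.exists_E
  have e2 : s.E2 t := ⟨ht, t1, fun e he => or_iff_not_imp_left.2 fun e1 => by
    rw [← mul_inv_eq_one]
    refine r.mu_inj _ (mul_mem he (inv_mem ht)) ?_
    rw [r.div_eq r.mu_mul (r.ER he) (r.ER ht), φ e he e1, φ t ht t1, s.add_self]⟩
  have m0 := r.mu_ne ht t1
  have mk := r.mu_k t (r.ER ht)
  have mt := φ t ht t1
  generalize hm : r.mu t = m at *
  obtain ⟨z, hz⟩ := s.root (α := (c₂ + c * τ c) / m ^ 2) (by simp [k2, mk, mul_comm])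
  have hz' := congrArg τ hz
  simp only [map_add, map_pow, map_div₀, map_mul, ττ, k2, mk] at hz'
  rw [eq_div_iff (pow_ne_zero 2 m0)] at hz hz'
  refine ⟨{ d with
    t := t
    x1 := fun x => A x + c * d.uu x + (z + 1) * m * d.uu x
    x2 := fun x => A x + c * d.uu x + z * m * d.uu x
    y1 := fun y => b y + (z + 1) * m * r.lam y
    y2 := fun y => b y + z * m * r.lam y
    e2 := e2
    x1_mul := fun x hx y hy => by rw [h1 x hx y hy, d.uu_mul x hx y hy]; ring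
    x2_mul := fun x hx y hy => by rw [h1 x hx y hy, d.uu_mul x hx y hy]; ring
    x1_R0 := fun x hx => by rw [h2 x hx, d.uu_R0 hx]; ring
    x2_R0 := fun x hx => by rw [h2 x hx, d.uu_R0 hx]; ring
    sum := fun x hx => by rw [hm]; grind
    y1_mul := fun x hx y hy => by rw [b1 x hx y hy, r.lam_mul x hx.1 y hy.1]; ring
    y2_mul := fun x hx y hy => by rw [b1 x hx y hy, r.lam_mul x hx.1 y hy.1]; ring
    kery := fun y hy a1 a2 => ?_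
    alt := ?_ }⟩
  · have l : r.lam y = 0 := by grind
    obtain ⟨a, ha, rfl⟩ := s.mem_Z.1 (r.mem_Z.2 ⟨hy.1, (r.mem_Y.1 hy).2.1, l, (r.mem_Y.1 hy).2.2⟩)
    rw [b2 a ha, l] at a2
    rw [show a = 0 by grind, s.zc_zero]
  · have zz : τ z = z + 1 ∨ τ z = z := by grind
    haveI : CharP F 2 := CharTwo.of_one_ne_zero_of_two_eq_zero one_ne_zero two
    refine zz.imp (fun h => ⟨fun y hy => ?_, fun x hx => ?_⟩) fun h => ⟨fun y hy => ?_, fun x hx => ?_⟩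
    · simp only [map_add, map_mul, map_one, h, mk, b3 y hy, r.lam_k y hy.1]
      grind
    · simp only [map_add, map_mul, h, mk, q1 x hx, q2 x hx]
      linear_combination (norm := (ring_nf; reduce_mod_char!))
        d.uu x * τ (d.uu x) * hz + (z + 1) * m * (d.uu x * τ (d.uu x)) * mt
    · simp only [map_add, map_mul, map_one, h, mk, b3 y hy, r.lam_k y hy.1, and_self]
    · simp only [map_add, map_mul, map_one, h, mk, q1 x hx, q2 x hx]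
      constructor
      · linear_combination (norm := (ring_nf; reduce_mod_char!))
          d.uu x * τ (d.uu x) * hz + (z + 1) * m * (d.uu x * τ (d.uu x)) * mt
      · linear_combination (norm := (ring_nf; reduce_mod_char!))
          d.uu x * τ (d.uu x) * hz + z * m * (d.uu x * τ (d.uu x)) * mt

end Cfsg.Lib.U3F.RR
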