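import Cfsg.Agent.Lib.U3F.Two2

/-!
# Case II: properties of `S₀`
-/

set_option autoImplicit false

namespace Cfsg.Lib.U3F.RR.S2
open Subgroup Cfsg.Lib Cfsg.Lib.FT Cfsg.Lib.TwoL Cfsg.Lib.U3S

variable {G : Type*} [Group G] {F : Type*} [Field F] {τ : F ≃+* F} [Fact (Function.Involutive τ)] {s : Su G τ}
  {r : RR s} [Finite G] [Finite F] (d : r.S2)

/-- interchange the two coordinates -/
def swap : r.S2 :=
  { d with
    x1 := d.x2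
    x2 := d.x1
    y1 := d.y2
    y2 := d.y1
    x1_mul := d.x2_mul
    x2_mul := d.x1_mul
    x1_R0 := d.x2_R0
    x2_R0 := d.x1_R0
    sum := fun x hx => by rw [add_comm, d.sum x hx]
    y1_mul := d.y2_mul
    y2_mul := d.y1_mul
    kery := fun y hy a b => d.kery y hy b a
    alt := d.alt.imp (fun h => ⟨fun y hy => by rw [h.1 y hy, ττ], fun x hx => by
      rw [h.1 _ (d.sq_mem hx), h.2 x hx, map_mul, ττ, mul_comm]⟩)
      fun h => ⟨fun y hy => (h.1 y hy).symm, fun x hx => (h.2 x hx).symm⟩ }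

theorem φ_ne : r.mu d.t ≠ 0 := r.mu_ne d.e2.mem d.e2.ne

theorem tt : d.t * d.t = 1 := s.sqE _ d.e2.mem

theorem t_inv : d.t⁻¹ = d.t := inv_of_sq d.tt

theorem tT : d.t ∈ s.T := s.ET d.e2.mem

theorem TN : s.T ≤ N[d.S] := s.TB.trans d.BN

theorem x1_one : d.x1 1 = 0 := by rw [d.x1_R0 1 (one_mem _), r.aa_one]

theorem x1_inv {x : G} (hx : x ∈ d.S) : d.x1 x⁻¹ = d.x1 x := d.A_inv d.x1_mul d.x1_R0 hx

theorem x1_Y {y : G} (hy : y ∈ r.Y) : d.x1 y = 0 := by rw [d.x1_R0 y (r.YR0 hy), (r.mem_Y.1 hy).2.1]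

theorem x2_Y {y : G} (hy : y ∈ r.Y) : d.x2 y = 0 := d.swap.x1_Y hy

theorem kerx {x : G} (hx : x ∈ d.S) (h1 : d.x1 x = 0) (h2 : d.x2 x = 0) : x ∈ r.Y := by
  have := d.sum x hx
  rw [h1, h2, add_zero] at this
  have k := d.ker x hx ((mul_eq_zero.1 this.symm).resolve_left d.φ_ne)
  exact r.mem_Y.2 ⟨k.1, by rw [← d.x1_R0 x k, h1], (r.mem_R0.1 k).2⟩

theorem ontox (a b : F) : ∃ x ∈ d.S, d.x1 x = a ∧ d.x2 x = b := by
  obtain ⟨x, hx, h1, h2⟩ := d.exists_uA d.x1_mul d.x1_R0 ((a + b) / r.mu d.t) a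
  have := d.sum x hx
  rw [h1, h2, mul_div_cancel₀ _ d.φ_ne] at this
  exact ⟨x, hx, h2, add_left_cancel this⟩

theorem x1_t {x : G} (hx : x ∈ d.S) : d.x1 (d.t * x * d.t⁻¹) = d.x2 x := by
  obtain ⟨k, ka⟩ := d.e_cj d.e2.mem hx
  rw [show d.t * x * d.t⁻¹ = x * (x⁻¹ * (d.t * x * d.t⁻¹)) by group, d.x1_mul _ hx _ (d.R0S k), d.x1_R0 _ k, ka]
  have := d.sum x hx
  have := s.two
  grind

theorem x2_t {x : G} (hx : x ∈ d.S) : d.x2 (d.t * x * d.t⁻¹) = d.x1 x := d.swap.x1_t hx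

theorem y1_one : d.y1 1 = 0 := by simpa using d.y1_mul 1 (one_mem _) 1 (one_mem _)

theorem y2_one : d.y2 1 = 0 := d.swap.y1_one

theorem exty {y y' : G} (hy : y ∈ r.Y) (hy' : y' ∈ r.Y) (h1 : d.y1 y = d.y1 y') (h2 : d.y2 y = d.y2 y') : y = y' := by
  rw [← inv_of_sq (d.sqY hy'), ← mul_eq_one_iff_eq_inv]
  exact d.kery _ (mul_mem hy hy') (by rw [d.y1_mul _ hy _ hy', h1, s.add_self])
    (by rw [d.y2_mul _ hy _ hy', h2, s.add_self])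

theorem exists_sq {y : G} (hy : y ∈ r.Y) : ∃ x ∈ d.S, x * x = y := by
  rcases d.alt with h | h
  · obtain ⟨x, hx, h1, h2⟩ := d.ontox (d.y1 y) 1
    have : d.y1 (x * x) = d.y1 y := by rw [h.2 x hx, h1, h2, map_one, mul_one]
    exact ⟨x, hx, d.exty (d.sq_mem hx) hy this (by rw [h.1 _ hy, h.1 _ (d.sq_mem hx), this])⟩
  · obtain ⟨a, -, ha⟩ := s.exists_norm one_ne_zero (h.1 y hy).1
    obtain ⟨b, -, hb⟩ := s.exists_norm one_ne_zero (h.1 y hy).2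
    obtain ⟨x, hx, h1, h2⟩ := d.ontox (a * 1) (b * 1)
    exact ⟨x, hx, d.exty (d.sq_mem hx) hy (by rw [(h.2 x hx).1, h1, ha]) (by rw [(h.2 x hx).2, h2, hb])⟩

theorem nS_nY : N[d.S] ≤ N[r.Y] := fun g hg => mem_n fun y hy => by
  obtain ⟨x, hx, rfl⟩ := d.exists_sq hy
  rw [← conj_mul]
  exact d.sq_mem (cj hg hx)

theorem y1_cm {a b : G} (ha : a ∈ d.S) (hb : b ∈ d.S) :
    d.y1 (a * b * a⁻¹ * b⁻¹) = d.y1 (a * b * (a * b)) + d.y1 (a * a) + d.y1 (b * b) := by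
  rw [d.sq_mul ha hb, d.y1_mul _ (mul_mem (d.cm ha hb) (d.sq_mem ha)) _ (d.sq_mem hb),
    d.y1_mul _ (d.cm ha hb) _ (d.sq_mem ha)]
  have := s.two
  grind

theorem y2_cm {a b : G} (ha : a ∈ d.S) (hb : b ∈ d.S) :
    d.y2 (a * b * a⁻¹ * b⁻¹) = d.y2 (a * b * (a * b)) + d.y2 (a * a) + d.y2 (b * b) := d.swap.y1_cm ha hb

/-- the commutators with an involution outside `Y` fill `Y` -/
theorem inv_cm {v y : G} (hv : v ∈ d.S) (h : v ∉ r.Y) (h2 : v * v = 1) (hy : y ∈ r.Y) :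
    ∃ x ∈ d.S, x * v * x⁻¹ * v⁻¹ = y := by
  have two := s.two
  rcases d.alt with k | k
  · have e := k.2 v hv
    rw [h2, d.y1_one] at e
    suffices ∃ a b, a * τ (d.x2 v) + d.x1 v * τ b = d.y1 y by
      obtain ⟨a, b, e⟩ := this
      obtain ⟨x, hx, rfl, rfl⟩ := d.ontox a b
      have : d.y1 (x * v * x⁻¹ * v⁻¹) = d.y1 y := by
        rw [d.y1_cm hx hv, k.2 _ (mul_mem hx hv), k.2 _ hx, k.2 _ hv, d.x1_mul _ hx _ hv, d.x2_mul _ hx _ hv, map_add]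
        grind
      exact ⟨x, hx, d.exty (d.cm hx hv) hy this (by rw [k.1 _ hy, k.1 _ (d.cm hx hv), this])⟩
    by_cases h1 : d.x1 v = 0
    · have : τ (d.x2 v) ≠ 0 := fun h2 => h (d.kerx hv h1 (by simpa using h2))
      exact ⟨d.y1 y / τ (d.x2 v), 0, by rw [div_mul_cancel₀ _ this, h1, zero_mul, add_zero]⟩
    · exact ⟨0, τ (d.y1 y / d.x1 v), by rw [ττ, mul_div_cancel₀ _ h1, zero_mul, zero_add]⟩
  · have e := k.2 v hv
    rw [h2, d.y1_one, d.y2_one] at e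
    exact (h (d.kerx hv (by simpa using e.1) (by simpa using e.2))).elim

include d in
/-- conjugates of `t` do not centralize `Y` -/
theorem not_cY {a : G} (h : s.Ty a) : a ∉ C[r.Y] := fun k => by
  have n : a ∉ r.Y := fun hy => let ⟨_, _, e⟩ := d.exists_sq hy; Su.Ty.not_sq s h e
  have := (s.rk (V := r.Y) (fun v hv => d.sqY hv) h fun v hv => mem_C1.2 (mem_centralizer_iff.1 k v hv)).2 _ d.e2 n
  have h4 := s.four_le_card_Z
  rw [r.card_Y] at this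
  nlinarith

theorem ty : s.Ty d.t := ⟨1, d.t, d.e2.mem, d.e2.ne, by group⟩

theorem mem_Q {x : G} (hx : x ∈ d.S) (h : x ∈ s.C) : x ∈ s.Q := by
  have tR := r.ER d.e2.mem
  have e : x * d.t * x⁻¹ = d.t := cc (s.CcE h) d.e2.mem
  have a := d.aa_cj x hx _ tR
  rw [e] at a
  have k := d.ker x hx (by have := d.φ_ne; grind)
  have b := (r.comm_iff k.1 tR).1 (mul_inv_eq_iff_eq_mul.1 e)
  rw [bf, r.aa_E _ d.e2.mem, r.lam_E _ d.e2.mem, map_zero] at b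
  exact r.mem_Q.2 ⟨k.1, by have := d.φ_ne; grind, (r.mem_R0.1 k).2⟩

/-- the involutions of `t S₀` are conjugate to `t` under `S₀` -/
theorem fus {v : G} (h : v * d.t * v⁻¹ * d.t⁻¹ ∈ d.S) : ∃ x ∈ d.S, x⁻¹ * v ∈ s.C := by
  have tR := r.ER d.e2.mem
  have m0 := d.φ_ne
  have two := s.two
  have mk := r.mu_k _ tR
  have w2 : v * d.t * v⁻¹ * (v * d.t * v⁻¹) = 1 := by rw [conj_mul, d.tt]; group
  generalize hw : v * d.t * v⁻¹ = w at *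
  have e : w * d.t⁻¹ * (d.t * (w * d.t⁻¹) * d.t⁻¹) = 1 := by
    rw [show w * d.t⁻¹ * (d.t * (w * d.t⁻¹) * d.t⁻¹) = w * w * (d.t * d.t)⁻¹ by group, w2, d.tt]; group
  have a := d.x1_mul _ h _ (cj (d.TN d.tT) h)
  rw [e, d.x1_one, d.x1_t h, d.sum _ h] at a
  have k := d.ker _ h (by grind)
  have wR : w ∈ r.R := by simpa using mul_mem k.1 tR
  have wm : r.mu w = r.mu d.t := by
    have := (r.mem_R0.1 k).2
    rw [r.div_eq r.mu_mul wR tR] at this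
    grind
  have q := (r.sq_iff wR).1 w2
  rw [qf, d.k0, wm] at q
  obtain ⟨x, hx, hu⟩ := d.onto (r.aa w / r.mu d.t)
  have ha : r.aa w = d.uu x * r.mu d.t := by rw [hu, div_mul_cancel₀ _ m0]
  have w1 := cj (d.SR hx) wR
  have z : x * w * x⁻¹ * d.t⁻¹ ∈ s.Z := by
    rw [r.mem_Z, r.div_eq r.aa_mul w1 tR, r.div_eq r.lam_mul w1 tR, r.div_eq r.mu_mul w1 tR, d.aa_cj _ hx _ wR,
      d.lam_cj _ hx _ wR, d.mu_cj _ hx _ wR, r.aa_E _ d.e2.mem, r.lam_E _ d.e2.mem, wm]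
    rw [ha, map_mul, mk] at q
    rw [ha, map_mul, mk]
    exact ⟨mul_mem w1 (inv_mem tR), by grind, by grind, by grind⟩
  obtain ⟨b, hb, e⟩ := s.mem_Z.1 z
  obtain ⟨y, hy, y1, y2, y3⟩ := r.onto (b / r.mu d.t) (by rw [map_div₀, hb, mk])
  have yY := r.mem_Y.2 ⟨hy, y1, y3⟩
  have c := r.comm y hy _ tR
  rw [y1, y2, y3, map_zero, div_mul_cancel₀ _ m0] at c
  simp only [zero_mul, mul_zero, zero_add, add_zero, e, ← hw] at c
  refine ⟨x⁻¹ * y, mul_mem (inv_mem hx) (d.YS yY), ?_⟩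
  rw [← Su.E2.cen s d.e2, mem_C1, ← mul_inv_eq_iff_eq_mul]
  calc _ = y⁻¹ * (x * (v * d.t * v⁻¹) * x⁻¹ * d.t⁻¹) * d.t * y := by group
    _ = _ := by rw [← c]; group

/-- outer elements of `T` on `R₀/Y` -/
theorem out_aa {v : G} (hv : v ∈ s.T) {m : F} (h : ∀ x y, v * s.ι x * v⁻¹ = s.ι y → y.a = m * τ x.a) {x : G}
    (hx : x ∈ r.R0) : r.aa (v * x * v⁻¹) = m * τ (r.aa x) := by
  obtain ⟨u, y, hy, rfl⟩ := r.mem_R.1 hx.1
  have hy' : y ∈ r.Y := r.mem_Y.2 ⟨hy.1, (r.mem_D.1 hy).2, by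
    have := (r.mem_R0.1 hx).2
    rwa [r.mu_mul _ (r.ιR u) _ hy.1, r.mu_ι, zero_add] at this⟩
  obtain ⟨u', e⟩ := cj (s.TN hv) (s.ι_mem u)
  have k := cj (r.B_nY (s.TB hv)) hy'
  rw [← conj_mul, ← e, r.aa_mul _ (r.ιR _) _ k.1, r.aa_mul _ (r.ιR _) _ hy.1, r.aa_ι, r.aa_ι, (r.mem_Y.1 k).2.1,
    (r.mem_Y.1 hy').2.1, add_zero, add_zero, h u u' e.symm]

/-- outer elements of `T` on `S₀/R₀` -/
theorem out_uu {v : G} (hv : v ∈ s.T) {m : F} (h : ∀ x y, v * s.ι x * v⁻¹ = s.ι y → y.a = m * τ x.a) {x : G}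
    (hx : x ∈ d.S) : d.uu (v * x * v⁻¹) * r.mu d.t = m * τ (d.uu x * r.mu d.t) := by
  obtain ⟨k, ka⟩ := d.e_cj d.e2.mem hx
  obtain ⟨-, ka'⟩ := d.e_cj d.e2.mem (cj (d.TN hv) hx)
  rw [← ka, ← ka', ← out_aa hv h k]
  congr 1
  conv_lhs => rw [← cc (s.CcE (s.TC hv)) d.e2.mem]
  group

end Cfsg.Lib.U3F.RR.S2
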