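import Cfsg.Agent.Lib.U3F.Two3

/-!
# Case II, step 4: `S₀` is normal in a Sylow 2-subgroup
-/

set_option autoImplicit false

namespace Cfsg.Lib.U3F.RR.S2
open Subgroup Cfsg.Lib Cfsg.Lib.FT Cfsg.Lib.TwoL Cfsg.Lib.U3S

variable {G : Type*} [Group G] {F : Type*} [Field F] {τ : F ≃+* F} [Fact (Function.Involutive τ)] {s : Su G τ}
  {r : RR s} [Finite G] [Finite F] (d : r.S2)

theorem nrm {N : Subgroup G} (hN : d.t ∈ N[N]) (sq : ∀ v ∈ N, v * v ∈ d.S) (h : ¬ N ≤ d.S) :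
    ∃ v ∈ N, v ∉ d.S ∧ v * d.t * v⁻¹ * d.t⁻¹ ∈ d.S := by
  obtain ⟨v, hv, h⟩ := SetLike.not_le_iff_exists.1 h
  by_cases k : v * d.t * v⁻¹ * d.t⁻¹ ∈ d.S
  · exact ⟨v, hv, h, k⟩
  have m : v * d.t * v⁻¹ * d.t⁻¹ ∈ N := by simpa [mul_assoc] using mul_mem hv (cj hN (inv_mem hv))
  refine ⟨_, m, k, ?_⟩
  convert sq _ m using 1
  rw [show v * d.t * v⁻¹ * d.t⁻¹ * d.t * (v * d.t * v⁻¹ * d.t⁻¹)⁻¹ * d.t⁻¹ =
    v * d.t * v⁻¹ * d.t * v * d.t⁻¹ * v⁻¹ * d.t⁻¹ by group, d.t_inv]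
  group

omit [Finite G] [Finite F] in
theorem exists_moved (s : Su G τ) (m : F) : ∃ a, m * τ a ≠ a := by
  by_contra! h
  have := h 1
  rw [map_one, mul_one] at this
  exact s.lτ (by simpa [this] using h s.l)

variable {P : Subgroup G} (hP : IsPGroup 2 P) (TP : s.T ≤ P) (SP : d.S ≤ P) (PN : P ≤ N[d.S])
include hP TP SP PN

theorem key {v : G} (hv : v ∈ P) (h2 : v * v ∈ d.S) (h : v * d.t * v⁻¹ * d.t⁻¹ ∈ d.S) :
    v ∈ d.S ∨ v * d.t ∈ d.S ∨ ∃ x ∈ d.S, ∃ w ∈ s.T, s.Out w ∧ v = x * w := by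
  obtain ⟨x, hx, k⟩ := d.fus h
  have hT := s.mem_T hP TP (mul_mem (inv_mem (SP hx)) hv) k
  have q : x⁻¹ * v * (x⁻¹ * v) ∈ d.S := by
    have := mul_mem (mul_mem (inv_mem hx) (cj (PN hv) (inv_mem hx))) h2
    rwa [show x⁻¹ * (v * x⁻¹ * v⁻¹) * (v * v) = x⁻¹ * v * (x⁻¹ * v) by group] at this
  rcases s.N0_or_Out (s.TN hT) (s.Q_le_N0 (d.mem_Q q (mul_mem k k))) with n | n
  · obtain ⟨e, he, y, e1⟩ := s.mem_B0.1 (s.mem_B0_of_p2 n k (p2_of_mem s.syl.isPGroup hT))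
    rw [eq_inv_mul_iff_mul_eq] at e1
    rcases d.e2.eq e he with rfl | rfl
    · exact .inl (e1 ▸ mul_mem hx (mul_mem (one_mem _) (d.ιS y)))
    · refine .inr (.inl ?_)
      have := mul_mem hx (cj (d.TN d.tT) (d.ιS y))
      rwa [d.t_inv, ← mul_assoc, e1] at this
  · exact .inr (.inr ⟨x, hx, _, hT, n, by group⟩)

/-- `Y` is characteristic -/
theorem normY {g : G} (hg : g ∈ N[P]) : g ∈ N[r.Y] := by
  have two := s.two
  have PY : P ≤ N[r.Y] := PN.trans d.nS_nY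
  have n := le_normalizer_map_conj PY hg
  have le := map_conj_le_of_mem_normalizer (d.YS.trans SP) hg
  have card := card_map_of_injective (K := r.Y) (f := (MulAut.conj g).toMonoidHom) (MulAut.conj g).injective
  have sq : ∀ v ∈ r.Y.map (MulAut.conj g).toMonoidHom, v * v = 1 := by
    rintro _ ⟨y, hy, rfl⟩
    rw [← map_mul, d.sqY hy, map_one]
  refine mem_normalizer_of_map_conj_eq ?_
  generalize r.Y.map (MulAut.conj g).toMonoidHom = Y' at *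
  have cm : ∀ v ∈ Y', ∀ x ∈ d.S, v * x * v⁻¹ * x⁻¹ ∈ Y' := fun v hv x hx => by
    simpa [mul_assoc] using mul_mem hv (cj (n (SP hx)) (inv_mem hv))
  have four : ∀ w ∈ Y', w ∈ r.R0 → r.aa w = 0 := fun w hw h => by
    have := sq w hw
    rw [r.sq0 d.k0 h, s.zc_eq_one (by simp [mul_comm])] at this
    simpa using this
  have le' : Y' ≤ d.S := by
    by_contra h
    obtain ⟨v, hv, h1, h2⟩ := d.nrm (n (TP d.tT)) (fun v hv => by rw [sq v hv]; exact one_mem _) h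
    rcases d.key hP TP SP PN (le hv) (by rw [sq v hv]; exact one_mem _) h2 with k | k | ⟨x, hx, w, hw, ⟨-, m, -, o⟩, rfl⟩
    · exact h1 k
    · obtain ⟨x, hx, a1, a2⟩ := d.ontox 1 0
      have hx' := cj (d.TN d.tT) hx
      have e : v * x * v⁻¹ * x⁻¹ = v * d.t * (d.t * x * d.t⁻¹) * (v * d.t)⁻¹ * (d.t * x * d.t⁻¹)⁻¹ *
          (d.t * x * d.t⁻¹ * x⁻¹) := by
        rw [show v * d.t * (d.t * x * d.t⁻¹) * (v * d.t)⁻¹ = v * (d.t * d.t) * x * (d.t * d.t)⁻¹ * v⁻¹ by group, d.tt]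
        group
      have c := d.cm k hx'
      have m := mul_mem hx' (inv_mem hx)
      have b1 : d.x1 (v * x * v⁻¹ * x⁻¹) = 1 := by
        rw [e, d.x1_mul _ (d.YS c) _ m, d.x1_Y c, d.x1_mul _ hx' _ (inv_mem hx), d.x1_t hx, d.x1_inv hx, a1, a2]; ring
      have b2 : d.x2 (v * x * v⁻¹ * x⁻¹) = 1 := by
        rw [e, d.x2_mul _ (d.YS c) _ m, d.x2_Y c, d.x2_mul _ hx' _ (inv_mem hx), d.x2_t hx,
          show d.x2 x⁻¹ = d.x2 x from d.swap.x1_inv hx, a1, a2]; ring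
      have m' : v * x * v⁻¹ * x⁻¹ ∈ d.S := e ▸ mul_mem (d.YS c) m
      have u := d.sum _ m'
      have k0 := d.ker _ m' (by have := d.φ_ne; grind)
      rw [d.x1_R0 _ k0, four _ (cm v hv x hx) k0] at b1
      exact zero_ne_one b1
    · obtain ⟨a, ha⟩ := exists_moved s m
      obtain ⟨y, rfl⟩ := s.exists_a a
      have y0 := r.QR0 (s.ι_mem y)
      have y1 := r.QR0 (cj (s.TN hw) (s.ι_mem y))
      have y2 := r.nR0 (d.SR hx) (d.nY hx) y1
      have := four _ (cm _ hv _ (d.ιS y))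
      rw [show x * w * s.ι y * (x * w)⁻¹ = x * (w * s.ι y * w⁻¹) * x⁻¹ by group] at this
      have := this (mul_mem y2 (inv_mem y0))
      rw [r.div_eq r.aa_mul y2.1 y0.1, d.aa_cj _ hx _ y1.1, (r.mem_R0.1 y1).2, out_aa hw o y0, r.aa_ι] at this
      grind
  by_cases h : Y' ≤ r.Y
  · exact eq_of_le_of_card_ge h card.ge
  obtain ⟨v, hv, h⟩ := SetLike.not_le_iff_exists.1 h
  refine (eq_of_le_of_card_ge (fun y hy => ?_) card.le).symm
  obtain ⟨x, hx, rfl⟩ := d.inv_cm (le' hv) h (sq v hv) hy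
  exact mul_mem (cj (n (SP hx)) hv) (inv_mem hv)

/-- `S₀` is characteristic -/
theorem normS {g : G} (hg : g ∈ N[P]) : g ∈ N[d.S] := by
  have two := s.two
  have gY := d.normY hP TP SP PN hg
  have n := le_normalizer_map_conj PN hg
  have le := map_conj_le_of_mem_normalizer SP hg
  have card := card_map_of_injective (K := d.S) (f := (MulAut.conj g).toMonoidHom) (MulAut.conj g).injective
  have sq : ∀ v ∈ d.S.map (MulAut.conj g).toMonoidHom, v * v ∈ r.Y := by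
    rintro _ ⟨y, hy, rfl⟩
    rw [← map_mul]
    exact cj gY (d.sq_mem hy)
  have cm : ∀ v ∈ d.S.map (MulAut.conj g).toMonoidHom, ∀ w ∈ d.S.map (MulAut.conj g).toMonoidHom,
      v * w * v⁻¹ * w⁻¹ ∈ r.Y := by
    rintro _ ⟨y, hy, rfl⟩ _ ⟨z, hz, rfl⟩
    rw [← map_inv, ← map_inv, ← map_mul, ← map_mul, ← map_mul]
    exact cj gY (d.cm hy hz)
  have cY : d.S.map (MulAut.conj g).toMonoidHom ≤ C[r.Y] := by
    rintro _ ⟨y, hy, rfl⟩
    exact cj_c gY (d.cY hy)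
  have YX : r.Y ≤ d.S.map (MulAut.conj g).toMonoidHom := fun y hy => mem_map_conj.2 (d.YS (cj' gY hy))
  refine mem_normalizer_of_map_conj_eq ?_
  generalize d.S.map (MulAut.conj g).toMonoidHom = X at *
  refine eq_of_le_of_card_ge ?_ card.ge
  by_contra h
  have tX := n (TP d.tT)
  have nt : ∀ v ∈ X, v * d.t ∉ d.S := fun v hv k => d.not_cY d.ty (by simpa using mul_mem (inv_mem (cY hv)) (d.cY k))
  have key : ∀ v ∈ X, v * d.t * v⁻¹ * d.t⁻¹ ∈ d.S → v ∈ d.S ∨ ∃ x ∈ d.S, ∃ w ∈ s.T, s.Out w ∧ v = x * w :=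
    fun v hv k => (d.key hP TP SP PN (le hv) (d.YS (sq v hv)) k).imp_right fun k => k.resolve_left (nt v hv)
  let X1 : Subgroup G :=
    { carrier := {v | v ∈ X ∧ v * d.t * v⁻¹ * d.t⁻¹ ∈ d.S}
      one_mem' := ⟨one_mem _, by simp⟩
      mul_mem' := by
        rintro v w ⟨hv, v1⟩ ⟨hw, w1⟩
        refine ⟨mul_mem hv hw, ?_⟩
        convert mul_mem (cj (PN (le hv)) w1) v1 using 1
        group
      inv_mem' := by
        rintro v ⟨hv, v1⟩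
        refine ⟨inv_mem hv, ?_⟩
        convert cj' (PN (le hv)) (inv_mem v1) using 1
        group }
  have i1 : Idx2 (X ⊓ d.S) X1 := by
    refine ⟨fun v hv => ⟨hv.1, ?_⟩, fun v hv w hw => ?_⟩
    · simpa [mul_assoc] using mul_mem hv.2 (cj (d.TN d.tT) (inv_mem hv.2))
    rcases key v hv.1 hv.2 with k | ⟨x, hx, a, ha, oa, rfl⟩
    · exact .inl ⟨hv.1, k⟩
    rcases key w hw.1 hw.2 with k | ⟨y, hy, b, hb, ob, rfl⟩
    · exact .inr (.inl ⟨hw.1, k⟩)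
    refine .inr (.inr ⟨mul_mem hv.1 hw.1, ?_⟩)
    have p := p2_of_mem s.syl.isPGroup (mul_mem ha hb)
    obtain ⟨e, he, z, e1⟩ := s.mem_B0.1 (s.mem_B0_of_p2 (Su.Out.mul s oa ob p) (s.TC (mul_mem ha hb)) p)
    have k := mul_mem hx (cj (d.TN ha) hy)
    have e2 : x * a * (y * b) = x * (a * y * a⁻¹) * (e * s.ι z) := by rw [e1]; group
    rcases d.e2.eq e he with rfl | rfl
    · exact e2 ▸ mul_mem k (mul_mem (one_mem _) (d.ιS z))
    · refine (nt _ (mul_mem hv.1 hw.1) ?_).elim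
      have := mul_mem k (cj (d.TN d.tT) (d.ιS z))
      rwa [d.t_inv, ← mul_assoc, ← e2] at this
  have ct : ∀ v ∈ X, v * d.t * v⁻¹ * d.t⁻¹ ∈ X1 := fun v hv => by
    have m : v * d.t * v⁻¹ * d.t⁻¹ ∈ X := by simpa [mul_assoc] using mul_mem hv (cj tX (inv_mem hv))
    refine ⟨m, ?_⟩
    convert d.YS (sq _ m) using 1
    rw [show v * d.t * v⁻¹ * d.t⁻¹ * d.t * (v * d.t * v⁻¹ * d.t⁻¹)⁻¹ * d.t⁻¹ =
      v * d.t * v⁻¹ * d.t * v * d.t⁻¹ * v⁻¹ * d.t⁻¹ by group, d.t_inv]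
    group
  have i2 : Idx2 X1 X := by
    refine ⟨fun v hv => hv.1, fun v hv w hw => ?_⟩
    refine (i1.2 _ (ct v hv) _ (ct w hw)).imp (fun k => ⟨hv, k.2⟩) (Or.imp (fun k => ⟨hw, k.2⟩) fun k => ⟨mul_mem hv hw, ?_⟩)
    have := mul_mem (d.YS (cm v hv _ (ct w hw).1)) (mul_mem (d.YS (cm _ (ct w hw).1 _ (ct v hv).1)) k.2)
    convert this using 1
    group
  have ix : (X ⊓ d.S).relIndex d.S ≤ 4 := by
    rw [← relIndex_eq_of_card card inf_le_left inf_le_right, ← relIndex_mul_relIndex _ _ _ i1.1 i2.1]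
    rcases i1.relIndex_le with a | a <;> rcases i2.relIndex_le with b | b <;> rw [a, b] <;> norm_num
  obtain ⟨v, hv, h1, h2⟩ := d.nrm tX (fun v hv => d.YS (sq v hv)) h
  obtain ⟨x, hx, w, hw, ⟨-, m, -, o⟩, rfl⟩ := (key v hv h2).resolve_left h1
  have fix : ∀ y ∈ X ⊓ d.S, w * y * w⁻¹ * y⁻¹ ∈ r.Y := fun y hy => by
    have := mul_mem (inv_mem (d.cm hx (cj (d.TN hw) hy.2))) (cm _ hv _ hy.1)
    convert this using 1
    group
  have f1 : ∀ y ∈ X ⊓ d.S, y ∈ r.R0 → m * τ (r.aa y) = r.aa y := fun y hy k => by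
    have := (r.mem_Y.1 (fix y hy)).2.1
    rw [r.div_eq r.aa_mul (cj (r.B_nR (s.TB hw)) k.1) k.1, out_aa hw o k] at this
    grind
  have f2 : ∀ y ∈ X ⊓ d.S, m * τ (d.uu y * r.mu d.t) = d.uu y * r.mu d.t := fun y hy => by
    have := d.uu_R0 (r.YR0 (fix y hy))
    rw [d.uu_mul _ (cj (d.TN hw) hy.2) _ (inv_mem hy.2), d.uu_inv hy.2] at this
    rw [← d.out_uu hw o hy.2]
    grind
  obtain ⟨a, ha⟩ := exists_moved s m
  obtain ⟨c, c1, c2, c3⟩ := s.four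
  obtain ⟨y, hy⟩ := s.exists_a a
  obtain ⟨z, hz⟩ := s.exists_a (c * a)
  obtain ⟨u, hu, uu⟩ := d.onto (a / r.mu d.t)
  have y0 := r.QR0 (s.ι_mem y)
  have z0 := r.QR0 (s.ι_mem z)
  have f3 : ∀ y ∈ r.R0, y * u ∉ X ⊓ d.S := fun y k hy => ha (by
    have := f2 _ hy
    rwa [d.uu_mul _ (d.R0S k) _ hu, d.uu_R0 k, zero_add, uu, div_mul_cancel₀ _ d.φ_ne] at this)
  rcases ph4 ix (fun x hx => ⟨YX (d.sq_mem hx), mul_mem hx hx⟩) (d.ιS y) (d.ιS z) hu with k | k | k | k | k | k | k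
  · have := f1 _ k y0
    rw [r.aa_ι, hy] at this
    exact ha this
  · have := f1 _ k z0
    rw [r.aa_ι, hz, map_mul, c1] at this
    grind
  · have := f1 _ k (mul_mem y0 z0)
    rw [r.aa_mul _ y0.1 _ z0.1, r.aa_ι, r.aa_ι, hy, hz, map_add, map_mul, c1] at this
    grind
  · exact f3 1 (one_mem _) (by rwa [one_mul])
  · exact f3 _ y0 k
  · exact f3 _ z0 k
  · exact f3 _ (mul_mem y0 z0) k

omit hP TP SP PN in
theorem exists_syl : ∃ P, IsSylowIn 2 P ⊤ ∧ s.T ≤ P ∧ d.S ≤ P ∧ P ≤ N[d.S] := by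
  obtain ⟨P, hP, le⟩ := exists_isSylowIn_ge (d.p2.to_sup_of_normal_left' s.syl.isPGroup d.TN)
    (sup_le le_normalizer d.TN)
  have SP := le_sup_left.trans le
  have TP := le_sup_right.trans le
  refine ⟨P, syl_of_norm hP.isPGroup fun P' h le' g hg n => ?_, TP, SP, hP.le⟩
  rw [← hP.maximal (P' ⊓ N[d.S]) h.to_inf_left inf_le_right (le_inf le' hP.le)]
  exact ⟨hg, d.normS hP.isPGroup TP SP hP.le n⟩

end Cfsg.Lib.U3F.RR.S2
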